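import Mathlib
import Cfsg.Prelude.Def_CaseTheorems
import Cfsg.Prelude.Def_Involutions
import Cfsg.Prelude.Def_LieChev
import Cfsg.Agent.Loc.MssRed
import Cfsg.Agent.NE.Tools
import Cfsg.Agent.Spor.ESLarge

/-!
Simple groups of characteristic 2 type and 2-rank three: the standing hypothesis and first consequences.
See `stubs/Cfsg/Agent/Rk3/PLAN.md`.
-/

set_option autoImplicit false
set_option linter.unusedSectionVars false

namespace Cfsg.Agent.Rk3

open Cfsg Subgroup Cfsg.Agent.GT Cfsg.Agent.Loc.Mss Cfsg.Agent.NE Cfsg.Agent.Spor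

/-- The standing hypothesis. -/
structure Hyp (G : Type*) [Group G] : Prop where
  simple : IsSimpleGroup G
  nab : ¬ IsMulCommutative G
  chp : ∀ T : Subgroup G, IsPGroup 2 T → T ≠ ⊥ → ChP 2 𝐍[T]
  r3 : ∀ A : Subgroup G, (∀ a ∈ A, a * a = 1) → Nat.card A ≤ 8
  nse : ∀ H : Subgroup G, ¬ IsStronglyEmbedded H
  zst : ∀ z : G, z * z = 1 → z ≠ 1 → ∃ g : G, g * z * g⁻¹ ≠ z ∧ z * (g * z * g⁻¹) = g * z * g⁻¹ * z
  n8 : ∃ T E : Subgroup G, Syl 2 T ⊤ ∧ E ≤ T ∧ T ≤ 𝐍[E] ∧ (∀ e ∈ E, e * e = 1) ∧ Nat.card E = 8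

variable {G : Type*} [Group G]

/-- An elementary abelian subgroup of order eight. -/
structure E8 (V : Subgroup G) : Prop where
  sq : ∀ v ∈ V, v * v = 1
  card : Nat.card V = 8

/-- `a, b, c` are independent (for commuting involutions). -/
def Ind (a b c : G) : Prop := a ≠ 1 ∧ b ≠ 1 ∧ b ≠ a ∧ c ≠ 1 ∧ c ≠ a ∧ c ≠ b ∧ c ≠ a * b

/-- Every automorphism of `V` is induced by conjugation. -/
def Full (V : Subgroup G) : Prop :=
  ∀ a ∈ V, ∀ b ∈ V, ∀ c ∈ V, ∀ a' ∈ V, ∀ b' ∈ V, ∀ c' ∈ V, Ind a b c → Ind a' b' c' →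
    ∃ m ∈ 𝐍[V], m * a * m⁻¹ = a' ∧ m * b * m⁻¹ = b' ∧ m * c * m⁻¹ = c'

/-- `D` is normal in `C(z)` and `D / ⟨z⟩` is elementary abelian. -/
structure DD (z : G) (D : Subgroup G) : Prop where
  z_mem : z ∈ D
  z_ne : z ≠ 1
  z_sq : z * z = 1
  z_comm : ∀ d ∈ D, z * d = d * z
  sq : ∀ d ∈ D, d * d = 1 ∨ d * d = z
  norm : ∀ c, z * c = c * z → ∀ d ∈ D, c * d * c⁻¹ ∈ D

/-- `D` is almost extraspecial, normal in `C(z)`, and contains the elements of `C(D)` with square in `⟨z⟩`. -/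
structure Mx (z : G) (D : Subgroup G) : Prop where
  aes : AES D z
  norm : ∀ c, z * c = c * z → ∀ d ∈ D, c * d * c⁻¹ ∈ D
  cen : ∀ a, (∀ d ∈ D, a * d = d * a) → (a * a = 1 ∨ a * a = z) → a ∈ D

/-- `F` is an elementary abelian TI-subgroup with normaliser `N`. -/
structure TI (F N : Subgroup G) : Prop where
  sq : ∀ e ∈ F, e * e = 1
  le : F ≤ N
  norm : N ≤ 𝐍[F]
  ti : ∀ e ∈ F, e ≠ 1 → ∀ g : G, g * e * g⁻¹ ∈ F → g ∈ N

/-- The conclusion. -/
def IsG23 (G : Type*) [Group G] : Prop :=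
  ∃ (F : Type) (_ : Field F) (_ : Fintype F), Fintype.card F = 3 ∧ Nonempty (G ≃* ↥(Cfsg.Lie.chevG2.group F))

/-- `O₂(C(t))`. -/
def RR (t : G) : Subgroup G := pCoreOf 2 (centralizer {t})

/-- The commutator of `d` with the involution `t`. -/
def ze (t d : G) : G := d⁻¹ * (t * d * t⁻¹)

/-- The elements of `C(z)` acting trivially on `V` modulo `⟨z⟩`. -/
def Tv (V : Subgroup G) (z : G) : Subgroup G := centralizer {z} ⊓ cmod V (zpowers z)

/-- `⟨z, a, b⟩`. -/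
def Qs (z a b : G) : Subgroup G := ext (ext (ext ⊥ z) a) b

/-- `D` is the central product of the quaternion groups `⟨a, b⟩` and `⟨a', b'⟩`. -/
structure Q2 (D : Subgroup G) (z a b a' b' : G) : Prop where
  es : ES2 D z
  card : Nat.card D = 32
  ma : a ∈ D
  mb : b ∈ D
  ma' : a' ∈ D
  mb' : b' ∈ D
  sa : a * a = z
  sb : b * b = z
  sa' : a' * a' = z
  sb' : b' * b' = z
  ab : a * b ≠ b * a
  ab' : a' * b' ≠ b' * a'
  c1 : a * a' = a' * a
  c2 : a * b' = b' * a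
  c3 : b * a' = a' * b
  c4 : b * b' = b' * b

theorem Q2.swap {D : Subgroup G} {z a b a' b' : G} (q : Q2 D z a b a' b') : Q2 D z a' b' a b :=
  ⟨q.es, q.card, q.ma', q.mb', q.ma, q.mb, q.sa', q.sb', q.sa, q.sb, q.ab', q.ab, q.c1.symm, q.c3.symm, q.c2.symm,
    q.c4.symm⟩

theorem mem_Tv {V : Subgroup G} {z r : G} (hz : z * z = 1) :
    r ∈ Tv V z ↔ r * z = z * r ∧ ∀ v ∈ V, Eqv z (r * v * r⁻¹) v := by
  rw [Tv, mem_inf, Rec.mem_cen, mem_cmod]
  refine and_congr_right fun h => ?_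
  have h1 : r ∈ 𝐍[zpowers z] := cent_le_norm _ (mem_cent.2 fun a ha => (comm_zpowers h ha).symm)
  have k : ∀ v : G, (v * r * v⁻¹ * r⁻¹)⁻¹ ∈ zpowers z ↔ Eqv z (r * v * r⁻¹) v := fun v => by
    rw [mem_zpowers_iff_of_sq hz, show (v * r * v⁻¹ * r⁻¹)⁻¹ = r * v * r⁻¹ * v⁻¹ by group, mul_inv_eq_one,
      mul_inv_eq_iff_eq_mul (c := z), Eqv]
  simp only [h1, true_and, commutatorElement_def, ← k, inv_mem_iff]

theorem norm_Tv {X V : Subgroup G} {z : G} (hV : X ≤ 𝐍[V]) (hz : X ≤ centralizer {z}) : X ≤ 𝐍[Tv V z] :=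
  norm_inf (norm_of_le hz) (norm_cmod hV fun r hr =>
    cent_le_norm _ (mem_cent.2 fun _ ha => (comm_zpowers (Rec.mem_cen.1 (hz hr)) ha).symm))

theorem DD.comm {z : G} {D : Subgroup G} (h : DD z D) : ∀ x ∈ D, ∀ y ∈ D, x * y = y * x ∨ x * y = z * (y * x) := by
  intro x hx y hy
  have hz : ∀ a ∈ D, a⁻¹ = a ∨ a⁻¹ = z * a := fun a ha => (h.sq a ha).imp inv_of_sq fun e => by
    rw [inv_eq_iff_mul_eq_one, ← mul_assoc, ← h.z_comm a ha, mul_assoc, e, h.z_sq]
  have zz := sq_cancel h.z_sq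
  have k := hz _ (mul_mem hx hy)
  rw [mul_inv_rev] at k
  have zy := comm_assoc (h.z_comm y hy).symm
  rcases hz x hx with a | a <;> rcases hz y hy with b | b <;> rw [a, b] at k <;> rcases k with k | k <;>
    try simp only [mul_assoc, zy, zz] at k
  all_goals first
    | exact Or.inl k.symm
    | exact Or.inr k.symm
    | exact Or.inr (by rw [k, zz])
    | exact Or.inl (mul_left_cancel k).symm

theorem DD.aes {z : G} {D : Subgroup G} (h : DD z D)
    (ho : ∀ x ∈ D, x * x = 1 → (∀ q ∈ D, x * q = q * x) → x = 1 ∨ x = z) : AES D z :=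
  ⟨h.z_mem, h.z_ne, h.z_sq, h.z_comm, h.comm, h.sq, ho⟩

theorem Mx.conj {z : G} {D : Subgroup G} (h : Mx z D) (g : G) : Mx (g * z * g⁻¹) cj(g, D) where
  aes := h.aes.conj g
  norm := fun c hc d hd => by
    rw [mem_cj] at hd ⊢
    simpa [mul_assoc] using h.norm _ (conj_comm_iff.1 hc) _ hd
  cen := fun a ha h2 => by
    rw [mem_cj]
    refine h.cen _ (fun d hd => ?_) (h2.imp (fun e => ?_) fun e => ?_)
    · simpa [mul_assoc] using conj_comm g⁻¹ (ha _ (conj_mem_cj hd))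
    · simpa using Rec.conj_sq (g := g⁻¹) e
    · calc _ = g⁻¹ * (a * a) * g := by group
        _ = z := by rw [e]; group

variable [Finite G]

/-- The subgroup does not depend on the conjugating element. -/
theorem Mx.cj_eq {z : G} {D : Subgroup G} (h : Mx z D) {g k : G} (e : g * z * g⁻¹ = k * z * k⁻¹) :
    cj(g, D) = cj(k, D) := by
  have h1 : z * (k⁻¹ * g) = k⁻¹ * g * z := by
    calc _ = k⁻¹ * (k * z * k⁻¹) * g := by group
      _ = _ := by rw [← e]; group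
  rw [show g = k * (k⁻¹ * g) by group, ← cj_cj, cj_eq_of_le (cj_le_iff.2 (h.norm _ h1))]

theorem pg_RR (t : G) : IsPGroup 2 (RR t) := pg_core _
theorem RR_le (t : G) : RR t ≤ centralizer {t} := GT.pCoreOf_le _
theorem norm_RR (t : G) : centralizer {t} ≤ 𝐍[RR t] := le_norm_core _
theorem RR_conj (g t : G) : RR (g * t * g⁻¹) = cj(g, RR t) := pCoreOf_centralizer_conj 2 g t

theorem cent_zpowers (t : G) : 𝐂[zpowers t] = centralizer {t} := by
  rw [zpowers_eq_closure, centralizer_closure]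

theorem le_RR {t : G} {P : Subgroup G} (hP : IsPGroup 2 P) (h : P ≤ centralizer {t}) (hn : centralizer {t} ≤ 𝐍[P]) :
    P ≤ RR t := Loc.Am.le_pCoreOf h hn hP

theorem mem_RR {t : G} (h : t * t = 1) : t ∈ RR t :=
  le_RR (isPGroup_zpowers (k := 1) (by rw [pow_one, pow_two, h])) (by simp [Rec.mem_cen])
    (cent_zpowers t ▸ cent_le_norm _) (mem_zpowers t)

theorem E8.comm {V : Subgroup G} (h : E8 V) {a b : G} (ha : a ∈ V) (hb : b ∈ V) : a * b = b * a :=
  comm_of_sq h.sq ha hb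

theorem E8.conj {V : Subgroup G} (h : E8 V) (g : G) : E8 cj(g, V) :=
  ⟨fun v hv => by simpa [mul_assoc] using Rec.conj_sq (g := g) (h.sq _ (mem_cj.1 hv)), by rw [card_cj, h.card]⟩

/-- The group generated by three independent commuting involutions. -/
theorem e8_of {a b c : G} (ha : a * a = 1) (hb : b * b = 1) (hc : c * c = 1) (ab : a * b = b * a)
    (ac : a * c = c * a) (bc : b * c = c * b) (h : Ind a b c) : E8 (ext (ext (ext ⊥ a) b) c) ∧
      ∀ g, g ∈ ext (ext (ext ⊥ a) b) c ↔ (g = 1 ∨ g = a ∨ g = b ∨ g = a * b) ∨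
        g = c ∨ g = a * c ∨ g = b * c ∨ g = a * b * c := by
  obtain ⟨h1, h2, h3, h4, h5, h6, h7⟩ := h
  have k : ∀ {x y g : G}, x * x = 1 → (x * g = y ↔ g = x * y) := fun hx =>
    ⟨fun e => by rw [← e, sq_cancel hx], fun e => by rw [e, sq_cancel hx]⟩
  obtain ⟨a1, a2, a3⟩ := ext_elem (A := ⊥) (by simp) ha (by simp)
  simp only [mem_bot, k ha, mul_one] at a1
  obtain ⟨b1, b2, b3⟩ := ext_elem a2 hb fun x hx => by rcases (a1 x).1 hx with rfl | rfl <;> simp [ab]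
  simp only [a1, k hb, mul_one, ← ab, or_assoc] at b1
  obtain ⟨c1, c2, c3⟩ := ext_elem b2 hc fun x hx => by
    rcases (b1 x).1 hx with rfl | rfl | rfl | rfl
    exacts [by simp, ac.symm, bc.symm, (Commute.mul_left ac bc).symm.eq]
  refine ⟨⟨c2, ?_⟩, fun g => ?_⟩
  · rw [c3 (by rw [b1]; tauto), b3 (by rw [a1]; tauto), a3 (by simpa using h1), card_bot]
  · simp only [c1, b1, k hc, mul_one, ← ac, ← bc, ← (Commute.mul_left ac bc).eq]

/-- The elements of an elementary abelian group of order eight in terms of a basis. -/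
theorem E8.cases {V : Subgroup G} (h : E8 V) {a b c : G} (ha : a ∈ V) (hb : b ∈ V) (hc : c ∈ V) (hi : Ind a b c)
    {g : G} (hg : g ∈ V) : (g = 1 ∨ g = a ∨ g = b ∨ g = a * b) ∨ g = c ∨ g = a * c ∨ g = b * c ∨ g = a * b * c := by
  obtain ⟨h1, h2⟩ := e8_of (h.sq a ha) (h.sq b hb) (h.sq c hc) (h.comm ha hb) (h.comm ha hc) (h.comm hb hc) hi
  exact (h2 g).1 ((eq_of_le_of_card_ge (by simp [ext_le, ha, hb, hc]) (h.card.trans h1.card.symm).le).ge hg)

/-- A subset of size at most `n` misses an element of a larger subgroup. -/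
theorem exists_not_mem {A : Subgroup G} (l : List G) (h : l.length < Nat.card A) : ∃ x ∈ A, x ∉ l := by
  by_contra! e
  classical
  have := Set.ncard_le_ncard (s := (A : Set G)) (t := (l.toFinset : Set G)) fun x hx => by simpa using e x hx
  rw [Set.ncard_coe_finset, ← Nat.card_coe_set_eq] at this
  exact absurd (this.trans l.toFinset_card_le) (not_le.2 h)

theorem E8.exists_third {V : Subgroup G} (h : E8 V) {a b : G} (h1 : a ≠ 1) (h2 : b ≠ 1) (h3 : b ≠ a) :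
    ∃ c ∈ V, Ind a b c := by
  obtain ⟨c, hc, e⟩ := exists_not_mem (A := V) [1, a, b, a * b] (by rw [h.card]; simp)
  simp only [List.mem_cons, List.not_mem_nil, or_false, not_or] at e
  exact ⟨c, hc, h1, h2, h3, e⟩

theorem E8.exists_second {V : Subgroup G} (h : E8 V) {a : G} (h1 : a ≠ 1) : ∃ b ∈ V, ∃ c ∈ V, Ind a b c := by
  obtain ⟨b, hb, e⟩ := exists_not_mem (A := V) [1, a] (by rw [h.card]; simp)
  simp only [List.mem_cons, List.not_mem_nil, or_false, not_or] at e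
  exact ⟨b, hb, h.exists_third h1 e.1 e.2⟩

/-- A subgroup that contains the product of any two elements outside it has index at most two. -/
theorem card_le_two_mul {A B : Subgroup G} (h : ∀ a ∈ A, ∀ b ∈ A, a ∉ B → b ∉ B → a * b ∈ B) :
    Nat.card A ≤ 2 * Nat.card (A ⊓ B : Subgroup G) := by
  by_cases e : A ≤ B
  · rw [inf_eq_left.2 e]; omega
  obtain ⟨a, ha, haB⟩ := SetLike.not_le_iff_exists.1 e
  have hn : a ∈ 𝐍[A ⊓ B] := mem_norm_of_cj_le (cj_le_iff.2 fun x hx => by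
    obtain ⟨h1, h2⟩ := mem_inf.1 hx
    exact mem_inf.2 ⟨mul_mem (mul_mem ha h1) (inv_mem ha),
      h _ (mul_mem ha h1) _ (inv_mem ha) (fun k => haB ((mul_mem_cancel_right h2).1 k)) (by simpa using haB)⟩)
  have h2 : a * a ∈ A ⊓ B := ⟨mul_mem ha ha, h a ha a ha haB haB⟩
  rw [← card_ext hn h2 fun k => haB k.2]
  refine card_le_of_le fun x hx => (mem_ext hn h2).2 ?_
  by_cases k : x ∈ B
  exacts [.inl ⟨hx, k⟩, .inr ⟨mul_mem ha hx, h a ha x hx haB k⟩]

namespace Hyp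

variable (h : Hyp G)
include h

/-- An involution centralising an elementary abelian group of order eight lies in it. -/
theorem mem_of_comm {V : Subgroup G} (hV : E8 V) {x : G} (hx : x * x = 1) (hc : ∀ v ∈ V, x * v = v * x) : x ∈ V := by
  by_contra e
  obtain ⟨-, h2, h3⟩ := ext_elem hV.sq hx hc
  have := h.r3 _ h2
  rw [h3 e, hV.card] at this
  omega

/-- Four commuting involutions are dependent. -/
theorem no16 {a b c d : G} (ha : a * a = 1) (hb : b * b = 1) (hc : c * c = 1) (hd : d * d = 1) (ab : a * b = b * a)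
    (ac : a * c = c * a) (bc : b * c = c * b) (ad : a * d = d * a) (bd : b * d = d * b) (cd : c * d = d * c)
    (hi : Ind a b c) : (d = 1 ∨ d = a ∨ d = b ∨ d = a * b) ∨ d = c ∨ d = a * c ∨ d = b * c ∨ d = a * b * c := by
  obtain ⟨h1, h2⟩ := e8_of ha hb hc ab ac bc hi
  refine (h2 d).1 (h.mem_of_comm h1 hd fun v hv => (Rec.mem_cen.1 ?_).symm)
  exact (show _ ≤ centralizer {d} by simp [ext_le, Rec.mem_cen, ad, bd, cd]) hv

theorem chp_cent {T : Subgroup G} (hT : IsPGroup 2 T) (h0 : T ≠ ⊥) : ChP 2 𝐂[T] :=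
  haveI : Fact (Nat.Prime 2) := ⟨Nat.prime_two⟩
  (h.chp T hT h0).of_normal (cent_le_norm T) (norm_cent le_rfl)

theorem chp_cen {t : G} (h2 : t * t = 1) (h1 : t ≠ 1) : ChP 2 (centralizer {t}) :=
  cent_zpowers t ▸ h.chp_cent (isPGroup_zpowers (k := 1) (by rw [pow_one, pow_two, h2])) (by simpa using h1)

/-- `C(O₂(C(t))) ≤ O₂(C(t))`. -/
theorem mem_RR_of_comm {t : G} (h2 : t * t = 1) (h1 : t ≠ 1) {x : G} (hx : ∀ r ∈ RR t, r * x = x * r) : x ∈ RR t :=
  h.chp_cen h2 h1 ⟨Rec.mem_cen.2 (hx t (mem_RR h2)).symm, mem_cent.2 hx⟩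

theorem eq_bot_of_normal {N : Subgroup G} (hN : IsPGroup 2 N) (hn : ⊤ ≤ 𝐍[N]) : N = ⊥ := by
  have := h.simple
  rcases (normal_of_top hn).eq_bot_or_eq_top with e | e
  · exact e
  · subst e
    haveI : Fact (Nat.Prime 2) := ⟨Nat.prime_two⟩
    haveI := (pg_top.mp hN).isNilpotent
    exact absurd (⟨⟨IsSimpleGroup.comm_iff_isSolvable.mpr inferInstance⟩⟩ : IsMulCommutative G) h.nab

end Hyp

end Cfsg.Agent.Rk3
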