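import Mathlib
import Cfsg.Agent.Rk3.Defs

/-!
Two more configurations, the commutator map of an involution, and subgroups invariant under `N(V) ∩ C(z)`.
See `stubs/Cfsg/Agent/Rk3/PLAN.md`.
-/

set_option autoImplicit false
set_option linter.unusedSectionVars false

namespace Cfsg.Agent.Rk3

open Cfsg Subgroup Cfsg.Agent.GT Cfsg.Agent.Loc.Mss Cfsg.Agent.NE Cfsg.Agent.Spor
open scoped commutatorElement

variable {G : Type*} [Group G]

/-- A perfect subgroup centralising every elementary abelian subgroup it normalises. -/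
structure PK (K : Subgroup G) : Prop where
  perf : ⁅K, K⁆ = K
  ne : K ≠ ⊥
  chp : ChP 2 𝐍[K]
  cen : ∀ F : Subgroup G, (∀ e ∈ F, e * e = 1) → K ≤ 𝐍[F] → K ≤ 𝐂[F]
  ti : ∀ F : Subgroup G, (∀ e ∈ F, e * e = 1) → 𝐍[K] ≤ 𝐍[F] → TI F 𝐍[K]

/-- An elementary abelian group of order eight with full automiser, and one of its involutions. -/
structure St (V : Subgroup G) (z : G) : Prop where
  hyp : Hyp G
  e8 : E8 V
  full : Full V
  mem : z ∈ V
  ne : z ≠ 1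

theorem eqv_one_iff {z x : G} : Eqv z x 1 ↔ x = 1 ∨ x = z := by rw [Eqv, mul_one]

theorem eqv_iff_mem {z x y : G} (hz : z * z = 1) : Eqv z x y ↔ x * y⁻¹ ∈ zpowers z := by
  rw [mem_zpowers_iff_of_sq hz, mul_inv_eq_one, mul_inv_eq_iff_eq_mul (c := z), Eqv]

/-! ### The map `ze t` -/

theorem mul_ze (t d : G) : d * ze t d = t * d * t⁻¹ := by rw [ze, mul_inv_cancel_left]

theorem ze_eq_one {t d : G} : ze t d = 1 ↔ t * d = d * t := by
  rw [ze, inv_mul_eq_one, eq_mul_inv_iff_mul_eq, eq_comm]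

theorem ze_mul (t d e : G) : ze t (d * e) = e⁻¹ * ze t d * e * ze t e := by simp only [ze]; group

theorem conj_ze (c t d : G) : c * ze t d * c⁻¹ = ze (c * t * c⁻¹) (c * d * c⁻¹) := by simp only [ze]; group

theorem ze_mul_self {t : G} (ht : t * t = 1) (d : G) : ze t d * t = d⁻¹ * t * d := by
  rw [ze, inv_of_sq ht, mul_assoc, mul_assoc, ht, mul_one, mul_assoc]

theorem inverts_ze {t : G} (ht : t * t = 1) (d : G) : t * ze t d * t⁻¹ = (ze t d)⁻¹ := by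
  simp only [ze, inv_of_sq ht, mul_inv_rev, inv_inv, mul_assoc, sq_cancel ht, ht, mul_one]

theorem comm_ze {t d : G} (ht : t * t = 1) (h : ze t d * ze t d = 1) : t * ze t d = ze t d * t :=
  comm_of_conj_eq ((inverts_ze ht d).trans (inv_of_sq h))

theorem ze_mem {D : Subgroup G} {t d : G} (hn : ∀ d ∈ D, t * d * t⁻¹ ∈ D) (hd : d ∈ D) : ze t d ∈ D :=
  mul_mem (inv_mem hd) (hn d hd)

section aes

variable {D : Subgroup G} {z t d e : G}

theorem zmod2 (a : ZMod 2) : a + a = 0 := CharTwo.add_self_eq_zero a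

theorem ze_mul_eqv (h : AES D z) (hn : ∀ d ∈ D, t * d * t⁻¹ ∈ D) (hd : d ∈ D) (he : e ∈ D) :
    Eqv z (ze t (d * e)) (ze t d * ze t e) := by
  rw [ze_mul]
  simpa using (h.eqv_conj (inv_mem he) (ze_mem hn hd)).mul_right (ze t e)

theorem sq_mul_of_comm (k : d * e = e * d) : d * e * (d * e) = d * d * (e * e) := by
  rw [mul_assoc, ← mul_assoc e, ← k]; simp only [mul_assoc]

theorem sq_mul_of_ne (h : AES D z) (hd : d ∈ D) (he : e ∈ D) (k : d * e ≠ e * d) :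
    d * e * (d * e) = z * (d * d * (e * e)) := by
  rw [mul_assoc, ← mul_assoc e, h.eq_of_ne he hd k.symm]
  simp only [mul_assoc, comm_assoc (h.z_comm d hd).symm]

open Classical in
/-- The squaring map. -/
noncomputable def qf (x : G) : ZMod 2 := if x * x = 1 then 0 else 1

theorem qf_eq_zero : qf d = 0 ↔ d * d = 1 := by by_cases k : d * d = 1 <;> simp [qf, k]

theorem qf_eq_one (h : AES D z) (hd : d ∈ D) : qf d = 1 ↔ d * d = z := by
  rcases h.sq d hd with k | k <;> simp [qf, k, h.z_ne, h.z_ne.symm]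

/-- The squaring map is a quadratic form. -/
theorem qf_mul (h : AES D z) (hd : d ∈ D) (he : e ∈ D) : qf (d * e) = qf d + qf e + bf d e := by
  by_cases k : d * e = e * d
  · rw [bf_eq_zero.2 k, qf, qf, qf, sq_mul_of_comm k]
    rcases h.sq d hd with a | a <;> rcases h.sq e he with b | b <;> simp [a, b, h.z_ne, h.z_sq, zmod2]
  · rw [bf_eq_one.2 k, qf, qf, qf, sq_mul_of_ne h hd he k]
    rcases h.sq d hd with a | a <;> rcases h.sq e he with b | b <;> simp [a, b, h.z_ne, h.z_sq, zmod2]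

theorem qf_conj (c x : G) : qf (c * x * c⁻¹) = qf x := by
  by_cases k : x * x = 1 <;> simp [qf, k]

theorem qf_inv (x : G) : qf x⁻¹ = qf x := by
  have e : x⁻¹ * x⁻¹ = 1 ↔ x * x = 1 := by rw [← mul_inv_rev, inv_eq_one]
  by_cases k : x * x = 1
  · rw [qf_eq_zero.2 k, qf_eq_zero.2 (e.2 k)]
  · rw [qf, qf, if_neg k, if_neg (mt e.1 k)]

theorem sq_eqv (h : AES D z) (he : e ∈ D) (k : Eqv z d e) : d * d = e * e := by
  rcases k with rfl | rfl
  · rfl
  · rw [mul_assoc, comm_assoc (h.z_comm e he).symm, h.z_mul_z_mul]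

theorem sq_conj (h : AES D z) (hd : d ∈ D) {c : G} (hc : z * c = c * z) : c * d * c⁻¹ * (c * d * c⁻¹) = d * d := by
  rw [← conj_mul']
  rcases h.sq d hd with k | k <;> rw [k]
  exacts [by simp, conj_eq_of_comm hc.symm]

theorem bf_conj_conj (c x y : G) : bf (c * x * c⁻¹) (c * y * c⁻¹) = bf x y :=
  bf_congr ⟨comm_of_conj, conj_comm c⟩

theorem bf_invol (ht : t * t = 1) (x y : G) : bf (t * x * t⁻¹) y = bf x (t * y * t⁻¹) := by
  rw [bf_conj, inv_of_sq ht]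

/-- The values of `ze t` commute. -/
theorem ze_comm (h : AES D z) (ht : t * t = 1) (hn : ∀ d ∈ D, t * d * t⁻¹ ∈ D) (hd : d ∈ D) (he : e ∈ D) :
    ze t d * ze t e = ze t e * ze t d := by
  rw [← bf_eq_zero, ze, h.bf_mul_left (inv_mem hd) (hn d hd) (ze_mem hn he), ze,
    h.bf_mul_right (inv_mem he) (hn e he) (inv_mem hd), h.bf_mul_right (inv_mem he) (hn e he) (hn d hd),
    bf_conj_conj, bf_inv_left, bf_inv_left, bf_inv_right, bf_inv_right, bf_invol ht d e, add_comm (bf d e)]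
  rw [add_assoc, ← add_assoc (bf d e), add_comm (bf d e), add_assoc, zmod2, add_zero, zmod2]

theorem qf_eqv (h : AES D z) (he : e ∈ D) (k : Eqv z d e) : qf d = qf e := by rw [qf, qf, sq_eqv h he k]

theorem qf_ze (h : AES D z) (hn : ∀ d ∈ D, t * d * t⁻¹ ∈ D) (hd : d ∈ D) : qf (ze t d) = bf d (t * d * t⁻¹) := by
  rw [ze, qf_mul h (inv_mem hd) (hn d hd), qf_conj, qf_inv, zmod2, zero_add, bf_inv_left]

/-- `d ↦ bf d (t d t⁻¹)` is additive. -/
theorem bf_ze_mul (h : AES D z) (ht : t * t = 1) (hn : ∀ d ∈ D, t * d * t⁻¹ ∈ D) (hd : d ∈ D) (he : e ∈ D) :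
    bf (d * e) (t * (d * e) * t⁻¹) = bf d (t * d * t⁻¹) + bf e (t * e * t⁻¹) := by
  rw [conj_mul', h.bf_mul_left hd he (mul_mem (hn d hd) (hn e he)), h.bf_mul_right (hn d hd) (hn e he) hd,
    h.bf_mul_right (hn d hd) (hn e he) he, bf_comm e (t * d * t⁻¹), bf_invol ht d e, add_assoc,
    ← add_assoc (bf d (t * e * t⁻¹)), zmod2, zero_add]

end aes

variable [Finite G]

/-- The elements of `C(z)` acting trivially on `O₂(C(z)) / ⟨z⟩` lie in `O₂(C(z))`. -/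
theorem Hyp.Tv_RR_le (h : Hyp G) {z : G} (h2 : z * z = 1) (h1 : z ≠ 1) : Tv (RR z) z ≤ RR z := by
  refine le_RR (pg_iff.2 fun x hx => ?_) inf_le_left (norm_Tv (norm_RR z) le_rfl)
  obtain ⟨a, b⟩ := (mem_Tv h2).1 hx
  have c : ∀ r ∈ RR z, x * (x * r * x⁻¹) * x⁻¹ = r := fun r hr => by
    rcases b r hr with e | e
    · rw [e, e]
    · rw [e, conj_mul', e, conj_eq_of_comm a, sq_cancel h2]
  obtain ⟨k, hk⟩ := pg_iff.1 (pg_RR z) (x * x)
    (h.mem_RR_of_comm h2 h1 fun r hr => (comm_of_conj_eq (conj_conj x x r ▸ c r hr)).symm)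
  exact ⟨k + 1, by rw [pow_succ', pow_mul, pow_two, hk]⟩

namespace St

variable {V : Subgroup G} {z : G} (s : St V z)
include s

theorem sq : z * z = 1 := s.e8.sq z s.mem

theorem of_mem {v : G} (hv : v ∈ V) (h1 : v ≠ 1) : St V v := ⟨s.hyp, s.e8, s.full, hv, h1⟩

theorem le_cen : V ≤ centralizer {z} := fun _ hv => Rec.mem_cen.2 (s.e8.comm hv s.mem)

/-- `N(V)` is transitive on the involutions of `V`. -/
theorem trans1 {v : G} (hv : v ∈ V) (h1 : v ≠ 1) : ∃ m ∈ 𝐍[V], m * z * m⁻¹ = v := by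
  obtain ⟨b, hb, c, hc, h⟩ := s.e8.exists_second s.ne
  obtain ⟨b', hb', c', hc', h'⟩ := s.e8.exists_second h1
  obtain ⟨m, hm, e, -⟩ := s.full z s.mem b hb c hc v hv b' hb' c' hc' h h'
  exact ⟨m, hm, e⟩

/-- `N(V) ∩ C(z)` realises every basis change fixing `z`. -/
theorem trans3 {u w u' w' : G} (hu : u ∈ V) (hw : w ∈ V) (hu' : u' ∈ V) (hw' : w' ∈ V) (h : Ind z u w)
    (h' : Ind z u' w') : ∃ m ∈ 𝐍[V] ⊓ centralizer {z}, m * u * m⁻¹ = u' ∧ m * w * m⁻¹ = w' := by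
  obtain ⟨m, hm, e, e'⟩ := s.full z s.mem u hu w hw z s.mem u' hu' w' hw' h h'
  exact ⟨m, ⟨hm, Rec.mem_cen.2 (comm_of_conj_eq e)⟩, e'⟩

theorem trans2 {u u' : G} (hu : u ∈ V) (hu' : u' ∈ V) (h1 : u ≠ 1) (h2 : u ≠ z) (h1' : u' ≠ 1) (h2' : u' ≠ z) :
    ∃ m ∈ 𝐍[V] ⊓ centralizer {z}, m * u * m⁻¹ = u' := by
  obtain ⟨w, hw, h⟩ := s.e8.exists_third s.ne h1 h2
  obtain ⟨w', hw', h'⟩ := s.e8.exists_third s.ne h1' h2'
  exact (s.trans3 hu hw hu' hw' h h').imp fun _ h => ⟨h.1, h.2.1⟩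

/-- An invariant subgroup containing `z` meets `V` in `⟨z⟩` or contains it. -/
theorem inv_or {F : Subgroup G} (hz : z ∈ F) (hn : 𝐍[V] ⊓ centralizer {z} ≤ 𝐍[F]) :
    (∀ v ∈ F, v ∈ V → v = 1 ∨ v = z) ∨ V ≤ F := by
  refine or_iff_not_imp_left.2 fun h w hw => ?_
  push Not at h
  obtain ⟨v, h1, h2, h3, h4⟩ := h
  by_cases k1 : w = 1
  · exact k1 ▸ one_mem _
  by_cases k2 : w = z
  · exact k2 ▸ hz
  obtain ⟨m, hm, rfl⟩ := s.trans2 h2 hw h3 h4 k1 k2
  exact conj_mem_of_norm (hn hm) h1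

theorem Tv_le_norm : Tv V z ≤ 𝐍[V] := fun r hr => mem_norm_of_cj_le (cj_le_iff.2 fun v hv => by
  rcases ((mem_Tv s.sq).1 hr).2 v hv with e | e <;> rw [e]
  exacts [hv, mul_mem s.mem hv])

theorem le_Tv : V ≤ Tv V z := fun _ hr => (mem_Tv s.sq).2
  ⟨s.e8.comm hr s.mem, fun _ hv => .inl (conj_eq_of_comm (s.e8.comm hr hv))⟩

theorem norm_Tv' : 𝐍[V] ⊓ centralizer {z} ≤ 𝐍[Tv V z] := norm_Tv inf_le_left inf_le_right

/-- A normal `2`-subgroup of `N(V) ∩ C(z)` acts trivially on `V / ⟨z⟩`. -/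
theorem le_Tv_of_pg {X : Subgroup G} (hX : IsPGroup 2 X) (hle : X ≤ 𝐍[V] ⊓ centralizer {z})
    (hn : 𝐍[V] ⊓ centralizer {z} ≤ 𝐍[X]) : X ≤ Tv V z := by
  have hz : centralizer {z} ≤ 𝐍[zpowers z] := cent_zpowers z ▸ cent_le_norm _
  have h1 : V ≤ 𝐍[V] ⊓ centralizer {z} := le_inf le_normalizer s.le_cen
  obtain ⟨x, hx, hx1, -, hx2⟩ := exists_central_mod (S := V ⊔ X) (N := zpowers z) (K := V)
    (pg_sup' (isPGroup_of_sq s.e8.sq) hX (hle.trans inf_le_left)) (((sup_le h1 hle).trans inf_le_right).trans hz)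
    le_sup_left ((sup_le h1 hle).trans inf_le_left) fun e => by
      have := card_le_of_le e
      rw [s.e8.card, card_zpowers_of_sq s.ne s.sq] at this
      omega
  rw [mem_zpowers_iff_of_sq s.sq] at hx1
  have k : ∀ v, v ∈ Tv X z ↔ v * z = z * v ∧ ∀ r ∈ X, v * r * v⁻¹ * r⁻¹ ∈ zpowers z := fun v => by
    simp only [mem_Tv s.sq, eqv_iff_mem s.sq]
  rcases s.inv_or (F := Tv X z) ((mem_Tv s.sq).2 ⟨rfl, fun r hr =>
    .inl (conj_eq_of_comm (Rec.mem_cen.1 (hle hr).2).symm)⟩) (norm_Tv hn inf_le_right) with e | e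
  · refine absurd (e x ((k x).2 ⟨s.e8.comm hx s.mem, fun r hr => ?_⟩) hx) hx1
    simpa [mul_assoc] using inv_mem (hx2 r (mem_sup_right hr))
  · refine fun r hr => (mem_Tv s.sq).2 ⟨Rec.mem_cen.1 (hle hr).2, fun v hv => (eqv_iff_mem s.sq).2 ?_⟩
    simpa [mul_assoc] using inv_mem (((k v).1 (e hv)).2 r hr)

end St

end Cfsg.Agent.Rk3
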