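import Mathlib
import Cfsg.Agent.Rk3.Defs2

/-!
The quadratic form of an almost extraspecial group.
-/

set_option autoImplicit false
set_option linter.unusedSectionVars false

namespace Cfsg.Agent.Rk3

open Cfsg Subgroup Cfsg.Agent.GT Cfsg.Agent.Loc.Mss Cfsg.Agent.NE Cfsg.Agent.Spor
open scoped commutatorElement

variable {G : Type*} [Group G] [Finite G]

variable {D A U : Subgroup G} {z : G}

theorem exists_not_mem_of_card_lt {A B : Subgroup G} (h : Nat.card B < Nat.card A) : ∃ a ∈ A, a ∉ B :=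
  SetLike.not_le_iff_exists.1 fun e => absurd (card_le_of_le e) (not_le.2 h)

theorem AES.norm_of_mem (h : AES D z) (hA : A ≤ D) (hz : z ∈ A) : D ≤ 𝐍[A] := fun d hd =>
  mem_norm_of_cj_le (cj_le_iff.2 fun a ha => by
    rcases h.conj_eq hd (hA ha) with e | e <;> rw [e]
    exacts [ha, mul_mem hz ha])

theorem AES.sq_mem (h : AES D z) (hz : z ∈ A) {d : G} (hd : d ∈ D) : d * d ∈ A := by
  rcases h.sq d hd with e | e <;> rw [e]
  exacts [one_mem _, hz]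

theorem AES.ext (h : AES D z) (hA : A ≤ D) (hz : z ∈ A) {d : G} (hd : d ∈ D) :
    (∀ g, g ∈ ext A d ↔ g ∈ A ∨ d * g ∈ A) ∧ Nat.card (ext A d) ≤ 2 * Nat.card A := by
  refine ⟨fun g => mem_ext (AES.norm_of_mem h hA hz hd) (AES.sq_mem h hz hd), ?_⟩
  by_cases k : d ∈ A
  · exact (card_le_of_le (ext_le.2 ⟨le_rfl, k⟩)).trans (by omega)
  · exact (card_ext (AES.norm_of_mem h hA hz hd) (AES.sq_mem h hz hd) k).le

theorem zmod_cases (a : ZMod 2) : a = 0 ∨ a = 1 := by revert a; decide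

theorem qf_ne (h : ¬ z * z = 1) : qf z = 1 := (zmod_cases _).resolve_left (mt qf_eq_zero.1 h)

theorem sv (h : AES D z) (hA : A ≤ D) (hU : U ≤ A) (hz : z ∈ U) (hsq : ∀ u ∈ U, u * u = 1)
    (hc : ∀ u ∈ U, ∀ a ∈ A, u * a = a * u) (h8 : 8 * Nat.card U ≤ Nat.card A) : ∃ s ∈ A, s ∉ U ∧ s * s = 1 := by
  by_contra! k
  have h0 : 0 < Nat.card U := Nat.card_pos
  obtain ⟨a, ha, a1⟩ := exists_not_mem_of_card_lt (A := A) (B := U) (by omega)
  obtain ⟨m1, c1⟩ := AES.ext h (hU.trans hA) hz (hA ha)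
  have l1 : ext U a ≤ A := ext_le.2 ⟨hU, ha⟩
  obtain ⟨b, hb, b1⟩ := exists_not_mem_of_card_lt (A := A) (B := ext U a) (by omega)
  obtain ⟨m2, c2⟩ := AES.ext h (l1.trans hA) (le_ext _ _ hz) (hA hb)
  obtain ⟨c, hc', c3⟩ := exists_not_mem_of_card_lt (A := A) (B := ext (ext U a) b) (by omega)
  simp only [m2, m1, not_or] at b1 c3
  have q : ∀ {x}, x ∈ A → x ∉ U → qf x = 1 := fun h1 h2 => qf_ne (k _ h1 h2)
  have e1 := q (mul_mem ha hb) b1.2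
  have e2 := q (mul_mem ha hc') c3.1.2
  have e3 := q (mul_mem ha (mul_mem hb hc')) c3.2.2
  rw [qf_mul h (hA ha) (hA hb), q ha a1, q hb b1.1, zmod2, zero_add] at e1
  rw [qf_mul h (hA ha) (hA hc'), q ha a1, q hc' c3.1.1, zmod2, zero_add] at e2
  rw [qf_mul h (hA ha) (hA (mul_mem hb hc')), q ha a1, q (mul_mem hb hc') c3.2.1, zmod2, zero_add,
    h.bf_mul_right (hA hb) (hA hc') (hA ha), e1, e2] at e3
  exact absurd e3 (by decide)

/-- Orbit-stabiliser bound. -/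
theorem card_le_orbit {x : G} (l : List G) (h : ∀ g ∈ A, g * x * g⁻¹ ∈ l) :
    Nat.card A ≤ l.length * Nat.card (A ⊓ centralizer {x} : Subgroup G) := by
  classical
  rw [← Inv.Fz.card_mul_relIndex (inf_le_left : A ⊓ centralizer {x} ≤ A), mul_comm]
  refine Nat.mul_le_mul_right _ (le_trans ?_ l.toFinset_card_le)
  rw [← Fintype.card_coe, ← Nat.card_eq_fintype_card]
  have k : ∀ a b : A, (a : G) * x * a⁻¹ = b * x * b⁻¹ ↔ a⁻¹ * b ∈ (A ⊓ centralizer {x}).subgroupOf A := fun a b => by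
    rw [inf_subgroupOf_left, mem_subgroupOf, Rec.mem_cen, coe_mul, coe_inv]
    refine ⟨fun e => ?_, fun e => ?_⟩
    · calc _ = (a : G)⁻¹ * (b * x * b⁻¹) * b := by simp [mul_assoc]
        _ = _ := by rw [← e]; simp [mul_assoc]
    · calc _ = (a : G) * (x * ((a : G)⁻¹ * b)) * (b : G)⁻¹ := by simp [mul_assoc]
        _ = _ := by rw [← e]; simp [mul_assoc]
  refine Nat.card_le_card_of_injective (Quotient.lift (fun a : A => (⟨a * x * a⁻¹, by simpa using h a a.2⟩ : l.toFinset))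
    fun a b e => Subtype.ext ((k a b).2 (QuotientGroup.leftRel_apply.1 e))) ?_
  rintro ⟨a⟩ ⟨b⟩ e
  exact Quotient.sound (QuotientGroup.leftRel_apply.2 ((k a b).1 (congrArg Subtype.val e)))

theorem card_le_cen (h : AES D z) (hA : A ≤ D) {s : G} (hs : s ∈ D) :
    Nat.card A ≤ 2 * Nat.card (A ⊓ centralizer {s} : Subgroup G) :=
  card_le_orbit [s, z * s] fun g hg => by simpa using h.conj_eq (hA hg) hs

theorem q8 (h : AES D z) (hA : A ≤ D) (hU : U ≤ A) (hz : z ∈ U) (hsq : ∀ u ∈ U, u * u = 1)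
    (hc : ∀ u ∈ U, ∀ a ∈ A, u * a = a * u) (h8 : 8 * Nat.card U ≤ Nat.card A)
    (hn : ∀ s ∈ A, ∀ s' ∈ A, s * s = 1 → s' * s' = 1 → s * s' = s' * s → s ∈ U ∨ s' ∈ U ∨ s * s' ∈ U) :
    ∃ a ∈ A, ∃ b ∈ A, a * a = z ∧ b * b = z ∧ a * b * (a * b) = z := by
  have h0 : 0 < Nat.card U := Nat.card_pos
  obtain ⟨s, hs, s1, s2⟩ := sv h hA hU hz hsq hc h8
  obtain ⟨m1, c1⟩ := AES.ext h (hU.trans hA) hz (hA hs)
  have l1 : ext U s ≤ A := ext_le.2 ⟨hU, hs⟩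
  have c0 := card_le_cen h hA (hA hs)
  obtain ⟨b, hb, b1⟩ := exists_not_mem_of_card_lt (A := A ⊓ centralizer {s}) (B := ext U s) (by omega)
  obtain ⟨hb, bs⟩ := mem_inf.1 hb
  obtain ⟨m2, c2⟩ := AES.ext h (l1.trans hA) (le_ext _ _ hz) (hA hb)
  obtain ⟨c, hc', c3⟩ := exists_not_mem_of_card_lt (A := A) (B := ext (ext U s) b) (by omega)
  simp only [m2, m1, not_or] at b1 c3
  have q : ∀ {x}, x ∈ A → bf s x = 0 → x ∉ U → s * x ∉ U → qf x = 1 := fun h1 h2 h3 h4 =>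
    qf_ne fun e => by simpa [s1, h3, h4] using hn s hs _ h1 s2 e (bf_eq_zero.1 h2)
  have sb : bf s b = 0 := bf_eq_zero.2 (Rec.mem_cen.1 bs).symm
  have qb := q hb sb b1.1 b1.2
  have qs := qf_eq_zero.2 s2
  have fin : ∀ {x y}, x ∈ A → y ∈ A → qf x = 1 → qf y = 1 → bf x y = 1 →
      ∃ a ∈ A, ∃ b ∈ A, a * a = z ∧ b * b = z ∧ a * b * (a * b) = z := fun hx hy h1 h2 h3 =>
    ⟨_, hx, _, hy, (qf_eq_one h (hA hx)).1 h1, (qf_eq_one h (hA hy)).1 h2,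
      (qf_eq_one h (hA (mul_mem hx hy))).1 (by rw [qf_mul h (hA hx) (hA hy), h1, h2, h3]; rfl)⟩
  have key : ∀ {c}, c ∈ A → qf c = 1 → bf s c = 1 →
      ∃ a ∈ A, ∃ b ∈ A, a * a = z ∧ b * b = z ∧ a * b * (a * b) = z := fun {c} hc' h1 h2 => by
    rcases zmod_cases (bf b c) with e | e
    · exact fin (mul_mem hs hb) hc' (by rw [qf_mul h (hA hs) (hA hb), qs, qb, sb]; rfl) h1
        (by rw [h.bf_mul_left (hA hs) (hA hb) (hA hc'), h2, e]; rfl)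
    · exact fin hb hc' qb h1 e
  rcases zmod_cases (bf s c) with e | e
  · have qc := q hc' e c3.1.1 c3.1.2
    have qbc := q (mul_mem hb hc') (by rw [h.bf_mul_right (hA hb) (hA hc') (hA hs), sb, e]; rfl) c3.2.1 c3.2.2
    rw [qf_mul h (hA hb) (hA hc'), qb, qc, zmod2, zero_add] at qbc
    exact fin hb hc' qb qc qbc
  · rcases zmod_cases (qf c) with e' | e'
    · exact key (mul_mem hs hc') (by rw [qf_mul h (hA hs) (hA hc'), qs, e', e]; rfl)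
        (by rw [h.bf_mul_right (hA hs) (hA hc') (hA hs), bf_self, e]; rfl)
    · exact key hc' e' e

theorem exists_e8 (h : AES D z) (h64 : 64 ≤ Nat.card D) : ∃ E ≤ D, E8 E := by
  have hz := @mem_zpowers_iff_of_sq _ _ _ h.z_sq
  have c0 := card_zpowers_of_sq h.z_ne h.z_sq
  have z1 : ∀ u ∈ zpowers z, u * u = 1 := fun u hu => by rcases hz.1 hu with rfl | rfl <;> simp [h.z_sq]
  have z2 : ∀ u ∈ zpowers z, ∀ a ∈ D, u * a = a * u := fun u hu a ha => (comm_zpowers (h.z_comm a ha).symm hu).symm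
  obtain ⟨s, hs, s1, s2⟩ := sv h le_rfl (by simpa using h.z_mem) (mem_zpowers z) z1 z2 (by omega)
  obtain ⟨m1, m2, m3⟩ := ext_elem z1 s2 fun a ha => (z2 a ha s hs).symm
  have l1 : ext (zpowers z) s ≤ D := ext_le.2 ⟨by simpa using h.z_mem, hs⟩
  have c1 := card_le_cen h le_rfl hs
  have k : ∀ u ∈ ext (zpowers z) s, ∀ a ∈ D ⊓ centralizer {s}, u * a = a * u := fun u hu a ha =>
    Rec.mem_cen.1 ((show ext (zpowers z) s ≤ centralizer {a} from ext_le.2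
      ⟨fun v hv => Rec.mem_cen.2 (z2 v hv a ha.1), Rec.mem_cen.2 (Rec.mem_cen.1 ha.2).symm⟩) hu)
  obtain ⟨r, hr, r1, r2⟩ := sv h (A := D ⊓ centralizer {s}) inf_le_left
    (fun u hu => ⟨l1 hu, Rec.mem_cen.2 (k u hu s ⟨hs, Rec.mem_cen.2 rfl⟩)⟩) (le_ext _ _ (mem_zpowers z)) m2 k
    (by rw [m3 s1]; omega)
  obtain ⟨-, n2, n3⟩ := ext_elem m2 r2 fun a ha => (k a ha r hr).symm
  exact ⟨_, ext_le.2 ⟨l1, hr.1⟩, n2, by rw [n3 r1, m3 s1, c0]⟩

theorem nst (h : AES D z) (hA : A ≤ D) (hU : U ≤ A) (hsq : ∀ u ∈ U, u * u = 1)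
    (hc : ∀ u ∈ U, ∀ a ∈ A, u * a = a * u) {s e c : G} (hs : s ∈ A) (hss : s * s = 1) (he : e ∈ A)
    (hse : s * e ≠ e * s) (hcz : z * c = c * z)
    (hv : ∀ a ∈ A, c * a * c⁻¹ * a⁻¹ ∈ U ∨ s * (c * a * c⁻¹ * a⁻¹) ∈ U) :
    ∀ a ∈ A, c * a * c⁻¹ * a⁻¹ ∈ U := by
  have k : ∀ a ∈ A, bf s a = 1 → c * a * c⁻¹ * a⁻¹ ∈ U := fun a ha e => (hv a ha).resolve_right fun hu => by
    have e1 := qf_conj c a
    rw [show c * a * c⁻¹ = s * (s * (c * a * c⁻¹ * a⁻¹) * a) by rw [← mul_assoc, sq_cancel hss]; group,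
      qf_mul h (hA hs) (hA (mul_mem (hU hu) ha)), qf_mul h (hA (hU hu)) (hA ha),
      h.bf_mul_right (hA (hU hu)) (hA ha) (hA hs), qf_eq_zero.2 hss, qf_eq_zero.2 (hsq _ hu),
      bf_eq_zero.2 (hc _ hu a ha), bf_eq_zero.2 (hc _ hu s hs).symm, e] at e1
    simp at e1
  intro a ha
  rcases zmod_cases (bf s a) with e' | e'
  · have h1 := k e he (bf_eq_one.2 hse)
    have h2 := k (e * a) (mul_mem he ha) (by rw [h.bf_mul_right (hA he) (hA ha) (hA hs), e', bf_eq_one.2 hse]; rfl)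
    have h3 := mul_mem (inv_mem h1) h2
    rw [show c * a * c⁻¹ * a⁻¹ = e⁻¹ * ((c * e * c⁻¹ * e⁻¹)⁻¹ * (c * (e * a) * c⁻¹ * (e * a)⁻¹) * e) by group,
      hc _ h3 e he, inv_mul_cancel_left]
    exact h3
  · exact k a ha e'

theorem Hyp.s1 (h : Hyp G) (hD : AES D z) {t d e : G} (ht : t * t = 1) (htD : t ∉ D) (hz : z * t = t * z)
    (hn : ∀ d ∈ D, t * d * t⁻¹ ∈ D) (hd : d ∈ D) (he : e ∈ D) (h1 : ze t d * ze t d = 1) (h2 : ze t e * ze t e = 1) :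
    Eqv z (ze t d) 1 ∨ Eqv z (ze t e) 1 ∨ Eqv z (ze t d) (ze t e) := by
  by_contra k
  simp only [Eqv, mul_one, not_or] at k
  have a := ze_mem hn hd
  have b := ze_mem hn he
  have := h.no16 hD.z_sq h1 h2 ht (hD.z_comm _ a) (hD.z_comm _ b) (ze_comm hD ht hn hd he) hz (comm_ze ht h1).symm
    (comm_ze ht h2).symm ⟨hD.z_ne, k.1.1, k.1.2, k.2.1.1, k.2.1.2, Ne.symm k.2.2.1,
      fun e' => k.2.2.2 (by rw [e', hD.z_mul_z_mul])⟩
  refine htD ?_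
  rcases this with (e' | e' | e' | e') | e' | e' | e' | e' <;> rw [e'] <;>
    simp only [one_mem, a, b, hD.z_mem, mul_mem]

theorem mem_center_iff {x : G} : x ∈ D ⊓ 𝐂[D] ↔ x ∈ D ∧ ∀ d ∈ D, x * d = d * x :=
  mem_inf.trans (and_congr_right fun _ => mem_cent.trans (forall₂_congr fun _ _ => eq_comm))

theorem par (h : AES D z) : Nat.card D ≠ 8 * Nat.card (D ⊓ 𝐂[D] : Subgroup G) := by
  intro h8
  have h0 : 0 < Nat.card (D ⊓ 𝐂[D] : Subgroup G) := Nat.card_pos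
  have hz : z ∈ D ⊓ 𝐂[D] := mem_center_iff.2 ⟨h.z_mem, h.z_comm⟩
  obtain ⟨a, ha, a1⟩ := exists_not_mem_of_card_lt (A := D) (B := D ⊓ 𝐂[D]) (by omega)
  obtain ⟨b, hb, ab⟩ : ∃ b ∈ D, a * b ≠ b * a := by
    by_contra! e
    exact a1 (mem_center_iff.2 ⟨ha, e⟩)
  have c1 := card_le_cen h le_rfl ha
  have c2 := card_le_cen h (inf_le_left : D ⊓ centralizer {a} ≤ D) hb
  obtain ⟨c, hc, c3⟩ := exists_not_mem_of_card_lt (A := D ⊓ centralizer {a} ⊓ centralizer {b}) (B := D ⊓ 𝐂[D]) (by omega)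
  obtain ⟨⟨hc, ca⟩, cb⟩ := hc
  obtain ⟨d, hd, cd⟩ : ∃ d ∈ D, c * d ≠ d * c := by
    by_contra! e
    exact c3 (mem_center_iff.2 ⟨hc, e⟩)
  -- `D` is generated by the centre and `a, b, c`
  have l1 : ext (D ⊓ 𝐂[D]) a ≤ D := ext_le.2 ⟨inf_le_left, ha⟩
  have l2 : ext (ext (D ⊓ 𝐂[D]) a) b ≤ D := ext_le.2 ⟨l1, hb⟩
  have n1 := card_ext (AES.norm_of_mem h inf_le_left hz ha) (AES.sq_mem h hz ha) a1
  have k1 : ext (D ⊓ 𝐂[D]) a ≤ centralizer {a} :=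
    ext_le.2 ⟨fun x hx => Rec.mem_cen.2 ((mem_center_iff.1 hx).2 a ha), Rec.mem_cen.2 rfl⟩
  have n2 := card_ext (AES.norm_of_mem h l1 (le_ext _ _ hz) hb) (AES.sq_mem h (le_ext _ _ hz) hb)
    fun e => ab (Rec.mem_cen.1 (k1 e)).symm
  have z2 : z ∈ ext (ext (D ⊓ 𝐂[D]) a) b := le_ext _ _ (le_ext _ _ hz)
  have n3 := card_ext (AES.norm_of_mem h l2 z2 hc) (AES.sq_mem h z2 hc) fun e => by
    have m1 := (AES.ext h inf_le_left hz ha).1
    rcases ((AES.ext h l1 (le_ext _ _ hz) hb).1 c).1 e with e | e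
    · rcases (m1 c).1 e with e | e
      · exact c3 e
      · have := bf_eq_zero.2 ((mem_center_iff.1 e).2 b hb)
        rw [h.bf_mul_left ha hc hb, bf_eq_one.2 ab, bf_eq_zero.2 (Rec.mem_cen.1 cb)] at this
        exact absurd this (by decide)
    · have := bf_eq_zero.2 (Rec.mem_cen.1 (k1 e))
      rw [h.bf_mul_left hb hc ha, bf_eq_one.2 ab.symm, bf_eq_zero.2 (Rec.mem_cen.1 ca)] at this
      exact absurd this (by decide)
  have := (eq_of_le_of_card_ge (ext_le.2 ⟨l2, hc⟩) (by omega)).ge.trans (show _ ≤ centralizer {c} from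
    ext_le.2 ⟨ext_le.2 ⟨ext_le.2 ⟨fun x hx => Rec.mem_cen.2 ((mem_center_iff.1 hx).2 c hc),
      Rec.mem_cen.2 (Rec.mem_cen.1 ca).symm⟩, Rec.mem_cen.2 (Rec.mem_cen.1 cb).symm⟩, Rec.mem_cen.2 rfl⟩)
  exact cd (Rec.mem_cen.1 (this hd)).symm

/-- The centre is `⟨z⟩` or `⟨w⟩` with `w * w = z`. -/
theorem center_cases (h : AES D z) : D ⊓ 𝐂[D] = zpowers z ∨
    ∃ w ∈ D ⊓ 𝐂[D], w * w = z ∧ w ∉ zpowers z ∧ D ⊓ 𝐂[D] = ext (zpowers z) w := by
  have hz := @mem_zpowers_iff_of_sq _ _ _ h.z_sq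
  have l : zpowers z ≤ D ⊓ 𝐂[D] := by simpa using mem_center_iff.2 ⟨h.z_mem, h.z_comm⟩
  refine or_iff_not_imp_left.2 fun e => ?_
  obtain ⟨w, hw, w1⟩ := SetLike.not_le_iff_exists.1 fun e' => e (le_antisymm e' l)
  have k : ∀ x ∈ D ⊓ 𝐂[D], x ∉ zpowers z → x * x = z := fun x hx x1 => (h.sq x hx.1).resolve_left fun e' =>
    x1 (hz.2 (h.omega x hx.1 e' (mem_center_iff.1 hx).2))
  refine ⟨w, hw, k w hw w1, w1, le_antisymm (fun x hx => ?_) (ext_le.2 ⟨l, hw⟩)⟩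
  refine ((AES.ext h (l.trans inf_le_left) (mem_zpowers z) hw.1).1 x).2 (or_iff_not_imp_left.2 fun x1 => ?_)
  by_contra x2
  have := k _ (mul_mem hw hx) x2
  rw [sq_mul_of_comm ((mem_center_iff.1 hw).2 x hx.1), k w hw w1, k x hx x1, h.z_sq] at this
  exact h.z_ne this.symm

theorem card_center (h : AES D z) : Nat.card (D ⊓ 𝐂[D] : Subgroup G) = 2 ∨ Nat.card (D ⊓ 𝐂[D] : Subgroup G) = 4 := by
  have c0 := card_zpowers_of_sq h.z_ne h.z_sq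
  refine (center_cases h).imp (fun e => by rw [e, c0]) ?_
  rintro ⟨w, hw, -, w1, e⟩
  rw [e, card_ext (AES.norm_of_mem h (by simpa using h.z_mem) (mem_zpowers z) hw.1)
    (AES.sq_mem h (mem_zpowers z) hw.1) w1, c0]

theorem inner_aux (h : AES D z) (hA : A ≤ D) (hz : z ∈ A)
    (hc : ∀ x ∈ A, (∀ a ∈ A, x * a = a * x) → x = 1 ∨ x = z) {g : G} (hgz : g * z = z * g)
    (hg : ∀ d ∈ A, Eqv z (g * d * g⁻¹) d) : ∃ x ∈ A, ∀ d ∈ A, g * d * g⁻¹ = x * d * x⁻¹ := by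
  by_cases k : ∃ x ∈ A, ∃ y ∈ A, x * y ≠ y * x
  · exact ES2.exists_inner ⟨hz, h.z_ne, h.z_sq, fun q hq => h.z_comm q (hA hq),
      fun x hx y hy => h.comm x (hA hx) y (hA hy), hc, k⟩ hg
  · push Not at k
    refine ⟨1, one_mem _, fun d hd => ?_⟩
    rcases hc d hd (k d hd) with rfl | rfl
    exacts [by simp, by simp [hgz]]

theorem inner (h : AES D z) {g : G} (hg : ∀ d ∈ D, Eqv z (g * d * g⁻¹) d)
    (hc : ∀ w ∈ D, (∀ d ∈ D, w * d = d * w) → g * w = w * g) :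
    ∃ x ∈ D, ∀ d ∈ D, g * d * g⁻¹ = x * d * x⁻¹ := by
  have hz := @mem_zpowers_iff_of_sq _ _ _ h.z_sq
  have gz := hc z h.z_mem h.z_comm
  rcases center_cases h with e | ⟨w, hw, w2, w1, e⟩
  · exact inner_aux h le_rfl h.z_mem (fun x hx k => hz.1 (e.le (mem_center_iff.2 ⟨hx, k⟩))) gz hg
  obtain ⟨hw, wc⟩ := mem_center_iff.1 hw
  obtain ⟨A, ⟨a1, a2, a3⟩, hm⟩ := (Set.toFinite {A : Subgroup G | A ≤ D ∧ z ∈ A ∧ w ∉ A}).exists_maximal
    ⟨zpowers z, by simpa using h.z_mem, mem_zpowers z, w1⟩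
  have k : ∀ d ∈ D, d ∈ A ∨ w * d ∈ A := fun d hd => or_iff_not_imp_left.2 fun k => by
    by_contra k'
    refine k (hm (y := ext A d) ⟨ext_le.2 ⟨a1, hd⟩, le_ext _ _ a2, fun e' => ?_⟩ (le_ext _ _) (self_mem_ext _ _))
    exact (((AES.ext h a1 a2 hd).1 w).1 e').elim a3 fun e' => k' (wc d hd ▸ e')
  obtain ⟨x, hx, e'⟩ := inner_aux h a1 a2 (fun x hx k' => by
    have h1 : x ∈ D ⊓ 𝐂[D] := mem_center_iff.2 ⟨a1 hx, fun d hd => (k d hd).elim (k' d) fun h2 => by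
      have := k' _ h2
      rwa [comm_assoc (wc x (a1 hx)).symm, mul_assoc, mul_right_inj] at this⟩
    rcases ((AES.ext h (by simpa using h.z_mem) (mem_zpowers z) hw).1 x).1 (e.le h1) with h2 | h2
    · exact hz.1 h2
    · exact absurd ((mul_mem_cancel_right hx).1 ((show zpowers z ≤ A by simpa using a2) h2)) a3) gz
    fun d hd => hg d (a1 hd)
  refine ⟨x, a1 hx, fun d hd => (k d hd).elim (e' d) fun h2 => ?_⟩
  have := e' _ h2
  rwa [conj_mul', conj_mul', conj_eq_of_comm (hc w hw wc), conj_eq_of_comm (wc x (a1 hx)).symm, mul_right_inj] at this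

end Cfsg.Agent.Rk3
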