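import Mathlib
import Cfsg.Agent.Rk3.QF

/-!
The involution of a quaternion subgroup of `C(z)` lies in the large normal subgroup.
See `stubs/Cfsg/Agent/Rk3/PLAN.md`, section LemQ.
-/

set_option autoImplicit false
set_option linter.unusedSectionVars false

namespace Cfsg.Agent.Rk3

open Cfsg Subgroup Cfsg.Agent.GT Cfsg.Agent.Loc.Mss Cfsg.Agent.NE Cfsg.Agent.Spor
open scoped commutatorElement

variable {G : Type*} [Group G] [Finite G]

namespace LemQ

variable {D : Subgroup G} {z t : G}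

theorem eqv_cancel (hD : AES D z) {x y w : G} (hx : x ∈ D) (k : Eqv z (x * y) (x * w)) : Eqv z y w := by
  simpa using k.mul_left (hD.z_comm _ (inv_mem hx))

/-- If all values of `ze t` are involutions then `t` acts trivially modulo `⟨z⟩`. -/
theorem triv (h : Hyp G) (hD : Mx z D) (ht : t * t = 1) (htD : t ∉ D) (hz : z * t = t * z)
    (h1 : ∀ d ∈ D, ze t d * ze t d = 1) : ∀ d ∈ D, Eqv z (t * d * t⁻¹) d := by
  have hn := hD.norm t hz
  have z2 := hD.aes.z_sq
  by_cases h0 : ∀ d ∈ D, Eqv z (ze t d) 1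
  · intro d hd
    simpa [mul_ze] using (h0 d hd).mul_left (hD.aes.z_comm d hd)
  push Not at h0
  obtain ⟨d₀, hd₀, h0⟩ := h0
  have hs := ze_mem hn hd₀
  obtain ⟨e, he, hse⟩ : ∃ e ∈ D, ze t d₀ * e ≠ e * ze t d₀ := by
    by_contra! k
    exact h0 (eqv_one_iff.2 (hD.aes.omega _ hs (h1 d₀ hd₀) k))
  refine fun d hd => (eqv_iff_mem z2).2 (nst hD.aes le_rfl (by simpa using hD.aes.z_mem)
    (fun u hu => ?_) (fun u hu a ha => (comm_zpowers (hD.aes.z_comm a ha).symm hu).symm) hs (h1 d₀ hd₀) he hse hz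
    (fun a ha => ?_) d hd)
  · rcases (mem_zpowers_iff_of_sq z2).1 hu with rfl | rfl
    exacts [mul_one _, z2]
  have k : Eqv z (t * a * t⁻¹ * a⁻¹) (ze t a) := by
    simpa [mul_ze] using hD.aes.eqv_conj ha (ze_mem hn ha)
  rw [mem_zpowers_iff_of_sq z2, mem_zpowers_iff_of_sq z2, ← eqv_one_iff, ← eqv_one_iff]
  rcases h.s1 hD.aes ht htD hz hn ha hd₀ (h1 a ha) (h1 d₀ hd₀) with k1 | k1 | k1
  · exact .inl (k.trans z2 k1)
  · exact absurd k1 h0
  · exact .inr (h1 d₀ hd₀ ▸ (k.trans z2 k1).mul_left (hD.aes.z_comm _ hs))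

theorem cen_fix (hD : Mx z D) {a w : G} (ha : z * a = a * z) (hw : w ∈ D) (hc : ∀ d ∈ D, w * d = d * w) :
    a * a * w = w * (a * a) := by
  have z2 := hD.aes.z_sq
  have az : a * z * a⁻¹ = z := conj_eq_of_comm ha.symm
  have hw' := hD.norm a ha w hw
  have k : Eqv z (a * w * a⁻¹) w := by
    rcases hD.aes.sq w hw with e | e
    · rcases hD.aes.omega w hw e hc with rfl | rfl
      exacts [.inl (by simp), .inl az]
    have hc' : ∀ d ∈ D, a * w * a⁻¹ * d = d * (a * w * a⁻¹) := fun d hd => by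
      have := hD.norm a⁻¹ (Commute.inv_right ha).eq d hd
      simpa [mul_assoc] using conj_comm a (hc _ this)
    have := hD.aes.omega _ (mul_mem hw hw')
      (by rw [sq_mul_of_comm (hc _ hw'), ← conj_mul', e, az, z2]) fun d hd => (Commute.mul_left (hc d hd) (hc' d hd)).eq
    exact eqv_cancel hD.aes hw ((eqv_one_iff.2 this).trans z2 ((hD.aes.eqv_sq hw).symm z2))
  refine comm_of_conj_eq ?_
  rw [← conj_conj]
  rcases k with k | k
  · rw [k, k]
  · rw [k, conj_mul', k, az, sq_cancel z2]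

theorem exists_w (h : Hyp G) (hD : Mx z D) (ht : t * t = 1) (htD : t ∉ D) {a : G} (ha : z * a = a * z)
    (sa : a * a = t) : ∃ w ∈ D, bf w (t * w * t⁻¹) = 1 := by
  by_contra! k
  have hz : z * t = t * z := sa ▸ (Commute.mul_right ha ha).eq
  have hn := hD.norm t hz
  obtain ⟨x, hx, e⟩ := inner hD.aes (triv h hD ht htD hz fun d hd => by
    rw [← qf_eq_zero, qf_ze hD.aes hn hd]
    exact bf_eq_zero.2 (not_not.1 (mt bf_eq_one.2 (k d hd)))) fun w hw hc => sa ▸ cen_fix hD ha hw hc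
  refine htD ((mul_mem_cancel_left (inv_mem hx)).1 (hD.cen _ (fun d hd => ?_) ?_))
  · calc _ = x⁻¹ * (t * d * t⁻¹) * t := by group
      _ = _ := by rw [e d hd]; group
  · have : x⁻¹ * t * (x⁻¹ * t) = x⁻¹ * x⁻¹ := calc
      _ = x⁻¹ * (t * x⁻¹ * t⁻¹) * (t * t) := by group
      _ = _ := by rw [e _ (inv_mem hx), ht]; group
    rw [this]
    exact hD.aes.sq _ (inv_mem hx)

theorem three (h : Hyp G) (hD : AES D z) (ht : t * t = 1) (htD : t ∉ D) (hz : z * t = t * z)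
    (hn : ∀ d ∈ D, t * d * t⁻¹ ∈ D) {d e f : G} (hd : d ∈ D) (he : e ∈ D) (hf : f ∈ D)
    (nd : bf d (t * d * t⁻¹) = 1) (ne : bf e (t * e * t⁻¹) = 1) (nf : bf f (t * f * t⁻¹) = 1) :
    Eqv z (ze t e) (ze t d) ∨ Eqv z (ze t f) (ze t d) ∨ Eqv z (ze t e) (ze t f) := by
  have z2 := hD.z_sq
  have k : ∀ x ∈ D, bf x (t * x * t⁻¹) = 1 → ze t (d * x) * ze t (d * x) = 1 := fun x hx nx => by
    rw [← qf_eq_zero, qf_ze hD hn (mul_mem hd hx), bf_ze_mul hD ht hn hd hx, nd, nx, zmod2]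
  have k1 : ∀ x ∈ D, Eqv z (ze t (d * x)) 1 → Eqv z (ze t x) (ze t d) := fun x hx e =>
    eqv_cancel hD (ze_mem hn hd) ((((ze_mul_eqv hD hn hd hx).symm z2).trans z2 e).trans z2
      ((hD.eqv_sq (ze_mem hn hd)).symm z2))
  exact (h.s1 hD ht htD hz hn (mul_mem hd he) (mul_mem hd hf) (k e he ne) (k f hf nf)).imp (k1 e he)
    (Or.imp (k1 f hf) fun e' => eqv_cancel hD (ze_mem hn hd)
      ((((ze_mul_eqv hD hn hd he).symm z2).trans z2 e').trans z2 (ze_mul_eqv hD hn hd hf)))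

theorem fin (hD : Mx z D) {c w : G} (hc : z * c = c * z) (sc : c * c = t) (hw : w ∈ D)
    (nw : bf w (t * w * t⁻¹) = 1) (k : Eqv z (c * ze t w * c⁻¹) (ze t w)) : False := by
  have hn := hD.norm t (sc ▸ (Commute.mul_right hc hc).eq)
  have hw' := hD.norm c hc w hw
  have e1 : bf w (ze t w) = 1 := by
    rw [ze, hD.aes.bf_mul_right (inv_mem hw) (hn w hw) hw, bf_inv_right, bf_self, nw, zero_add]
  rw [← bf_conj_conj c, hD.aes.bf_eqv_right hw' k, ze, hD.aes.bf_mul_right (inv_mem hw) (hn w hw) hw', bf_inv_right,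
    ← sc, ← conj_conj, bf_conj_conj, bf_comm w, zmod2] at e1
  exact zero_ne_one e1

end LemQ

theorem Hyp.lemQ (h : Hyp G) {D : Subgroup G} {z t a b : G} (hD : Mx z D) (ht : t * t = 1) (ha : z * a = a * z)
    (hb : z * b = b * z) (sa : a * a = t) (sb : b * b = t) (sab : a * b * (a * b) = t) : t ∈ D := by
  by_contra htD
  obtain ⟨w, hw, nw⟩ := LemQ.exists_w h hD ht htD ha sa
  have hz : z * t = t * z := sa ▸ (Commute.mul_right ha ha).eq
  have z2 := hD.aes.z_sq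
  have ha' : z * a⁻¹ = a⁻¹ * z := (Commute.inv_right ha).eq
  have at' : a⁻¹ * t * a⁻¹⁻¹ = t := by rw [← sa]; group
  have bt : b * t * b⁻¹ = t := by rw [← sb]; group
  have k : ∀ c : G, c * t * c⁻¹ = t → bf (c * w * c⁻¹) (t * (c * w * c⁻¹) * t⁻¹) = 1 := fun c e => by
    rw [← nw, ← bf_conj_conj c w, conj_conj, conj_conj, comm_of_conj_eq e]
  have := LemQ.three h hD.aes ht htD hz (hD.norm t hz) hw (hD.norm _ ha' w hw) (hD.norm _ hb w hw) nw (k _ at') (k _ bt)
  have ea := conj_ze a⁻¹ t w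
  have eb := conj_ze b t w
  rw [at'] at ea
  rw [bt] at eb
  rw [← ea, ← eb] at this
  rcases this with e | e | e
  · exact LemQ.fin hD ha sa hw nw (by simpa [mul_assoc] using (e.symm z2).conj ha)
  · exact LemQ.fin hD hb sb hw nw e
  · exact LemQ.fin hD (Commute.mul_right ha hb).eq sab hw nw (by simpa [mul_assoc] using (e.symm z2).conj ha)

end Cfsg.Agent.Rk3
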