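import Mathlib
import Cfsg.Agent.Rk3.Defs2

/-!
A special `2`-group with centre of order four and an automorphism permuting the central involutions cyclically.
See `stubs/Cfsg/Agent/Rk3/PLAN.md`, section Tri.
-/

set_option autoImplicit false
set_option linter.unusedSectionVars false

namespace Cfsg.Agent.Rk3

open Cfsg Subgroup Cfsg.Agent.GT Cfsg.Agent.Loc.Mss Cfsg.Agent.NE Cfsg.Agent.Spor
open scoped commutatorElement

variable {G : Type*} [Group G] [Finite G]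

namespace Tri

/-- `U` is an elementary central subgroup of `P` containing all squares. -/
structure Sp (P U : Subgroup G) : Prop where
  le : U ≤ P
  sqU : ∀ u ∈ U, u * u = 1
  cen : ∀ u ∈ U, ∀ x ∈ P, u * x = x * u
  sq : ∀ x ∈ P, x * x ∈ U

namespace Sp

variable {P U : Subgroup G} (s : Sp P U) {x w v u : G}
include s

theorem conj (hu : u ∈ U) (hx : x ∈ P) : x * u * x⁻¹ = u := conj_eq_of_comm (s.cen u hu x hx).symm

theorem sq_inv (hx : x ∈ P) : x⁻¹ * x⁻¹ = x * x := by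
  rw [← mul_inv_rev, inv_of_sq (s.sqU _ (s.sq x hx))]

theorem cm_eq (hx : x ∈ P) (hw : w ∈ P) : ⁅x, w⁆ = x * w * (x * w) * (x * x) * (w * w) := by
  have e : ⁅x, w⁆ = x * w * (x * w) * (w⁻¹ * (x⁻¹ * x⁻¹) * w⁻¹⁻¹) * (w⁻¹ * w⁻¹) := by
    rw [commutatorElement_def]; group
  rw [e, s.conj (s.sq _ (inv_mem hx)) (inv_mem hw), s.sq_inv hx, s.sq_inv hw]

theorem cm_mem (hx : x ∈ P) (hw : w ∈ P) : ⁅x, w⁆ ∈ U := by
  rw [s.cm_eq hx hw]
  exact mul_mem (mul_mem (s.sq _ (mul_mem hx hw)) (s.sq x hx)) (s.sq w hw)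

theorem cm_symm (hx : x ∈ P) (hw : w ∈ P) : ⁅x, w⁆ = ⁅w, x⁆ := by
  rw [← commutatorElement_inv, inv_of_sq (s.sqU _ (s.cm_mem hw hx))]

theorem cm_right (hx : x ∈ P) (hw : w ∈ P) (hv : v ∈ P) : ⁅x, w * v⁆ = ⁅x, w⁆ * ⁅x, v⁆ := by
  rw [← s.conj (s.cm_mem hx hv) hw]
  simp only [commutatorElement_def]; group

theorem cm_left (hx : x ∈ P) (hw : w ∈ P) (hv : v ∈ P) : ⁅x * w, v⁆ = ⁅x, v⁆ * ⁅w, v⁆ := by
  rw [s.cm_symm (mul_mem hx hw) hv, s.cm_right hv hx hw, s.cm_symm hv hx, s.cm_symm hv hw]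

theorem sq_eq (hw : w ∈ P) (h : x * w ∈ U) : x * x = w * w := by
  have e : x = x * w * w⁻¹ := by group
  rw [e, sq_mul_of_comm (s.cen _ h _ (inv_mem hw)), s.sqU _ h, one_mul, s.sq_inv hw]

theorem tau_mul {a b c a' b' c' : G} (ha : a ∈ P) (hb : b ∈ P) (hc : c ∈ P) (ha' : a' ∈ P) (hb' : b' ∈ P)
    (h : a * b * c ∈ U) (h' : a' * b' * c' ∈ U) : a * a' * (b * b') * (c * c') ∈ U := by
  have e : a * a' * (b * b') * (c * c') =
      a * ⁅a', b⁆ * a⁻¹ * (a * b * ⁅a' * b', c⁆ * (a * b)⁻¹) * (a * b * c) * (a' * b' * c') := by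
    simp only [commutatorElement_def]; group
  rw [e, s.conj (s.cm_mem ha' hb) ha, s.conj (s.cm_mem (mul_mem ha' hb') hc) (mul_mem ha hb)]
  exact mul_mem (mul_mem (mul_mem (s.cm_mem ha' hb) (s.cm_mem (mul_mem ha' hb') hc)) h) h'

end Sp

end Tri

theorem Hyp.tri (h : Hyp G) {P U : Subgroup G} {z y ρ a b : G}
    (hU : ∀ u, u ∈ U ↔ u = 1 ∨ u = z ∨ u = y ∨ u = z * y) (z2 : z * z = 1) (y2 : y * y = 1) (z1 : z ≠ 1)
    (y1 : y ≠ 1) (hne : y ≠ z) (hUP : U ≤ P) (hc : ∀ u ∈ U, ∀ x ∈ P, u * x = x * u) (hsq : ∀ x ∈ P, x * x ∈ U)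
    (hρ : ρ ∈ 𝐍[P]) (rz : ρ * z * ρ⁻¹ = y) (ry : ρ * y * ρ⁻¹ = z * y) (ha : a ∈ P) (hb : b ∈ P) (haU : a ∉ U)
    (hbU : b ∉ U) (hab : a * b ∉ U) (sa : a * a = 1 ∨ a * a = z) (sb : b * b = 1 ∨ b * b = z)
    (sab : a * b * (a * b) = 1 ∨ a * b * (a * b) = z)
    (ta : a * (ρ * a * ρ⁻¹) * (ρ * (ρ * a * ρ⁻¹) * ρ⁻¹) ∈ U)
    (tb : b * (ρ * b * ρ⁻¹) * (ρ * (ρ * b * ρ⁻¹) * ρ⁻¹) ∈ U) : False := by
  have zU : z ∈ U := (hU z).2 (by simp)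
  have yU : y ∈ U := (hU y).2 (by simp)
  have zy : z * y = y * z := hc z zU y (hUP yU)
  have zy2 : z * y * (z * y) = 1 := by rw [sq_mul_of_comm zy, z2, y2, mul_one]
  have s : Tri.Sp P U := ⟨hUP, fun u hu => by
    rcases (hU u).1 hu with rfl | rfl | rfl | rfl
    exacts [by simp, z2, y2, zy2], hc, hsq⟩
  have rzy : ρ * (z * y) * ρ⁻¹ = z := by rw [conj_mul', rz, ry, ← mul_assoc, ← zy, mul_assoc, y2, mul_one]
  have rU : ρ ∈ 𝐍[U] := mem_norm_of_cj_le (cj_le_iff.2 fun u hu => by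
    rcases (hU u).1 hu with rfl | rfl | rfl | rfl
    exacts [by simp, rz ▸ yU, ry ▸ mul_mem zU yU, rzy.symm ▸ zU])
  have rP : ∀ {x}, x ∈ P → ρ * x * ρ⁻¹ ∈ P := conj_mem_of_norm hρ
  -- the set of elements with trace in `U`
  have kmul : ∀ {x w}, x ∈ P → w ∈ P → x * (ρ * x * ρ⁻¹) * (ρ * (ρ * x * ρ⁻¹) * ρ⁻¹) ∈ U →
      w * (ρ * w * ρ⁻¹) * (ρ * (ρ * w * ρ⁻¹) * ρ⁻¹) ∈ U →
      x * w * (ρ * (x * w) * ρ⁻¹) * (ρ * (ρ * (x * w) * ρ⁻¹) * ρ⁻¹) ∈ U := fun hx hw k1 k2 => by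
    rw [conj_mul', conj_mul']
    exact s.tau_mul hx (rP hx) (rP (rP hx)) hw (rP hw) k1 k2
  have k1 : ∀ {x}, x ∈ P → x * (ρ * x * ρ⁻¹) * (ρ * (ρ * x * ρ⁻¹) * ρ⁻¹) ∈ U → x * x = 1 → x ∈ U := by
    intro x hx tx x2
    by_contra xU
    have x2' : ρ * x * ρ⁻¹ * (ρ * x * ρ⁻¹) = 1 := Rec.conj_sq x2
    have c1 : x * (ρ * x * ρ⁻¹) = ρ * x * ρ⁻¹ * x := by
      rw [← commutatorElement_eq_one_iff_mul_comm, s.cm_eq hx (rP hx), s.sq_eq (rP (rP hx)) tx, Rec.conj_sq x2', x2,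
        x2', mul_one, mul_one]
    have xU' := xU
    rw [hU] at xU'
    push Not at xU'
    obtain ⟨u, hu, e⟩ : ∃ u ∈ U, ρ * x * ρ⁻¹ = u * x := by
      rcases h.no16 z2 y2 x2 x2' zy (hc z zU x hx) (hc y yU x hx) (hc z zU _ (rP hx)) (hc y yU _ (rP hx)) c1
        ⟨z1, y1, hne, xU'⟩ with e | e | e | e | e
      · exact absurd ((conj_mem_norm rU).1 ((hU _).2 e)) xU
      exacts [⟨1, one_mem _, by rw [e, one_mul]⟩, ⟨z, zU, e⟩, ⟨y, yU, e⟩, ⟨_, mul_mem zU yU, e⟩]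
    rw [e, conj_mul', e, hc u hu x hx, sq_cancel x2, ← hc u hu x hx, ← mul_assoc, ← mul_assoc] at tx
    exact xU ((mul_mem_cancel_left (mul_mem (mul_mem hu (conj_mem_of_norm rU hu)) hu)).1 tx)
  have tab := kmul ha hb ta tb
  replace sa := sa.resolve_left fun e => haU (k1 ha ta e)
  replace sb := sb.resolve_left fun e => hbU (k1 hb tb e)
  replace sab := sab.resolve_left fun e => hab (k1 (mul_mem ha hb) tab e)
  have sq' : ∀ {x}, x * x = z → ρ * x * ρ⁻¹ * (ρ * x * ρ⁻¹) = y := fun e => by rw [← conj_mul', e, rz]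
  have k2 : ∀ {x}, x ∈ P → x * (ρ * x * ρ⁻¹) * (ρ * (ρ * x * ρ⁻¹) * ρ⁻¹) ∈ U → x * x = z → ⁅x, ρ * x * ρ⁻¹⁆ = 1 := by
    intro x hx tx x2
    rw [s.cm_eq hx (rP hx), s.sq_eq (rP (rP hx)) tx, ← conj_mul', sq' x2, x2, ry, mul_assoc, zy2]
  have cab : ⁅ρ * a * ρ⁻¹, ρ * b * ρ⁻¹⁆ = y := by
    rw [← conjugate_commutatorElement, s.cm_eq ha hb, sa, sb, sab, z2, one_mul, rz]
  have e1 := k2 (mul_mem ha hb) tab sab
  rw [conj_mul', s.cm_left ha hb (mul_mem (rP ha) (rP hb)), s.cm_right ha (rP ha) (rP hb),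
    s.cm_right hb (rP ha) (rP hb), k2 ha ta sa, k2 hb tb sb, one_mul, mul_one, mul_eq_one_iff_eq_inv,
    commutatorElement_inv] at e1
  have e2 := commutatorElement_eq_one_iff_mul_comm.2 (hc _ tb _ (rP ha)).symm
  rw [s.cm_right (rP ha) (mul_mem hb (rP hb)) (rP (rP hb)), s.cm_right (rP ha) hb (rP hb), cab, ← e1,
    ← conjugate_commutatorElement a] at e2
  have e3 : ⁅a, ρ * b * ρ⁻¹⁆ = z * y := by
    rcases (hU _).1 (s.cm_mem ha (rP hb)) with e | e | e | e <;> rw [e] at e2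
    · exact absurd (by simpa using e2) y1
    · exact absurd (by rwa [rz, mul_assoc, y2, mul_one] at e2) z1
    · rw [ry, y2, one_mul, mul_eq_one_iff_eq_inv, inv_of_sq y2] at e2
      exact absurd e2.symm hne
    · exact e
  rw [s.cm_eq ha (rP hb), sa, sq' sb, mul_assoc, mul_eq_right] at e3
  have tb' := conj_mem_of_norm rU tb
  rw [conj_mul', conj_mul'] at tb'
  have e4 := s.sq_eq (rP hb) (k1 (mul_mem ha (rP hb)) (kmul ha (rP hb) ta tb') e3)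
  exact hne ((sq' sb).symm.trans (e4.symm.trans sa))

end Cfsg.Agent.Rk3
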