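import Mathlib
import Cfsg.Agent.Rk3.QF
import Cfsg.Agent.Rk3.Tri

/-!
Two large almost extraspecial groups attached to commuting conjugate involutions cannot contain each other's centre.
See `stubs/Cfsg/Agent/Rk3/PLAN.md`, section T0.
-/

set_option autoImplicit false
set_option linter.unusedSectionVars false

namespace Cfsg.Agent.Rk3

open Cfsg Subgroup Cfsg.Agent.GT Cfsg.Agent.Loc.Mss Cfsg.Agent.NE Cfsg.Agent.Spor
open scoped commutatorElement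

universe u

namespace T0

/-- The computation in the quotient. -/
theorem calc_quot {L : Type*} [Group L] {α δ ε f h β : L} (hf : ε * α * ε⁻¹ = f * α) (hh : δ * f * δ⁻¹ = h * f)
    (hβ : β = δ * (ε * α * ε⁻¹) * δ⁻¹) (da : δ * α = α * δ) (dh : δ * h = h * δ) (eb : ε * β = β * ε)
    (f2 : f * f = 1) (a2 : α * α = 1) (h2 : h * h = 1) (fa : f * α = α * f) (ha : h * α = α * h) :
    α * h = β * f ∧ α * β * (δ * (ε * β * ε⁻¹) * δ⁻¹) = α * h := by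
  have b1 : β = h * f * α := by rw [hβ, hf, conj_mul', hh, conj_eq_of_comm da]
  refine ⟨?_, ?_⟩
  · rw [b1, mul_assoc (h * f), ← fa, mul_assoc h, sq_cancel f2, ha]
  · rw [conj_eq_of_comm eb]
    have b2 : δ * β * δ⁻¹ = f * α := by
      rw [b1, conj_mul', conj_mul', hh, conj_eq_of_comm da, conj_eq_of_comm dh, sq_cancel h2]
    rw [b2, b1, mul_assoc α, mul_assoc (h * f), ← mul_assoc α f, ← fa, mul_assoc f, a2, mul_one, mul_assoc h, f2,
      mul_one]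

variable {G : Type u} [Group G]

theorem exists_quot (U : Subgroup G) : ∃ (L : Type u) (_ : Group L) (π : 𝐍[U] →* L),
    ∀ x y : 𝐍[U], π x = π y ↔ (x : G) * (y : G)⁻¹ ∈ U := by
  have : (U.subgroupOf 𝐍[U]).Normal := ⟨fun _ hn k => (conj_mem_of_norm (A := U) k.2 hn :)⟩
  refine ⟨𝐍[U] ⧸ U.subgroupOf 𝐍[U], inferInstance, QuotientGroup.mk' _, fun x y => ?_⟩
  rw [← mul_inv_eq_one, ← map_inv, ← map_mul]
  exact QuotientGroup.eq_one_iff _

/-- The symmetric configuration. -/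
structure Cf (z y : G) (D E U : Subgroup G) : Prop where
  hyp : Hyp G
  mD : Mx z D
  mE : Mx y E
  yD : y ∈ D
  zE : z ∈ E
  ne : y ≠ z
  hU : ∀ u, u ∈ U ↔ u = 1 ∨ u = z ∨ u = y ∨ u = z * y

variable [Finite G] {z y : G} {D E U : Subgroup G}

namespace Cf

variable (c : Cf z y D E U)
include c

theorem zy : z * y = y * z := c.mD.aes.z_comm y c.yD

theorem swap : Cf y z E D U :=
  ⟨c.hyp, c.mE, c.mD, c.zE, c.yD, c.ne.symm, fun u => by rw [c.hU, c.zy]; tauto⟩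

theorem zU : z ∈ U := (c.hU z).2 (by simp)

theorem yU : y ∈ U := (c.hU y).2 (by simp)

theorem comm_U {x : G} (h1 : z * x = x * z) (h2 : y * x = x * y) : ∀ u ∈ U, u * x = x * u := fun u hu => by
  rcases (c.hU u).1 hu with rfl | rfl | rfl | rfl
  exacts [by simp, h1, h2, (Commute.mul_left h1 h2).eq]

theorem U_le : U ≤ D ⊓ centralizer {y} := fun u hu => by
  refine ⟨?_, Rec.mem_cen.2 (c.comm_U c.zy rfl u hu)⟩
  rcases (c.hU u).1 hu with rfl | rfl | rfl | rfl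
  exacts [one_mem _, c.mD.aes.z_mem, c.yD, mul_mem c.mD.aes.z_mem c.yD]

theorem comm_A : ∀ u ∈ U, ∀ a ∈ D ⊓ centralizer {y}, u * a = a * u := fun u hu a ha =>
  c.comm_U (c.mD.aes.z_comm a ha.1) (Rec.mem_cen.1 ha.2).symm u hu

theorem I_sq : ∀ x ∈ D ⊓ E, x * x = 1 := fun x hx => by
  rcases c.mD.aes.sq x hx.1 with e | e
  · exact e
  rcases c.mE.aes.sq x hx.2 with e' | e'
  · exact e'
  exact absurd (e'.symm.trans e) c.ne

theorem U_sq : ∀ u ∈ U, u * u = 1 := fun u hu => c.I_sq u ⟨(c.U_le hu).1, (c.swap.U_le hu).1⟩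

theorem sq_U {a : G} (ha : a ∈ D) : a * a ∈ U := by
  rcases c.mD.aes.sq a ha with e | e <;> rw [e]
  exacts [one_mem _, c.zU]

theorem I_two {s t : G} (hs : s ∈ D ⊓ E) (ht : t ∈ D ⊓ E) (h1 : s ∉ U) (h2 : t ∉ U) : s * t ∈ U := by
  have s2 := c.I_sq s hs
  have zs := c.mD.aes.z_comm s hs.1
  have ys := c.mE.aes.z_comm s hs.2
  have h1' := h1
  rw [c.hU] at h1'
  push Not at h1'
  have := c.hyp.no16 c.mD.aes.z_sq c.mE.aes.z_sq s2 (c.I_sq t ht) c.zy zs ys (c.mD.aes.z_comm t ht.1)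
    (c.mE.aes.z_comm t ht.2) (comm_of_sq c.I_sq hs ht) ⟨c.mD.aes.z_ne, c.mE.aes.z_ne, c.ne, h1'⟩
  have k : ∀ u ∈ U, s * (u * s) ∈ U := fun u hu => by rwa [c.comm_U zs ys u hu, sq_cancel s2]
  rcases this with e | rfl | rfl | rfl | rfl
  · exact absurd ((c.hU t).2 e) h2
  · rw [s2]; exact one_mem _
  exacts [k _ c.zU, k _ c.yU, k _ (mul_mem c.zU c.yU)]

/-- The two centralisers commute modulo `U`. -/
theorem comm_mem {x : G} (hx : x ∈ E ⊓ centralizer {z}) : ∀ a ∈ D ⊓ centralizer {y}, x * a * x⁻¹ * a⁻¹ ∈ U := by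
  have hz : z * x = x * z := (Rec.mem_cen.1 hx.2).symm
  have hI : ∀ a ∈ D ⊓ centralizer {y}, x * a * x⁻¹ * a⁻¹ ∈ D ⊓ E := fun a ha =>
    mem_inf.2 ⟨mul_mem (c.mD.norm x hz a ha.1) (D.inv_mem ha.1), by
      simpa [mul_assoc] using E.mul_mem hx.1 (c.mE.norm a (Rec.mem_cen.1 ha.2).symm _ (E.inv_mem hx.1))⟩
  by_cases hs : D ⊓ E ≤ U
  · exact fun a ha => hs (hI a ha)
  obtain ⟨s, hs, hsU⟩ := SetLike.not_le_iff_exists.1 hs
  have hsA : s ∈ D ⊓ centralizer {y} := ⟨hs.1, Rec.mem_cen.2 (c.mE.aes.z_comm s hs.2).symm⟩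
  obtain ⟨e, he, hse⟩ : ∃ e ∈ D ⊓ centralizer {y}, s * e ≠ e * s := by
    by_contra! k
    exact hsU ((c.hU s).2 (c.mD.aes.omega_center_centralizer c.yD c.mE.aes.z_sq c.mE.aes.z_ne c.ne hs.1
      (c.I_sq s hs) fun p hp hp' => (k p ⟨hp, Rec.mem_cen.2 hp'⟩).symm))
  refine nst c.mD.aes inf_le_left c.U_le c.U_sq c.comm_A hsA (c.I_sq s hs) he hse hz fun a ha => ?_
  exact or_iff_not_imp_left.2 fun k => c.I_two hs (hI a ha) hsU k

theorem A_norm : E ⊓ centralizer {z} ≤ 𝐍[D ⊓ centralizer {y}] := norm_of_forall_cj_le fun x hx =>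
  cj_le_iff.2 fun a ha => by
    simpa using mul_mem (c.U_le (c.comm_mem hx a ha)) ha

theorem cent_P : ∀ u ∈ U, ∀ x ∈ D ⊓ centralizer {y} ⊔ E ⊓ centralizer {z}, u * x = x * u := fun u hu x hx => by
  have : D ⊓ centralizer {y} ⊔ E ⊓ centralizer {z} ≤ centralizer {u} :=
    sup_le (fun a ha => Rec.mem_cen.2 (c.comm_A u hu a ha).symm) fun a ha =>
      Rec.mem_cen.2 (c.swap.comm_A u hu a ha).symm
  exact (Rec.mem_cen.1 (this hx)).symm

theorem sq_P : ∀ x ∈ D ⊓ centralizer {y} ⊔ E ⊓ centralizer {z}, x * x ∈ U := fun x hx => by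
  obtain ⟨a, ha, b, hb, rfl⟩ := (mem_sup_norm c.A_norm).1 hx
  have h1 := c.comm_mem hb a ha
  have h2 : a * b * (a * b) = a * (b * a * b⁻¹ * a⁻¹) * a * (b * b) := by group
  rw [h2, ← c.comm_A _ h1 a ha, mul_assoc _ a a]
  exact mul_mem (mul_mem h1 (c.sq_U ha.1)) (c.swap.sq_U hb.1)

theorem D_norm : D ≤ 𝐍[U] := norm_of_forall_cj_le fun d hd => cj_le_iff.2 fun u hu => by
  rcases c.mD.aes.conj_eq hd (c.U_le hu).1 with e | e <;> rw [e]
  exacts [hu, mul_mem c.zU hu]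

theorem hm {d x : G} (hd : d ∈ D) (hx : x ∈ E ⊓ centralizer {z}) : d * x * d⁻¹ * x⁻¹ ∈ D ⊓ centralizer {y} := by
  refine mem_inf.2 ⟨by simpa [mul_assoc] using mul_mem hd (c.mD.norm x (Rec.mem_cen.1 hx.2).symm _ (inv_mem hd)), ?_⟩
  refine mul_mem (Rec.mem_cen.2 ?_) (inv_mem (Rec.mem_cen.2 (c.mE.aes.z_comm x hx.1).symm))
  simpa [mul_assoc] using
    conj_comm d (c.swap.comm_A _ (conj_mem_of_norm' (c.D_norm hd) c.yU) x hx).symm

theorem norm_P : D ≤ 𝐍[D ⊓ centralizer {y} ⊔ E ⊓ centralizer {z}] := norm_of_forall_cj_le fun d hd => by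
  rw [cj_sup]
  refine sup_le (cj_le_iff.2 fun a ha => mem_sup_left ?_) (cj_le_iff.2 fun x hx => ?_)
  · rcases c.mD.aes.conj_eq hd ha.1 with e | e <;> rw [e]
    exacts [ha, mul_mem (c.U_le c.zU) ha]
  · simpa using mul_mem (mem_sup_left (c.hm hd hx)) (mem_sup_right (S := D ⊓ centralizer {y}) hx)

theorem exists_d : ∃ d ∈ D, d * y * d⁻¹ = z * y := by
  by_contra! k
  rcases c.mD.aes.omega y c.yD c.mE.aes.z_sq fun q hq => by
    by_contra e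
    exact k q hq (c.mD.aes.conj_of_ne hq c.yD (Ne.symm e)) with e | e
  exacts [c.mE.aes.z_ne e, c.ne e]

/-- The trace of an element of the first centraliser lies in `D ∩ E`. -/
theorem tau_mem {d e a : G} (hd : d ∈ D) (he : e ∈ E) (ha : a ∈ D ⊓ centralizer {y})
    (hb : d * e * a * (d * e)⁻¹ ∈ E) :
    a * (d * e * a * (d * e)⁻¹) * (d * e * (d * e * a * (d * e)⁻¹) * (d * e)⁻¹) ∈ D ⊓ E := by
  obtain ⟨L, _, π, hπ⟩ := exists_quot U
  have hf := c.swap.hm he ha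
  have hh := c.hm hd hf
  have kD : ∀ x w : 𝐍[U], (x : G) ∈ D → (w : G) ∈ D → π x * π w = π w * π x := fun x w hx hw => by
    rw [← map_mul, ← map_mul, hπ]
    rcases c.mD.aes.comm _ hx _ hw with k | k <;> simp [k, c.zU, mul_assoc]
  have kE : ∀ x w : 𝐍[U], (x : G) ∈ E → (w : G) ∈ E → π x * π w = π w * π x := fun x w hx hw => by
    rw [← map_mul, ← map_mul, hπ]
    rcases c.mE.aes.comm _ hx _ hw with k | k <;> simp [k, c.yU, mul_assoc]
  have sq : ∀ x : 𝐍[U], (x : G) * x ∈ U → π x * π x = 1 := fun x hx => by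
    rw [← map_mul, ← map_one π, hπ]
    simpa using hx
  lift d to 𝐍[U] using c.D_norm hd
  lift e to 𝐍[U] using c.swap.D_norm he
  lift a to 𝐍[U] using c.D_norm ha.1
  obtain ⟨k1, k2⟩ := calc_quot (α := π a) (δ := π d) (ε := π e) (f := π (e * a * e⁻¹ * a⁻¹))
    (h := π (d * (e * a * e⁻¹ * a⁻¹) * d⁻¹ * (e * a * e⁻¹ * a⁻¹)⁻¹)) (β := π (d * e * a * (d * e)⁻¹))
    (by simp) (by simp only [map_mul, map_inv]; group) (by simp only [map_mul, map_inv]; group)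
    (kD _ _ hd ha.1) (kD _ _ hd hh.1) (kE _ _ he hb) (sq _ (c.swap.sq_U hf.1)) (sq _ (c.sq_U ha.1))
    (sq _ (c.sq_U hh.1)) (by
      rw [← map_mul, ← map_mul, hπ]
      simpa [mul_assoc] using c.comm_mem hf a ha) (kD _ _ hh.1 ha.1)
  have k3 := k2.trans k1
  simp only [← map_mul, ← map_inv, hπ] at k2 k3
  refine ⟨?_, ?_⟩
  · simpa [mul_assoc] using mul_mem (c.U_le k2).1 (mul_mem ha.1 hh.1)
  · simpa [mul_assoc] using mul_mem (c.swap.U_le k3).1 (mul_mem hb hf.1)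

end Cf

theorem mul_tau {P : Subgroup G} (hc : ∀ u ∈ U, ∀ x ∈ P, u * x = x * u) (hsq : ∀ x ∈ P, x * x ∈ U)
    {a b c a' b' c' : G} (ha : a ∈ P) (hb : b ∈ P) (hc' : c ∈ P) (ha' : a' ∈ P) (hb' : b' ∈ P) (hc'' : c' ∈ P)
    (h : a * b * c * (a' * b' * c') ∈ U) : a * a' * (b * b') * (c * c') ∈ U := by
  obtain ⟨L, _, π, hπ⟩ := exists_quot U
  have hP : P ≤ 𝐍[U] := fun x hx => cent_le_norm _ (mem_cent.2 fun u hu => hc u hu x hx)
  have k : ∀ x w : 𝐍[U], (x : G) ∈ P → (w : G) ∈ P → π x * π w = π w * π x := fun x w hx hw =>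
    comm_of_sq (A := (P.subgroupOf 𝐍[U]).map π) (by
      rintro _ ⟨v, hv, rfl⟩
      rw [← map_mul, ← map_one π, hπ]
      simpa using hsq v hv) (mem_map_of_mem π hx) (mem_map_of_mem π hw)
  lift a to 𝐍[U] using hP ha
  lift b to 𝐍[U] using hP hb
  lift c to 𝐍[U] using hP hc'
  lift a' to 𝐍[U] using hP ha'
  lift b' to 𝐍[U] using hP hb'
  lift c' to 𝐍[U] using hP hc''
  have e : π (a * a' * (b * b') * (c * c')) = π (a * b * c * (a' * b' * c')) := by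
    simp only [map_mul, mul_assoc]
    rw [comm_assoc (k a' b ha' hb), comm_assoc (k b' c hb' hc'), comm_assoc (k a' c ha' hc')]
  simpa [mul_assoc] using mul_mem ((hπ _ _).1 e) h

end T0

variable {G : Type*} [Group G] [Finite G]

theorem Hyp.t0 (h : Hyp G) {D : Subgroup G} {z g : G} (hD : Mx z D) (h64 : 64 ≤ Nat.card D)
    (hy : g * z * g⁻¹ ∈ D) (hne : g * z * g⁻¹ ≠ z) (hz : z ∈ cj(g, D)) : False := by
  obtain ⟨y, ey⟩ : ∃ y, y = g * z * g⁻¹ := ⟨_, rfl⟩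
  obtain ⟨E, eE⟩ : ∃ E, E = cj(g, D) := ⟨_, rfl⟩
  have hE : Mx y E := ey ▸ eE ▸ hD.conj g
  rw [← ey] at hy hne
  rw [← eE] at hz
  have zy := hD.aes.z_comm y hy
  have c : T0.Cf z y D E (closure {z, y}) :=
    ⟨h, hD, hE, hy, hz, hne, fun u => mem_closure_pair_iff_four hD.aes.z_sq hE.aes.z_sq zy⟩
  generalize closure {z, y} = U at c
  obtain ⟨d, hd, dy⟩ := c.exists_d
  obtain ⟨e, he, ez⟩ := c.swap.exists_d
  have dz : d * z * d⁻¹ = z := conj_eq_of_comm (hD.aes.z_comm d hd).symm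
  have rz : d * e * z * (d * e)⁻¹ = y := by
    rw [← conj_conj, ez, conj_mul', dy, dz, mul_assoc, ← zy, sq_cancel hD.aes.z_sq]
  have ry : d * e * y * (d * e)⁻¹ = z * y := by
    rw [← conj_conj, conj_eq_of_comm (hE.aes.z_comm e he).symm, dy]
  have hρ : d * e ∈ 𝐍[D ⊓ centralizer {y} ⊔ E ⊓ centralizer {z}] :=
    mul_mem (c.norm_P hd) (sup_comm (E ⊓ centralizer {z}) _ ▸ c.swap.norm_P he)
  have rE : ∀ a ∈ D, d * e * a * (d * e)⁻¹ ∈ E := fun a ha => by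
    rw [eE, ← hD.cj_eq (rz.trans ey)]
    exact conj_mem_cj ha
  have hI := fun a ha => c.tau_mem (a := a) hd he ha (rE a ha.1)
  generalize d * e = ρ at rz ry hρ hI
  have hm : ∀ a ∈ D ⊓ centralizer {y}, ∀ b ∈ D ⊓ centralizer {y},
      a * (ρ * a * ρ⁻¹) * (ρ * (ρ * a * ρ⁻¹) * ρ⁻¹) * (b * (ρ * b * ρ⁻¹) * (ρ * (ρ * b * ρ⁻¹) * ρ⁻¹)) ∈ U →
      a * b * (ρ * (a * b) * ρ⁻¹) * (ρ * (ρ * (a * b) * ρ⁻¹) * ρ⁻¹) ∈ U := fun a ha b hb k => by
    have ha' := mem_sup_left (T := E ⊓ centralizer {z}) ha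
    have hb' := mem_sup_left (T := E ⊓ centralizer {z}) hb
    rw [conj_mul', conj_mul']
    exact T0.mul_tau c.cent_P c.sq_P ha' (conj_mem_of_norm hρ ha') (conj_mem_of_norm hρ (conj_mem_of_norm hρ ha'))
      hb' (conj_mem_of_norm hρ hb') (conj_mem_of_norm hρ (conj_mem_of_norm hρ hb')) k
  have hmul : ∀ {a b : G}, a ∈ D ⊓ centralizer {y} ∧ a * (ρ * a * ρ⁻¹) * (ρ * (ρ * a * ρ⁻¹) * ρ⁻¹) ∈ U →
      b ∈ D ⊓ centralizer {y} ∧ b * (ρ * b * ρ⁻¹) * (ρ * (ρ * b * ρ⁻¹) * ρ⁻¹) ∈ U →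
      a * b ∈ D ⊓ centralizer {y} ∧ a * b * (ρ * (a * b) * ρ⁻¹) * (ρ * (ρ * (a * b) * ρ⁻¹) * ρ⁻¹) ∈ U :=
    fun ha hb => ⟨mul_mem ha.1 hb.1, hm _ ha.1 _ hb.1 (mul_mem ha.2 hb.2)⟩
  let B : Subgroup G :=
    { carrier := {a | a ∈ D ⊓ centralizer {y} ∧ a * (ρ * a * ρ⁻¹) * (ρ * (ρ * a * ρ⁻¹) * ρ⁻¹) ∈ U}
      mul_mem' := hmul
      one_mem' := ⟨one_mem _, by simp⟩
      inv_mem' := fun {a} ha => by
        have : a⁻¹ = a * a * a := by
          rw [inv_eq_iff_mul_eq_one, ← hD.aes.pow_four ha.1.1]; simp only [pow_succ, pow_zero, one_mul, mul_assoc]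
        rw [this]
        exact hmul (hmul ha ha) ha }
  have h1 := card_le_cen hD.aes le_rfl hy
  have h2 := card_le_two_mul (A := D ⊓ centralizer {y}) (B := B) fun a ha b hb k1 k2 =>
    ⟨mul_mem ha hb, hm a ha b hb (c.I_two (hI a ha) (hI b hb) (fun k => k1 ⟨ha, k⟩) fun k => k2 ⟨hb, k⟩)⟩
  obtain ⟨a, ha, ka⟩ := exists_not_mem (A := D ⊓ centralizer {y} ⊓ B) [1, z, y, z * y] (by simp only [List.length]; omega)
  obtain ⟨b, hb, kb⟩ := exists_not_mem (A := D ⊓ centralizer {y} ⊓ B)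
    [1, z, y, z * y, a⁻¹ * 1, a⁻¹ * z, a⁻¹ * y, a⁻¹ * (z * y)] (by simp only [List.length]; omega)
  simp only [List.mem_cons, List.not_mem_nil, or_false, eq_inv_mul_iff_mul_eq] at ka kb
  exact h.tri c.hU hD.aes.z_sq hE.aes.z_sq hD.aes.z_ne hE.aes.z_ne hne (c.U_le.trans le_sup_left) c.cent_P c.sq_P
    hρ rz ry (mem_sup_left ha.1) (mem_sup_left hb.1) (by rwa [c.hU]) (by rw [c.hU]; tauto) (by rw [c.hU]; tauto)
    (hD.aes.sq a ha.1.1) (hD.aes.sq b hb.1.1) (hD.aes.sq _ (mul_mem ha.1.1 hb.1.1)) ha.2.2 hb.2.2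

end Cfsg.Agent.Rk3
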