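import Mathlib
import Cfsg.Agent.Rk3.T0
import Cfsg.Agent.Rk3.LemQ

/-!
A maximal almost extraspecial normal subgroup of an involution centraliser has order at most 32.
-/

set_option autoImplicit false
set_option linter.unusedSectionVars false

namespace Cfsg.Agent.Rk3

open Cfsg Subgroup Cfsg.Agent.GT Cfsg.Agent.Loc.Mss Cfsg.Agent.NE Cfsg.Agent.Spor
open scoped commutatorElement

variable {G : Type*} [Group G] [Finite G]

namespace Big

theorem ind_of {U : Subgroup G} {a b c : G} (ha : a ∈ U) (hb : b ∈ U) (hc : c ∉ U) (h1 : a ≠ 1) (h2 : b ≠ 1)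
    (h3 : b ≠ a) : Ind a b c :=
  ⟨h1, h2, h3, fun e => hc (e ▸ one_mem U), fun e => hc (e ▸ ha), fun e => hc (e ▸ hb),
    fun e => hc (e ▸ mul_mem ha hb)⟩

theorem pow_gap {A : Subgroup G} (hA : IsPGroup 2 A) (n : ℕ) (h : ¬ Nat.card A ≤ 2 ^ n) :
    2 ^ (n + 1) ≤ Nat.card A := by
  have : Fact (Nat.Prime 2) := ⟨Nat.prime_two⟩
  obtain ⟨k, hk⟩ := hA.exists_card_eq
  rw [hk] at h ⊢
  exact Nat.pow_le_pow_right two_pos (by by_contra e; exact h (Nat.pow_le_pow_right two_pos (by omega)))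

theorem zp_sq {z : G} (hz : z * z = 1) : ∀ a ∈ zpowers z, a * a = 1 := fun a ha => by
  rcases (mem_zpowers_iff_of_sq hz).1 ha with rfl | rfl
  exacts [mul_one 1, hz]

/-- A large `D` contains no other conjugate of `z`. -/
theorem wc (h : Hyp G) {D : Subgroup G} {z g : G} (hD : Mx z D) (h64 : 64 ≤ Nat.card D)
    (hy : g * z * g⁻¹ ∈ D) : g * z * g⁻¹ = z := by
  by_contra hne
  have hE := hD.conj g
  refine h.t0 hD h64 hy hne ?_
  generalize cj(g, D) = E at hE
  generalize g * z * g⁻¹ = y at hE hy hne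
  have a := hD.aes
  have zy := a.z_comm y hy
  have yy := hE.aes.z_sq
  obtain ⟨-, u2, u3⟩ := ext_elem (zp_sq a.z_sq) yy fun x hx => comm_zpowers zy.symm hx
  have hc := card_le_cen a le_rfl hy
  have hz : z ∈ ext (zpowers z) y := le_ext _ _ (mem_zpowers z)
  have hy' : y ∈ ext (zpowers z) y := self_mem_ext _ _
  obtain ⟨p, hp, q, hq, s1, s2, s3⟩ := q8 (A := D ⊓ centralizer {y}) (U := ext (zpowers z) y) a inf_le_left
    (by simp [ext_le, Rec.mem_cen, a.z_mem, hy, zy]) hz u2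
    (fun u hu x hx => Rec.mem_cen.1 ((show ext (zpowers z) y ≤ centralizer {x} by
      simp [ext_le, Rec.mem_cen, a.z_comm x hx.1, (Rec.mem_cen.1 hx.2).symm]) hu))
    (by
      rw [u3 (by simp [mem_zpowers_iff_of_sq a.z_sq, hne, hE.aes.z_ne]), card_zpowers_of_sq a.z_ne a.z_sq]
      omega)
    (fun s hs s' hs' e e' c => by
      refine or_iff_not_imp_left.2 fun k => ?_
      have zs := a.z_comm s hs.1
      have ys := (Rec.mem_cen.1 hs.2).symm
      rcases h.no16 a.z_sq yy e e' zy zs ys (a.z_comm s' hs'.1) (Rec.mem_cen.1 hs'.2).symm c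
        (ind_of hz hy' k a.z_ne hE.aes.z_ne hne) with (r | r | r | r) | r | r | r | r <;> rw [r]
      · exact .inl (one_mem _)
      · exact .inl hz
      · exact .inl hy'
      · exact .inl (mul_mem hz hy')
      · exact .inr (e ▸ one_mem _)
      · exact .inr (by rwa [zs, sq_cancel e])
      · exact .inr (by rwa [ys, sq_cancel e])
      · exact .inr (by rw [(Commute.mul_left zs ys).eq, sq_cancel e]; exact mul_mem hz hy'))
  exact h.lemQ hE a.z_sq (Rec.mem_cen.1 hp.2).symm (Rec.mem_cen.1 hq.2).symm s1 s2 s3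

variable {D E : Subgroup G} {z y : G}

theorem cen_le (h : Hyp G) (hD : Mx z D) (hE : Mx y E) (zy : z * y = y * z) (hy : y ∉ D) (hz : z ∉ E) :
    Nat.card (D ⊓ centralizer {y} : Subgroup G) ≤ 8 := by
  by_contra k
  have a := hD.aes
  have k16 := pow_gap (a.isPGroup.to_le inf_le_left) 3 k
  obtain ⟨p, hp, q, hq, s1, s2, s3⟩ := q8 (A := D ⊓ centralizer {y}) (U := zpowers z) a inf_le_left
    (by simp [Rec.mem_cen, a.z_mem, zy]) (mem_zpowers z) (zp_sq a.z_sq)
    (fun u hu x hx => (comm_zpowers (a.z_comm x hx.1).symm hu).symm)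
    (by rw [card_zpowers_of_sq a.z_ne a.z_sq]; omega)
    (fun s hs s' hs' e e' c => by
      by_contra! r
      simp only [mem_zpowers_iff_of_sq a.z_sq, not_or] at r
      have zs := a.z_comm s hs.1
      have m1 := mul_mem a.z_mem hs.1
      rcases h.no16 a.z_sq e e' hE.aes.z_sq zs (a.z_comm s' hs'.1) c zy (Rec.mem_cen.1 hs.2) (Rec.mem_cen.1 hs'.2)
        ⟨a.z_ne, r.1.1, r.1.2, r.2.1.1, r.2.1.2, fun k => r.2.2.1 (by rw [k, e]),
          fun k => r.2.2.2 (by rw [k, zs, sq_cancel e])⟩ with (r | r | r | r) | r | r | r | r <;> refine hy (r ▸ ?_)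
      exacts [one_mem _, a.z_mem, hs.1, m1, hs'.1, mul_mem a.z_mem hs'.1, mul_mem hs.1 hs'.1, mul_mem m1 hs'.1])
  exact hz (h.lemQ hE a.z_sq (Rec.mem_cen.1 hp.2).symm (Rec.mem_cen.1 hq.2).symm s1 s2 s3)

theorem ze_inv (t d : G) : ze t d⁻¹ = d * (ze t d)⁻¹ * d⁻¹ := by simp only [ze]; group

theorem exists_s (h : Hyp G) (hD : Mx z D) (hE : Mx y E) (zy : z * y = y * z) (hy : y ∉ D) (hz : z ∉ E)
    (h64 : 64 ≤ Nat.card D) : ∃ s ∈ D, s * s = 1 ∧ s ≠ 1 ∧ s ≠ z ∧ y * s = s * y ∧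
      (∃ k, k * y * k⁻¹ = s * y) ∧ ∃ k, k * y * k⁻¹ = z * s * y := by
  have a := hD.aes
  have yy := hE.aes.z_sq
  have hn := hD.norm y zy
  have h8 := cen_le h hD hE zy hy hz
  have q : ∀ d ∈ D, ∀ e ∈ D, qf (ze y (d * e)) = qf (ze y d) + qf (ze y e) := fun d hd e he => by
    rw [qf_ze a hn (mul_mem hd he), qf_ze a hn hd, qf_ze a hn he, bf_ze_mul a yy hn hd he]
  let B₀ : Subgroup G :=
    { carrier := {d | d ∈ D ∧ qf (ze y d) = 0}
      one_mem' := ⟨one_mem _, by simp [ze, qf]⟩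
      mul_mem' := fun {d e} hd he => ⟨mul_mem hd.1 he.1, by rw [q d hd.1 e he.1, hd.2, he.2, add_zero]⟩
      inv_mem' := fun {d} hd => ⟨inv_mem hd.1, by rw [ze_inv, qf_conj, qf_inv, hd.2]⟩ }
  let B₁ : Subgroup G :=
    { carrier := {d | d ∈ D ∧ Eqv z (ze y d) 1}
      one_mem' := ⟨one_mem _, .inl (by simp [ze])⟩
      mul_mem' := fun {d e} hd he => ⟨mul_mem hd.1 he.1, (ze_mul_eqv a hn hd.1 he.1).trans a.z_sq
        (by simpa using hd.2.mul a.z_sq he.2 (a.z_comm _ (ze_mem hn hd.1)))⟩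
      inv_mem' := fun {d} hd => ⟨inv_mem hd.1, by
        rw [ze_inv]
        exact ((a.eqv_conj hd.1 (inv_mem (ze_mem hn hd.1))).trans a.z_sq (a.eqv_inv (ze_mem hn hd.1))).trans
          a.z_sq hd.2⟩ }
  have m0 : ∀ d, d ∈ B₀ ↔ d ∈ D ∧ qf (ze y d) = 0 := fun _ => Iff.rfl
  have m1 : ∀ d, d ∈ B₁ ↔ d ∈ D ∧ Eqv z (ze y d) 1 := fun _ => Iff.rfl
  clear_value B₀ B₁
  have c0 : Nat.card D ≤ 2 * Nat.card B₀ :=
    (card_le_two_mul (B := B₀) fun d hd e he k1 k2 => (m0 _).2 ⟨mul_mem hd he, by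
      rw [q d hd e he]
      simp only [m0, hd, he, true_and] at k1 k2
      revert k1 k2
      generalize qf (ze y d) = u, qf (ze y e) = v
      revert u v
      decide⟩).trans (Nat.mul_le_mul_left 2 (card_le_of_le inf_le_right))
  have c1 : Nat.card B₀ ≤ 2 * Nat.card B₁ :=
    (card_le_two_mul (B := B₁) fun d hd e he k1 k2 => by
      obtain ⟨hd, d0⟩ := (m0 d).1 hd
      obtain ⟨he, e0⟩ := (m0 e).1 he
      simp only [m1, hd, he, true_and] at k1 k2
      rw [qf_eq_zero] at d0 e0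
      have := ((h.s1 a yy hy zy hn hd he d0 e0).resolve_left k1).resolve_left k2
      exact (m1 _).2 ⟨mul_mem hd he, (ze_mul_eqv a hn hd he).trans a.z_sq (e0 ▸ this.mul_right _)⟩).trans
      (Nat.mul_le_mul_left 2 (card_le_of_le inf_le_right))
  have mc : ∀ d ∈ B₁, d ∉ D ⊓ centralizer {y} → ze y d = z := fun d hd k =>
    (eqv_one_iff.1 ((m1 d).1 hd).2).resolve_left fun e =>
      k ⟨((m1 d).1 hd).1, Rec.mem_cen.2 (ze_eq_one.1 e).symm⟩
  have zm : ∀ d e, ze y d = z → e ∈ D → ze y (d * e) = z * ze y e := fun d e k he => by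
    rw [ze_mul, k, ← a.z_comm _ (inv_mem he), inv_mul_cancel_right]
  have c2 : Nat.card B₁ ≤ 2 * Nat.card (D ⊓ centralizer {y} : Subgroup G) :=
    (card_le_two_mul (B := D ⊓ centralizer {y}) fun d hd e he k1 k2 =>
      ⟨mul_mem ((m1 d).1 hd).1 ((m1 e).1 he).1, Rec.mem_cen.2 (ze_eq_one.1 (by
        rw [zm d e (mc d hd k1) ((m1 e).1 he).1, mc e he k2, a.z_sq])).symm⟩).trans
      (Nat.mul_le_mul_left 2 (card_le_of_le inf_le_right))
  obtain ⟨d, hd, k1⟩ := SetLike.not_le_iff_exists.1 fun e : B₀ ≤ B₁ => by have := card_le_of_le e; omega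
  obtain ⟨e, he, k2⟩ := SetLike.not_le_iff_exists.1 fun e : B₁ ≤ D ⊓ centralizer {y} => by
    have := card_le_of_le e; omega
  obtain ⟨hd, d0⟩ := (m0 d).1 hd
  simp only [m1, hd, true_and, eqv_one_iff, not_or] at k1
  rw [qf_eq_zero] at d0
  refine ⟨ze y d, ze_mem hn hd, d0, k1.1, k1.2, comm_ze yy d0, ⟨d⁻¹, by rw [inv_inv, ze_mul_self yy]⟩,
    (e * d)⁻¹, ?_⟩
  rw [inv_inv, ← ze_mul_self yy, zm e d (mc e he k2) hd]

theorem no_pair (h : Hyp G) (hD : Mx z D) (hE : Mx y E) (zy : z * y = y * z) (hy : y ∉ D) (hz : z ∉ E)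
    (h64 : 64 ≤ Nat.card D) (h64' : 64 ≤ Nat.card E) : False := by
  have a := hD.aes
  have b := hE.aes
  obtain ⟨s, hs, ss, s1, sz, ys, ⟨k, hk⟩, k', hk'⟩ := exists_s h hD hE zy hy hz h64
  obtain ⟨t, ht, tt, t1, ty, zt, -⟩ := exists_s h hE hD zy.symm hz hy h64'
  have zs := a.z_comm s hs
  have hi : Ind z s y := ind_of a.z_mem hs hy a.z_ne s1 sz
  have st : s * t = t * s := by
    have cD : s * t * (s * t) ∈ D := by
      simpa [inv_of_sq tt, mul_assoc] using mul_mem hs (hD.norm t zt s hs)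
    have cE : s * t * (s * t) ∈ E := by
      simpa [inv_of_sq ss, mul_assoc] using mul_mem (hE.norm s ys t ht) ht
    have i1 := inverts_zpowers (inverts_mul ss tt).1 (mul_mem (mem_zpowers _) (mem_zpowers _))
    have i2 := inverts_zpowers (inverts_mul ss tt).2 (mul_mem (mem_zpowers _) (mem_zpowers _))
    have e1 : s * t * (s * t) = 1 → s * t = t * s := fun e => by
      rw [← inv_of_sq e, mul_inv_rev, inv_of_sq ss, inv_of_sq tt]
    generalize s * t * (s * t) = c at cD cE i1 i2 e1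
    have cc : c * c = 1 := by
      rcases a.sq c cD with e | e
      · exact e
      · exact absurd (e ▸ mul_mem cE cE) hz
    rw [inv_of_sq cc] at i1 i2
    have tc := comm_of_conj_eq i2
    rcases h.no16 a.z_sq ss b.z_sq cc zs zy ys.symm (a.z_comm c cD) (comm_of_conj_eq i1) (b.z_comm c cE) hi with
      (r | r | r | r) | r | r | r | r
    · exact e1 r
    · exact absurd (r ▸ cE) hz
    · exact (r ▸ tc).symm
    · rw [r, ← comm_assoc zt, mul_assoc] at tc
      exact (mul_left_cancel tc).symm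
    · exact absurd (r ▸ cD) hy
    · exact absurd ((mul_mem_cancel_left a.z_mem).1 (r ▸ cD)) hy
    · exact absurd ((mul_mem_cancel_left hs).1 (r ▸ cD)) hy
    · exact absurd ((mul_mem_cancel_left (mul_mem a.z_mem hs)).1 (r ▸ cD)) hy
  have n1 : s * y ∉ E := fun e => s1 (mul_eq_right.1 (hk.symm.trans (wc h hE h64' (hk ▸ e))))
  have n2 : z * s * y ∉ E := fun e => sz (by
    have : z * s = 1 := mul_eq_right.1 (hk'.symm.trans (wc h hE h64' (hk' ▸ e)))
    rw [← sq_cancel a.z_sq s, this, mul_one])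
  rcases h.no16 a.z_sq ss b.z_sq tt zs zy ys.symm zt st (b.z_comm t ht) hi with (r | r | r | r) | r | r | r | r
  · exact t1 r
  · exact hz (r ▸ ht)
  · exact n1 (mul_mem (r ▸ ht) b.z_mem)
  · exact n2 (mul_mem (r ▸ ht) b.z_mem)
  · exact ty r
  · exact hz ((mul_mem_cancel_right b.z_mem).1 (r ▸ ht))
  · exact n1 (r ▸ ht)
  · exact n2 (r ▸ ht)

end Big

theorem Hyp.big (h : Hyp G) {D : Subgroup G} {z : G} (hD : Mx z D) : Nat.card D ≤ 32 := by
  by_contra k
  have h64 : 64 ≤ Nat.card D := Big.pow_gap hD.aes.isPGroup 5 k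
  obtain ⟨g, h1, h2⟩ := h.zst z hD.aes.z_sq hD.aes.z_ne
  refine Big.no_pair h hD (hD.conj g) h2 (fun e => h1 (Big.wc h hD h64 e)) (fun e => h1 ?_) h64
    (by rwa [card_cj])
  have := Big.wc (g := g⁻¹) h hD h64 (by simpa using mem_cj.1 e)
  calc g * z * g⁻¹ = g * (g⁻¹ * z * g⁻¹⁻¹) * g⁻¹ := by rw [this]
    _ = z := by group

end Cfsg.Agent.Rk3
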