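import Mathlib
import Cfsg.Agent.Rk3.Big

/-!
Maximal normal subgroups of `C(z)` that are elementary abelian modulo `⟨z⟩`.
-/

set_option autoImplicit false
set_option linter.unusedSectionVars false

namespace Cfsg.Agent.Rk3

open Cfsg Subgroup Cfsg.Agent.GT Cfsg.Agent.Loc.Mss Cfsg.Agent.NE Cfsg.Agent.Spor
open scoped commutatorElement

variable {G : Type*} [Group G] [Finite G]

theorem exists_dd {P : Subgroup G} {z : G} (z2 : z * z = 1) (z1 : z ≠ 1) (hz : z ∈ P) (hP : P ≤ centralizer {z})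
    (hn : centralizer {z} ≤ 𝐍[P]) :
    ∃ E, DD z E ∧ ∀ x, x ∈ E ↔ x ∈ P ∧ (x * x = 1 ∨ x * x = z) ∧ x ∈ Tv P z := by
  have zc : ∀ x ∈ P, z * x = x * z := fun x hx => (Rec.mem_cen.1 (hP hx)).symm
  let E : Subgroup G :=
    { carrier := {x | x ∈ P ∧ (x * x = 1 ∨ x * x = z) ∧ x ∈ Tv P z}
      one_mem' := ⟨one_mem _, .inl (mul_one 1), one_mem _⟩
      mul_mem' := fun {x w} hx hw => ⟨mul_mem hx.1 hw.1, by
        rw [← eqv_one_iff, show x * w * (x * w) = x * w * x⁻¹ * (x * x * w) by group]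
        refine ((((mem_Tv z2).1 hx.2.2).2 w hw.1).mul_right _).trans z2
          (Eqv.trans z2 (y := w * (1 * w)) ?_ (by rw [one_mul]; exact eqv_one_iff.2 hw.2.1))
        exact ((eqv_one_iff.2 hx.2.1).mul_right w).mul_left (zc w hw.1), mul_mem hx.2.2 hw.2.2⟩
      inv_mem' := fun {x} hx => ⟨inv_mem hx.1, by
        rw [← mul_inv_rev]
        exact hx.2.1.imp (fun e => by rw [e, inv_one]) fun e => by rw [e, inv_of_sq z2], inv_mem hx.2.2⟩ }
  refine ⟨E, ⟨⟨hz, .inl z2, (mem_Tv z2).2 ⟨rfl, fun v hv => .inl (conj_eq_of_comm (zc v hv))⟩⟩, z1, z2,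
    fun d hd => zc d hd.1, fun d hd => hd.2.1, fun c hc d hd => ?_⟩, fun _ => Iff.rfl⟩
  have hc' := Rec.mem_cen.2 hc.symm
  refine ⟨conj_mem_of_norm (hn hc') hd.1, ?_, conj_mem_of_norm (norm_Tv hn le_rfl hc') hd.2.2⟩
  rw [← conj_mul']
  exact hd.2.1.imp (fun e => by simp [e]) fun e => by rw [e, conj_eq_of_comm hc.symm]

theorem Max.dd_norm {z : G} {D : Subgroup G} (h : DD z D) : centralizer {z} ≤ 𝐍[D] := fun c hc =>
  mem_norm_of_cj_le (cj_le_iff.2 (h.norm c (Rec.mem_cen.1 hc).symm))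

theorem Max.dd_pg {z : G} {D : Subgroup G} (h : DD z D) : IsPGroup 2 D := pg_iff.2 fun x hx =>
  ⟨2, by
    rw [show x ^ 2 ^ 2 = x * x * (x * x) from (pow_add x 2 2).trans (by rw [pow_two])]
    rcases h.sq x hx with e | e <;> simp [e, h.z_sq]⟩

theorem Max.dd_sup {z : G} {D E : Subgroup G} (h : DD z D) (k : DD z E) (c : E ≤ 𝐂[D]) : DD z (D ⊔ E) where
  z_mem := mem_sup_left h.z_mem
  z_ne := h.z_ne
  z_sq := h.z_sq
  z_comm := fun _ hd => (Rec.mem_cen.1 ((sup_le (fun x hx => Rec.mem_cen.2 (h.z_comm x hx).symm)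
    fun x hx => Rec.mem_cen.2 (k.z_comm x hx).symm : D ⊔ E ≤ centralizer {z}) hd)).symm
  sq := fun x hx => by
    obtain ⟨d, hd, e, he, rfl⟩ := (mem_sup_norm (norm_of_cent c)).1 hx
    rw [sq_mul_of_comm (mem_cent.1 (c he) d hd)]
    rcases h.sq d hd with a | a <;> rcases k.sq e he with b | b <;> simp [a, b, h.z_sq]
  norm := fun c hc _ hd => conj_mem_of_norm (norm_sup (dd_norm h) (dd_norm k) (Rec.mem_cen.2 hc.symm)) hd

theorem Hyp.exists_max (h : Hyp G) {z : G} {D₀ : Subgroup G} (h0 : DD z D₀) :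
    ∃ D, D₀ ≤ D ∧ DD z D ∧ (AES D z → Nat.card D ≤ 32 ∧ (ES2 D z → 𝐂[D] ≤ D)) := by
  obtain ⟨D, h1, hD, hm⟩ := Finite.exists_le_maximal (p := fun D : Subgroup G => DD z D) h0
  refine ⟨D, h1, hD, fun a => ?_⟩
  have z2 := a.z_sq
  have hC : 𝐂[D] ≤ centralizer {z} := fun x hx => Rec.mem_cen.2 (mem_cent.1 hx z a.z_mem).symm
  have hP : pCoreOf 2 𝐂[D] ≤ 𝐂[D] := GT.pCoreOf_le _
  have zz : centralizer {z} ≤ 𝐍[zpowers z] := cent_zpowers z ▸ cent_le_norm _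
  have hz : z ∈ pCoreOf 2 𝐂[D] := Loc.Am.le_pCoreOf
    (zpowers_le.2 (mem_cent.2 fun x hx => (a.z_comm x hx).symm)) (hC.trans zz)
    (isPGroup_zpowers (k := 1) (by rw [pow_one, pow_two, z2])) (mem_zpowers z)
  obtain ⟨E, hE, mE⟩ := exists_dd z2 a.z_ne hz (hP.trans hC) (norm_core (norm_cent (Max.dd_norm hD)))
  have hED : E ≤ D := le_sup_right.trans (hm (Max.dd_sup hD hE fun x hx => hP ((mE x).1 hx).1) le_sup_left)
  have key : 𝐂[D] ≤ D ∨ ∃ w ∈ D, w ∈ 𝐂[D] ∧ w * w = z := by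
    by_cases k : pCoreOf 2 𝐂[D] ≤ zpowers z
    · refine .inl (((h.chp_cent (Max.dd_pg hD) fun e => a.z_ne (by simpa [e] using a.z_mem)).le_core le_rfl
        (hC.trans ?_)).trans (k.trans (zpowers_le.2 a.z_mem)))
      exact cent_zpowers z ▸ cent_anti k
    · obtain ⟨w, hw, w1, w2, w3⟩ := exists_central_mod (pg_core _) ((hP.trans hC).trans zz) le_rfl le_normalizer k
      rw [mem_zpowers_iff_of_sq z2] at w1 w2
      have wD : w ∈ D := hED ((mE w).2 ⟨hw, w2, (mem_Tv z2).2 ⟨Rec.mem_cen.1 (hC (hP hw)), fun v hv =>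
        (eqv_iff_mem z2).2 (by simpa [mul_assoc] using inv_mem (w3 v hv))⟩⟩)
      exact .inr ⟨w, wD, hP hw, w2.resolve_left fun e =>
        w1 (a.omega w wD e fun q hq => (mem_cent.1 (hP hw) q hq).symm)⟩
  refine ⟨?_, fun es => key.resolve_right fun ⟨w, wD, wC, ww⟩ => ?_⟩
  · by_contra k
    obtain ⟨X, hX, x8⟩ := exists_e8 a (Big.pow_gap a.isPGroup 5 k)
    have inv : ∀ x, (∀ d ∈ D, x * d = d * x) → x * x = 1 → x ∈ D := fun x hx e =>
      hX (h.mem_of_comm x8 e fun v hv => hx v (hX hv))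
    refine k (h.big ⟨a, hD.norm, fun x hx e => e.elim (inv x hx) fun e => ?_⟩)
    rcases key with c | ⟨w, wD, wC, ww⟩
    · exact c (mem_cent.2 fun d hd => (hx d hd).symm)
    · refine (mul_mem_cancel_right wD).1 (inv _ (fun d hd => ?_) (by rw [sq_mul_of_comm (hx w wD), e, ww, z2]))
      rw [mul_assoc, ← mem_cent.1 wC d hd, ← mul_assoc, hx d hd, mul_assoc]
  · rcases es.center w wD fun q hq => (mem_cent.1 wC q hq).symm with e | e
    · exact a.z_ne (by rw [← ww, e, mul_one])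
    · exact a.z_ne (by rw [← ww, e, z2])

end Cfsg.Agent.Rk3
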