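import Mathlib
import Cfsg.Agent.Rk3.Defs2
import Cfsg.Agent.Inv.SE
import Cfsg.Agent.GT.PGroupBasic

/-!
Elementary abelian TI-subgroups under the standing hypothesis.
See `stubs/Cfsg/Agent/Rk3/PLAN.md`, section TI.
-/

set_option autoImplicit false
set_option linter.unusedSectionVars false

namespace Cfsg.Agent.Rk3

open Cfsg Subgroup Cfsg.Agent.GT Cfsg.Agent.Loc.Mss Cfsg.Agent.NE Cfsg.Agent.Spor
open scoped commutatorElement

variable {G : Type*} [Group G] [Finite G]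

namespace TI

variable {F N F₁ N₁ : Subgroup G}

theorem cen (hT : TI F N) {e x : G} (he : e ∈ F) (h1 : e ≠ 1) (h : e * x = x * e) : x ∈ N :=
  hT.ti e he h1 x (by rw [conj_eq_of_comm h.symm]; exact he)

theorem conj (hT : TI F N) (g : G) : TI cj(g, F) cj(g, N) where
  sq := fun v hv => by simpa [mul_assoc] using Rec.conj_sq (g := g) (hT.sq _ (mem_cj.1 hv))
  le := cj_mono g hT.le
  norm := by rw [← cj_norm]; exact cj_mono g hT.norm
  ti := fun e he h1 k hk => by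
    rw [mem_cj] at he hk ⊢
    refine hT.ti _ he (fun e' => h1 ?_) _ (by simpa [mul_assoc] using hk)
    calc e = g * (g⁻¹ * e * g) * g⁻¹ := by group
      _ = 1 := by rw [e']; group

theorem disj (hT : TI F N) {g : G} (hg : g ∉ N) : ∀ x ∈ F, x ∈ cj(g, F) → x = 1 := fun x hx hx' => by
  by_contra h1
  exact hg ((inv_mem_iff).1 (hT.ti x hx h1 g⁻¹ (by simpa using mem_cj.1 hx')))

theorem comm (hT : TI F N) {a b : G} (ha : a ∈ F) (hb : b ∈ F) : a * b = b * a := comm_of_sq hT.sq ha hb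

/-- An involution of `N` centralises a non-trivial element of `F`. -/
theorem exists_fixed (hT : TI F N) (h0 : F ≠ ⊥) {t : G} (ht : t ∈ N) (h2 : t * t = 1) :
    F ⊓ centralizer {t} ≠ ⊥ := by
  have hz : zpowers t ≤ 𝐍[F] := zpowers_le.2 (hT.norm ht)
  obtain ⟨x, hx, hx1, -, hc⟩ := exists_central_mod (S := F ⊔ zpowers t) (N := ⊥) (K := F)
    (pg_sup' (isPGroup_of_sq hT.sq) (isPGroup_zpowers (k := 1) (by rw [pow_one, pow_two, h2])) hz)
    (norm_normal _ _) le_sup_left (sup_le le_normalizer hz) (by simpa using h0)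
  intro e
  refine hx1 (e ▸ mem_inf.2 ⟨hx, Rec.mem_cen.2 ?_⟩)
  have := hc t (mem_sup_right (mem_zpowers t))
  rw [mem_bot, mul_inv_eq_one] at this
  exact (comm_of_conj_eq this).symm

/-- Elements of the two groups normalising each other commute. -/
theorem comm_of (hT : TI F N) (hT₁ : TI F₁ N₁) (hd : ∀ x ∈ F, x ∈ F₁ → x = 1) {u v : G} (hu : u ∈ F)
    (hu₁ : u ∈ N₁) (hv : v ∈ F₁) (hv₁ : v ∈ N) : u * v = v * u := by
  have := hd (u * v * u⁻¹ * v⁻¹)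
    (by simpa [mul_assoc] using mul_mem hu (conj_mem_of_norm (hT.norm hv₁) (inv_mem hu)))
    (mul_mem (conj_mem_of_norm (hT₁.norm hu₁) hv) (inv_mem hv))
  exact comm_of_conj_eq (mul_inv_eq_one.1 this)

theorem no4 (h : Hyp G) (hT : TI F N) (hT₁ : TI F₁ N₁) (hd : ∀ x ∈ F, x ∈ F₁ → x = 1) {e u y v : G} (he : e ∈ F)
    (hu : u ∈ F) (hy : y ∈ F₁) (hv : v ∈ F₁) (e1 : e ≠ 1) (u1 : u ≠ 1) (ue : u ≠ e) (y1 : y ≠ 1) (v1 : v ≠ 1)
    (vy : v ≠ y) (ey : e * y = y * e) (uy : u * y = y * u) (ev : e * v = v * e) (uv : u * v = v * u) : False := by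
  have k : ∀ x ∈ F, y ≠ x := fun x hx e' => y1 (hd y (e' ▸ hx) hy)
  have k1 : ∀ x ∈ F, v ≠ x := fun x hx e' => v1 (hd v (e' ▸ hx) hv)
  have k2 : ∀ x ∈ F, v ≠ x * y := fun x hx e' => vy (by
    rw [e', hd x hx ((mul_mem_cancel_right hy).1 (e' ▸ hv)), one_mul])
  rcases h.no16 (hT.sq e he) (hT.sq u hu) (hT₁.sq y hy) (hT₁.sq v hv) (hT.comm he hu) ey uy ev uv (hT₁.comm hy hv)
    ⟨e1, u1, ue, y1, k e he, k u hu, k _ (mul_mem he hu)⟩ with (a | a | a | a) | a | a | a | a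
  exacts [v1 a, k1 e he a, k1 u hu a, k1 _ (mul_mem he hu) a, vy a, k2 e he a, k2 u hu a, k2 _ (mul_mem he hu) a]

/-- An involution normalising an elementary group of order eight fixes two independent elements. -/
theorem two_fixed (hT : TI F N) (h8 : Nat.card F = 8) {y : G} (hy : y ∈ N) (h2 : y * y = 1) (e : G) :
    ∃ u ∈ F, u ≠ 1 ∧ u ≠ e ∧ u * y = y * u := by
  by_contra! hc
  have hn : ∀ d ∈ F, y * d * y⁻¹ ∈ F := fun d hd => conj_mem_of_norm (hT.norm hy) hd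
  have k : ∀ a ∈ F, a ∉ centralizer {y} → ze y a = e := fun a ha h1 => by
    by_contra h3
    exact hc _ (ze_mem hn ha) (fun h4 => h1 (Rec.mem_cen.2 (ze_eq_one.1 h4).symm)) h3
      (comm_ze h2 (hT.sq _ (ze_mem hn ha))).symm
  have h1 := card_le_two_mul (A := F) (B := centralizer {y}) fun a ha b hb h1 h2 => by
    refine Rec.mem_cen.2 (ze_eq_one.1 ?_).symm
    rw [ze_mul, mul_assoc b⁻¹, hT.comm (ze_mem hn ha) hb, inv_mul_cancel_left, k a ha h1, ← k b hb h2]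
    exact hT.sq _ (ze_mem hn hb)
  obtain ⟨x, hx, hx'⟩ := exists_not_mem (A := F ⊓ centralizer {y}) [1, e] (by simp only [List.length]; omega)
  simp only [List.mem_cons, List.not_mem_nil, or_false, not_or] at hx'
  exact hc x hx.1 hx'.1 hx'.2 (Rec.mem_cen.1 hx.2)

theorem four_cases (hT : TI F N) (h4 : Nat.card F = 4) {a b g : G} (ha : a ∈ F) (hb : b ∈ F) (hg : g ∈ F)
    (a1 : a ≠ 1) (b1 : b ≠ 1) (ba : b ≠ a) : g = 1 ∨ g = a ∨ g = b ∨ g = a * b := by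
  by_contra! hc
  have := (e8_of (hT.sq a ha) (hT.sq b hb) (hT.sq g hg) (hT.comm ha hb) (hT.comm ha hg) (hT.comm hb hg)
    ⟨a1, b1, ba, hc⟩).1.card
  have h2 := card_le_of_le (show ext (ext (ext ⊥ a) b) g ≤ F by simp [ext_le, ha, hb, hg])
  omega

theorem exists_two (h4 : Nat.card F = 4) (a : G) : ∃ b ∈ F, b ≠ 1 ∧ b ≠ a := by
  obtain ⟨x, hx, hx'⟩ := exists_not_mem (A := F) [1, a] (by rw [h4]; simp)
  simp only [List.mem_cons, List.not_mem_nil, or_false, not_or] at hx'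
  exact ⟨x, hx, hx'⟩

/-- An element of `N` fixing `y` moves `v` to `v` or `y v`. -/
theorem move (hT : TI F N) (h4 : Nat.card F = 4) {y v f : G} (hy : y ∈ F) (hv : v ∈ F) (y1 : y ≠ 1) (v1 : v ≠ 1)
    (vy : v ≠ y) (hf : f ∈ N) (fy : f * y = y * f) : f * v * f⁻¹ = v ∨ f * v * f⁻¹ = y * v := by
  rcases hT.four_cases h4 hy hv (conj_mem_of_norm (hT.norm hf) hv) y1 v1 vy with a | a | a | a
  · exact absurd (conj_eq_one_iff.1 a) v1
  · exact absurd (conj_inj.1 (a.trans (conj_eq_of_comm fy).symm)) vy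
  · exact .inl a
  · exact .inr a

theorem not_cent (h : Hyp G) (hT : TI F N) (hT₁ : TI F₁ N₁) (hd : ∀ x ∈ F, x ∈ F₁ → x = 1) (h4 : Nat.card F = 4)
    (h4' : Nat.card F₁ = 4) {y : G} (hy : y ∈ F₁) (y1 : y ≠ 1) (hc : ∀ e ∈ F, e * y = y * e) : False := by
  obtain ⟨v, hv, v1, vy⟩ := exists_two h4' y
  obtain ⟨a, ha, a1, -⟩ := exists_two h4 1
  obtain ⟨b, hb, b1, ba⟩ := exists_two h4 a
  have hN : ∀ f ∈ F, f ∈ N₁ := fun f hf => hT₁.cen hy y1 (hc f hf).symm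
  have k : ∃ e ∈ F, e ≠ 1 ∧ e * v = v * e := by
    rcases hT₁.move h4' hy hv y1 v1 vy (hN a ha) (hc a ha) with e1 | e1
    · exact ⟨a, ha, a1, comm_of_conj_eq e1⟩
    rcases hT₁.move h4' hy hv y1 v1 vy (hN b hb) (hc b hb) with e2 | e2
    · exact ⟨b, hb, b1, comm_of_conj_eq e2⟩
    refine ⟨a * b, mul_mem ha hb, fun e => ba ?_, comm_of_conj_eq ?_⟩
    · rw [← sq_cancel (hT.sq a ha) b, e, mul_one]
    · rw [← conj_conj, e2, conj_mul', e1, conj_eq_of_comm (hc a ha), sq_cancel (hT₁.sq y hy)]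
  obtain ⟨e, he, e1, ev⟩ := k
  have hvN := hT.cen he e1 ev
  exact no4 h hT hT₁ hd ha hb hy hv a1 b1 ba y1 v1 vy (hc a ha) (hc b hb)
    (comm_of hT hT₁ hd ha (hN a ha) hv hvN) (comm_of hT hT₁ hd hb (hN b hb) hv hvN)

/-- The elements whose commutator with `y` lies in the central subgroup `F`. -/
def BB (D F : Subgroup G) (y : G) (hc : D ≤ 𝐂[F]) : Subgroup G where
  carrier := {d | d ∈ D ∧ ze y d ∈ F}
  one_mem' := ⟨one_mem _, by simp [ze]⟩
  mul_mem' := fun {a b} ha hb => ⟨mul_mem ha.1 hb.1, by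
    rw [ze_mul]
    exact mul_mem (conj_mem_of_norm' (cent_le_norm _ (hc hb.1)) ha.2) hb.2⟩
  inv_mem' := fun {a} ha => ⟨inv_mem ha.1, by
    rw [show ze y a⁻¹ = a * (ze y a)⁻¹ * a⁻¹ by simp only [ze]; group]
    exact conj_mem_of_norm (cent_le_norm _ (hc ha.1)) (inv_mem ha.2)⟩

theorem mem_BB {D : Subgroup G} {y d : G} {hc : D ≤ 𝐂[F]} : d ∈ BB D F y hc ↔ d ∈ D ∧ ze y d ∈ F := Iff.rfl

end TI

theorem Hyp.exists_pair (h : Hyp G) {F N : Subgroup G} (hT : TI F N) (h0 : F ≠ ⊥) :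
    ∃ g, g ∉ N ∧ ∃ e ∈ F, ∃ y ∈ cj(g, F), e ≠ 1 ∧ y ≠ 1 ∧ e * y = y * e := by
  have : Fact (Nat.Prime 2) := ⟨Nat.prime_two⟩
  by_contra! hc
  have key : ∀ t ∈ N, t * t = 1 → t ≠ 1 → ∃ z ∈ F, z ≠ 1 ∧ z ∈ RR t ∧ ∀ r ∈ RR t, r * z = z * r := by
    intro t ht h2 h1
    set F₀ := F ⊓ centralizer {t} with hF₀
    set S := RR t ⊔ F₀ with hS
    have hSp : IsPGroup 2 S :=
      pg_sup' (pg_RR t) ((isPGroup_of_sq hT.sq).to_le inf_le_left) (inf_le_right.trans (norm_RR t))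
    have hSc : S ≤ centralizer {t} := sup_le (RR_le t) inf_le_right
    obtain ⟨z, hz, hz1, -, hzc⟩ := exists_central_mod (S := S ⊓ N) (N := ⊥) (K := F₀) (hSp.to_le inf_le_left)
      (norm_normal _ _) (le_inf le_sup_right (inf_le_left.trans hT.le))
      (norm_inf (inf_le_right.trans hT.norm) (norm_of_le (inf_le_left.trans hSc)))
      (by simpa using hT.exists_fixed h0 ht h2)
    rw [mem_bot] at hz1
    have hzc' : ∀ s ∈ S ⊓ N, s * z = z * s := fun s hs =>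
      comm_of_conj_eq (mul_inv_eq_one.1 (mem_bot.1 (hzc s hs)))
    have hle : S ≤ N := by
      by_contra hn
      have := hSp.isNilpotent
      obtain ⟨r, hr, hr', hrn⟩ := PG.exists_mem_normalizer_notMem (N := S ⊓ N) (M := S)
        (lt_of_le_of_ne inf_le_left fun e => hn (e.ge.trans inf_le_right))
      refine hc r (fun k => hr' ⟨hr, k⟩) z hz.1 _ (conj_mem_cj hz.1) hz1 (by simpa using hz1) (hzc' _ ?_).symm
      exact conj_mem_of_norm hrn ⟨mem_sup_right hz, hT.le hz.1⟩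
    have k : ∀ r ∈ RR t, r * z = z * r := fun r hr => hzc' r ⟨mem_sup_left hr, hle (mem_sup_left hr)⟩
    exact ⟨z, hz.1, hz1, h.mem_RR_of_comm h2 h1 k, k⟩
  refine h.nse N (Inv.isStronglyEmbedded_iff.2 ⟨fun e => h0 ?_, ?_, fun t ht h2 g hg => ?_⟩)
  · exact h.eq_bot_of_normal (isPGroup_of_sq hT.sq) (e ▸ hT.norm)
  · obtain ⟨⟨e, he⟩, e1⟩ := ne_bot_iff_exists_ne_one.1 h0
    have : orderOf e = 2 := orderOf_eq_two_iff'.2 ⟨fun k => e1 (Subtype.ext k), hT.sq e he⟩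
    exact even_iff_two_dvd.2 (this ▸ orderOf_dvd_natCard N (hT.le he))
  · obtain ⟨t1, t2⟩ := orderOf_eq_two_iff'.1 h2
    obtain ⟨z, hz, z1, hzr, -⟩ := key t ht t2 t1
    obtain ⟨z', hz', z1', -, hzr'⟩ := key _ hg (Rec.conj_sq t2) (by simpa using t1)
    by_contra hn
    exact hc g hn z' hz' _ (conj_mem_cj hz) z1' (by simpa using z1)
      (hzr' _ (by rw [RR_conj]; exact conj_mem_cj hzr)).symm

theorem Hyp.eight (h : Hyp G) {F N : Subgroup G} (hT : TI F N) : Nat.card F ≠ 8 := by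
  intro h8
  obtain ⟨g, hg, e, he, y, hy, e1, y1, ey⟩ := h.exists_pair hT fun k => by simp [k] at h8
  have hT₁ := hT.conj g
  obtain ⟨u, hu, u1, ue, uy⟩ := hT.two_fixed h8 (hT.cen he e1 ey) (hT₁.sq y hy) e
  obtain ⟨v, hv, v1, vy, ve⟩ := hT₁.two_fixed (by rw [card_cj, h8]) (hT₁.cen hy y1 ey.symm) (hT.sq e he) y
  exact TI.no4 h hT hT₁ (hT.disj hg) he hu hy hv e1 u1 ue y1 v1 vy ey uy ve.symm
    (TI.comm_of hT hT₁ (hT.disj hg) hu (hT₁.cen hy y1 uy.symm) hv (hT.cen he e1 ve.symm))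

theorem Hyp.four (h : Hyp G) {F N D : Subgroup G} (hT : TI F N) (h4 : Nat.card F = 4) (hFD : F ≤ D)
    (hn : N ≤ 𝐍[D]) (hc : D ≤ 𝐂[F]) (hsq : ∀ d ∈ D, d * d ∈ F) : Nat.card D ≤ 16 := by
  obtain ⟨g, hg, e, he, y, hy, e1, y1, ey⟩ := h.exists_pair hT fun k => by simp [k] at h4
  have hT₁ := hT.conj g
  have hd := hT.disj hg
  have h4' : Nat.card cj(g, F) = 4 := by rw [card_cj, h4]
  have yy := hT₁.sq y hy
  have hyN := hT.cen he e1 ey
  have hyD : ∀ d ∈ D, y * d * y⁻¹ ∈ D := fun d hd => conj_mem_of_norm (hn hyN) hd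
  have hyF : ∀ d ∈ F, y * d * y⁻¹ ∈ F := fun d hd => conj_mem_of_norm (hT.norm hyN) hd
  have hcc : ∀ d ∈ D, ∀ f ∈ F, f * d = d * f := fun d hd f hf => mem_cent.1 (hc hd) f hf
  -- the centraliser of `y` in `F`
  have b1 : ∀ f ∈ F, f * y = y * f → f = 1 ∨ f = e := fun f hf fy => by
    by_contra! k
    refine TI.not_cent h hT hT₁ hd h4 h4' hy y1 fun x hx => ?_
    rcases hT.four_cases h4 he hf hx e1 k.1 k.2 with a | a | a | a <;> rw [a]
    exacts [by simp, ey, fy, (Commute.mul_left ey fy).eq]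
  -- the centraliser of `y` in `D`
  have b2 : ∀ a ∈ D ⊓ centralizer {y}, a * a = 1 := fun a ha => by
    by_contra k
    have ay := Rec.mem_cen.1 ha.2
    obtain ⟨v, hv, v1, vy⟩ := TI.exists_two h4' y
    have av : a * a * v = v * (a * a) := by
      rcases hT₁.move h4' hy hv y1 v1 vy (hT₁.cen hy y1 ay.symm) ay with a1 | a1 <;> refine comm_of_conj_eq ?_
      · rw [← conj_conj, a1, a1]
      · rw [← conj_conj, a1, conj_mul', a1, conj_eq_of_comm ay, sq_cancel yy]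
    have ay' : a * a * y = y * (a * a) := (Commute.mul_left ay ay).eq
    refine TI.not_cent h hT₁ hT (fun x h1 h2 => hd x h2 h1) h4' h4 (hsq a ha.1) k fun x hx => ?_
    rcases hT₁.four_cases h4' hy hv hx y1 v1 vy with a1 | a1 | a1 | a1 <;> rw [a1]
    exacts [by simp, ay'.symm, av.symm, (Commute.mul_left ay'.symm av.symm).eq]
  have b3 : Nat.card (D ⊓ centralizer {y} : Subgroup G) ≤ 4 := by
    obtain ⟨f, hf, f1, fe⟩ := TI.exists_two h4 e
    obtain ⟨-, k2, k3⟩ := ext_elem b2 (hT.sq f hf) fun a ha => hcc a ha.1 f hf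
    have := h.r3 _ k2
    rw [k3 fun k => (b1 f hf (Rec.mem_cen.1 k.2)).elim f1 fe] at this
    omega
  set B := TI.BB D F y hc with hB
  have hBD : B ≤ D := fun _ hx => hx.1
  have hFB : F ≤ B := fun f hf => ⟨hFD hf, ze_mem hyF hf⟩
  have c1 : Nat.card B ≤ 8 := by
    have k : ∀ a ∈ B, a ∉ centralizer {y} → ze y a = e := fun a ha h1 =>
      (b1 _ ha.2 (comm_ze yy (hT.sq _ ha.2)).symm).resolve_left fun h4 => h1 (Rec.mem_cen.2 (ze_eq_one.1 h4).symm)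
    have h1 := card_le_two_mul (A := B) (B := centralizer {y}) fun a ha b hb h1 h2 => by
      refine Rec.mem_cen.2 (ze_eq_one.1 ?_).symm
      rw [ze_mul, mul_assoc b⁻¹, hcc b hb.1 _ ha.2, inv_mul_cancel_left, k a ha h1, k b hb h2]
      exact hT.sq e he
    have h2 := card_le_of_le (inf_le_inf_right (centralizer {y}) hBD)
    omega
  have c2 : ∀ x ∈ B, ∀ x' ∈ B, x ∉ F → x' ∉ F → x * x' ∈ F := fun x hx x' hx' h1 h2 => by
    have hxn : x ∈ 𝐍[F] := cent_le_norm _ (hc hx.1)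
    have hxx := hsq x hx.1
    have := eq_of_le_of_card_ge (ext_le.2 ⟨hFB, hx⟩) (by rw [card_ext hxn hxx h1]; omega)
    exact ((mem_ext hxn hxx).1 (this.ge hx')).resolve_left h2
  have c3 : ∀ d ∈ D, ze y d ∈ B := fun d hd => ⟨ze_mem hyD hd, by
    rw [ze, inverts_ze yy]
    exact hsq _ (inv_mem (ze_mem hyD hd))⟩
  have h1 := card_le_two_mul (A := D) (B := B) fun a ha b hb h1 h2 => by
    refine ⟨mul_mem ha hb, ?_⟩
    have hz := ze_mem hyD ha
    rw [ze_mul]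
    refine c2 _ ?_ _ (c3 b hb) (fun k => h1 ⟨ha, ?_⟩) fun k => h2 ⟨hb, k⟩
    · rw [show b⁻¹ * ze y a * b = ze y a * ((ze y a)⁻¹ * (ze y a)⁻¹ * (ze y a * b⁻¹ * (ze y a * b⁻¹)) * (b * b)) by
        group]
      exact mul_mem (c3 a ha) (hFB (mul_mem (mul_mem (hsq _ (inv_mem hz)) (hsq _ (mul_mem hz (inv_mem hb))))
        (hsq b hb)))
    · simpa [mul_assoc] using conj_mem_of_norm (cent_le_norm _ (hc hb)) k
  have h2 := card_le_of_le (inf_le_right (a := D) (b := B))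
  omega

end Cfsg.Agent.Rk3
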