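import Mathlib
import Cfsg.Agent.Rk3.TI
import Cfsg.Agent.Rk3.Max

/-!
An elementary abelian group of order eight with full automiser is self-centralising.
-/

set_option autoImplicit false
set_option linter.unusedSectionVars false

namespace Cfsg.Agent.Rk3

open Cfsg Subgroup Cfsg.Agent.GT Cfsg.Agent.Loc.Mss Cfsg.Agent.NE Cfsg.Agent.Spor
open scoped commutatorElement

variable {G : Type*} [Group G] [Finite G]

theorem St.not_norm {V : Subgroup G} {z : G} (s : St V z) : ¬ centralizer {z} ≤ 𝐍[V] := fun h => by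
  refine s.hyp.eight (N := 𝐍[V]) ⟨s.e8.sq, le_normalizer, le_rfl, fun e he h1 g hg => ?_⟩ s.e8.card
  obtain ⟨m, hm, rfl⟩ := s.trans1 he h1
  obtain ⟨n, hn, e⟩ := s.trans1 hg (by simpa using s.ne)
  have k : n⁻¹ * g * m ∈ 𝐍[V] := h (Rec.mem_cen.2 (comm_of_conj_eq (by
    calc _ = n⁻¹ * (g * (m * z * m⁻¹) * g⁻¹) * n := by group
      _ = z := by rw [← e]; group)))
  simpa [mul_assoc] using mul_mem (mul_mem hn k) (inv_mem hm)

theorem OneA.two_mul_le {A B : Subgroup G} (h : A ≤ B) {x : G} (hx : x ∈ B) (hA : x ∉ A) :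
    2 * Nat.card A ≤ Nat.card B := by
  obtain ⟨k, hk⟩ := card_dvd_of_le h
  have h0 : k ≠ 0 := fun e => by
    rw [e, mul_zero] at hk
    exact Nat.card_pos.ne' hk
  have h1 : k ≠ 1 := fun e => hA ((eq_of_le_of_card_ge h (by rw [hk, e, mul_one])).ge hx)
  rw [hk, mul_comm]
  exact Nat.mul_le_mul_left _ (by omega)

theorem St.self_cent {V : Subgroup G} {z : G} (s : St V z) : 𝐂[V] ≤ V := by
  have : Fact (Nat.Prime 2) := ⟨Nat.prime_two⟩
  have hV : IsPGroup 2 V := isPGroup_of_sq s.e8.sq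
  have hPC : pCoreOf 2 𝐂[V] ≤ 𝐂[V] := GT.pCoreOf_le _
  have hn : 𝐍[V] ≤ 𝐍[pCoreOf 2 𝐂[V]] := norm_core (norm_cent le_rfl)
  have hP := pg_core (p := 2) 𝐂[V]
  have hch := s.hyp.chp_cent hV fun e => s.ne (mem_bot.1 (e ▸ s.mem))
  by_cases hPV : pCoreOf 2 𝐂[V] ≤ V
  · exact (hch.le_core le_rfl (cent_anti hPV)).trans hPV
  exfalso
  clear hch
  generalize pCoreOf 2 𝐂[V] = P at hPC hn hP hPV
  have inV : ∀ x, x * x = 1 → x ∈ 𝐂[V] → x ∈ V := fun x h1 h2 =>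
    s.hyp.mem_of_comm s.e8 h1 fun v hv => (mem_cent.1 h2 v hv).symm
  obtain ⟨x₀, h0, h0'⟩ := SetLike.not_le_iff_exists.1 hPV
  obtain ⟨y, hy, hyV, hy2⟩ := exists_pow_not_mem hP h0 h0'
  replace hy : y ∈ P := zpowers_le.2 h0 hy
  have SQ : ∀ r : G, (∀ x ∈ P, x * r * x⁻¹ * r⁻¹ ∈ V) → r ∈ 𝐂[V] := fun r hr => mem_cent.2 fun v hv => by
    by_cases h1 : v = 1
    · simp [h1]
    obtain ⟨m, hm, rfl⟩ := (s.of_mem hy2 fun e => hyV (inV y e (hPC hy))).trans1 hv h1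
    have hx := conj_mem_of_norm (hn hm) hy
    rw [conj_mul']
    generalize m * y * m⁻¹ = x at hx
    have c := hr x hx
    have c1 := mem_cent.1 (hPC hx) _ c
    have c2 := s.e8.sq _ c
    refine comm_of_conj_eq ?_
    calc x * x * r * (x * x)⁻¹ = x * (x * r * x⁻¹ * r⁻¹) * (r * x⁻¹) := by group
      _ = x * r * x⁻¹ * r⁻¹ * (x * r * x⁻¹ * r⁻¹) * r := by rw [← c1]; group
      _ = r := by rw [c2, one_mul]
  obtain ⟨T, hT⟩ := Syl.exists 2 𝐍[V]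
  have hPT : P ≤ T := hT.le_of_norm hP (hPC.trans (cent_le_norm V)) (hT.le.trans hn)
  have hVT : V ≤ T := hT.le_of_norm hV le_normalizer hT.le
  have inP : ∀ x ∈ P, ∀ r ∈ T, x * r * x⁻¹ * r⁻¹ ∈ P := fun x hx r hr => by
    simpa [mul_assoc] using mul_mem hx (conj_mem_of_norm (hn (hT.le hr)) (inv_mem hx))
  have hS : Syl 2 T ⊤ := Syl.of_norm hT.pg le_top fun Q hQ h1 _ h2 => hT.ge_of_le hQ h1 fun g hg => by
    have a1 : cj(g, V) ≤ T := cj_le_of_norm hVT (h2 hg)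
    have a2 : T ≤ 𝐍[cj(g, V)] := by
      rw [← cj_norm, ← cj_of_norm (h2 hg)]
      exact cj_mono g hT.le
    refine mem_norm_of_cj_le fun r hr => inV r ((s.e8.conj g).sq r hr) (SQ r fun x hx => ?_)
    exact inV _ ((s.e8.conj g).sq _ (mul_mem (conj_mem_of_norm (a2 (hPT hx)) hr) (inv_mem hr)))
      (hPC (inP x hx r (a1 hr)))
  obtain ⟨t, ht, t1, t2, t3⟩ := exists_central_mod (N := ⊥) hT.pg (norm_normal _ _) hVT hT.le
    fun e => s.ne (mem_bot.1 (e s.mem))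
  rw [mem_bot] at t1 t2
  have s₁ := s.of_mem ht t1
  have hTt : T ≤ centralizer {t} := fun r hr =>
    Rec.mem_cen.2 (comm_of_conj_eq (mul_inv_eq_one.1 (mem_bot.1 (t3 r hr))))
  have hS₁ := hS.mono hTt le_top
  have hR : RR t ≤ Tv V t := s₁.le_Tv_of_pg (pg_RR t) (le_inf (hS₁.core_le.trans hT.le) (RR_le t))
    (inf_le_right.trans (norm_RR t))
  have hVR : V ≤ Tv (RR t) t := fun v hv => (mem_Tv t2).2 ⟨s.e8.comm hv ht, fun r hr => (eqv_iff_mem t2).2 (by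
    simpa [mul_assoc] using inv_mem ((eqv_iff_mem t2).1 (((mem_Tv t2).1 (hR hr)).2 v hv)))⟩
  obtain ⟨E, hE, mE⟩ := exists_dd t2 t1 (mem_RR t2) (RR_le t) (norm_RR t)
  obtain ⟨D, hED, hD, h32⟩ := s.hyp.exists_max hE
  have hVD : V ≤ D := fun v hv => hED ((mE v).2 ⟨s.hyp.Tv_RR_le t2 t1 (hVR hv), .inl (s.e8.sq v hv), hVR hv⟩)
  have nD : centralizer {t} ≤ 𝐍[D] := fun c hc =>
    mem_norm_of_cj_le (cj_le_iff.2 (hD.norm c (Rec.mem_cen.1 hc).symm))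
  have hDT : D ≤ T := hS₁.le_of_norm (pg_iff.2 fun d hd => ⟨2, by
      rw [show d ^ 2 ^ 2 = d * d * (d * d) by rw [show 2 ^ 2 = 2 + 2 from rfl, pow_add, pow_two]]
      rcases hD.sq d hd with e | e <;> rw [e]
      exacts [mul_one 1, t2]⟩)
    (fun d hd => Rec.mem_cen.2 (hD.z_comm d hd).symm) (hTt.trans nD)
  rcases s₁.inv_or (F := 𝐂[D]) (mem_cent.2 fun d hd => (hD.z_comm d hd).symm)
    (norm_cent (inf_le_right.trans nD)) with e | e
  swap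
  · refine s₁.not_norm fun c hc => mem_norm_of_cj_le (cj_le_iff.2 fun v hv => ?_)
    exact inV _ (Rec.conj_sq (s.e8.sq v hv)) (cent_anti hVD (conj_mem_of_norm (norm_cent nD hc) (e hv)))
  have hA : AES D t := hD.aes fun x _ h1 h2 =>
    have h3 : x ∈ 𝐂[D] := mem_cent.2 fun d hd => (h2 d hd).symm
    e x h3 (inV x h1 (cent_anti hVD h3))
  obtain ⟨u, hu, w, hw, -, u1, u2, w1, w2, w3, w4⟩ := s.e8.exists_second t1
  have nc : ¬ ∀ q ∈ D, u * q = q * u := fun k => (hA.omega u (hVD hu) (s.e8.sq u hu) k).elim u1 u2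
  obtain ⟨q, hq, q1⟩ : ∃ q ∈ D, u * q ≠ q * u := by simpa using nc
  obtain ⟨p, hp, p1, p2⟩ : ∃ p ∈ D, p * u = u * p ∧ p * w ≠ w * p := by
    by_contra! k
    have := hA.omega_center_centralizer (hVD hu) (s.e8.sq u hu) u1 u2 (hVD hw) (s.e8.sq w hw) k
    tauto
  have c1 := OneA.two_mul_le (A := D ⊓ centralizer {u}) inf_le_left hq fun k => q1 (Rec.mem_cen.1 k.2).symm
  have c2 := OneA.two_mul_le (A := D ⊓ 𝐂[V]) (B := D ⊓ centralizer {u})
    (inf_le_inf_left D fun c hc => Rec.mem_cen.2 (mem_cent.1 hc u hu).symm) ⟨hp, Rec.mem_cen.2 p1⟩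
    fun k => p2 (mem_cent.1 k.2 w hw).symm
  have c3 : V = D ⊓ 𝐂[V] := eq_of_le_of_card_ge (le_inf hVD fun v hv => mem_cent.2 fun a ha => s.e8.comm ha hv) (by
    have := (h32 hA).1
    rw [s.e8.card]
    omega)
  refine q1 (mem_cent.1 (SQ q fun x hx => c3.ge (mem_inf.2 ⟨?_, hPC (inP x hx q (hDT hq))⟩)) u hu)
  exact mul_mem (hD.norm x (mem_cent.1 (hPC hx) t ht) q hq) (inv_mem hq)

end Cfsg.Agent.Rk3
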