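import Mathlib
import Cfsg.Agent.Rk3.QF
import Cfsg.Agent.Loc.CardProd

/-!
The stabiliser `Tv V z` of the chain `1 < ⟨z⟩ < V` is extraspecial of order 32 and equals `O₂(C(z))`.
-/

set_option autoImplicit false
set_option linter.unusedSectionVars false

namespace Cfsg.Agent.Rk3

open Cfsg Subgroup Cfsg.Agent.GT Cfsg.Agent.Loc.Mss Cfsg.Agent.NE Cfsg.Agent.Spor
open scoped commutatorElement

variable {G : Type*} [Group G] [Finite G]

namespace OneD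

/-- The elements normalising `W` and centralising `x` modulo `W`. -/
def Kx (W : Subgroup G) (x : G) : Subgroup G where
  carrier := {g | g ∈ 𝐍[W] ∧ g * x * g⁻¹ * x⁻¹ ∈ W}
  one_mem' := ⟨one_mem _, by simp⟩
  mul_mem' := fun {g h} hg hh => ⟨mul_mem hg.1 hh.1, by
    have := mul_mem (conj_mem_of_norm hg.1 hh.2) hg.2
    simpa [mul_assoc] using this⟩
  inv_mem' := fun {g} hg => ⟨inv_mem hg.1, by
    have := conj_mem_of_norm' hg.1 (inv_mem hg.2)
    simpa [mul_assoc] using this⟩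

theorem mem_Kx {W : Subgroup G} {x g : G} : g ∈ Kx W x ↔ g ∈ 𝐍[W] ∧ g * x * g⁻¹ * x⁻¹ ∈ W := Iff.rfl

theorem eqv_swap {z x y : G} (hz : z * z = 1) (h : Eqv z (x * y * x⁻¹) y) : Eqv z (y * x * y⁻¹) x := by
  rw [eqv_iff_mem hz] at h ⊢
  simpa [mul_assoc] using inv_mem h

end OneD

open OneD

namespace St

variable {V : Subgroup G} {z : G} (s : St V z) (hc : 𝐂[V] ≤ V)
include s

theorem d_zc {r : G} (hr : r ∈ Tv V z) : r * z = z * r := ((mem_Tv s.sq).1 hr).1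

theorem d_act {r v : G} (hr : r ∈ Tv V z) (hv : v ∈ V) : r * v * r⁻¹ = v ∨ r * v * r⁻¹ = z * v :=
  ((mem_Tv s.sq).1 hr).2 v hv

theorem d_zne (x : G) : z * x ≠ x := fun e => s.ne (by simpa using e)

/-- An element of `N(V) ∩ C(z)` acting trivially modulo `z` on a basis. -/
theorem d_mem {u w r : G} (hu : u ∈ V) (hw : w ∈ V) (hi : Ind z u w) (hz : r * z = z * r)
    (h1 : Eqv z (r * u * r⁻¹) u) (h2 : Eqv z (r * w * r⁻¹) w) : r ∈ Tv V z := by
  have zz := conj_eq_of_comm hz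
  have zc : ∀ x ∈ V, z * (r * x * r⁻¹) = r * x * r⁻¹ * z := fun x hx => by
    have := conj_comm r (s.e8.comm s.mem hx)
    rwa [zz] at this
  have hm : ∀ {x y : G}, x ∈ V → Eqv z (r * x * r⁻¹) x → Eqv z (r * y * r⁻¹) y →
      Eqv z (r * (x * y) * r⁻¹) (x * y) := fun hx a b => by
    rw [conj_mul']; exact a.mul s.sq b (zc _ hx)
  have h0 : Eqv z (r * z * r⁻¹) z := .inl zz
  refine (mem_Tv s.sq).2 ⟨hz, fun v hv => ?_⟩
  rcases s.e8.cases s.mem hu hw hi hv with (e | e | e | e) | e | e | e | e <;> rw [e]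
  exacts [.inl (by simp), h0, h1, hm s.mem h0 h1, h2, hm s.mem h0 h2, hm hu h1 h2,
    hm (mul_mem s.mem hu) (hm s.mem h0 h1) h2]

theorem d_ind {u w : G} (hi : Ind z u w) : Ind z (z * u) w := by
  obtain ⟨h1, h2, h3, h4, h5, h6, h7⟩ := hi
  refine ⟨h1, fun e => h3 ?_, fun e => h2 (by simpa using e), h4, h5, h7, by rwa [sq_cancel s.sq]⟩
  rw [← sq_cancel s.sq u, e, mul_one]

theorem d_ind' {u w : G} (hi : Ind z u w) : Ind z w u := by
  obtain ⟨h1, h2, h3, h4, h5, h6, h7⟩ := hi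
  exact ⟨h1, h4, h5, h2, h3, h6.symm, fun e => h7 (by rw [e, sq_cancel s.sq])⟩

/-- The transvection `u ↦ z u`, `w ↦ w`. -/
theorem d_tv {u w : G} (hu : u ∈ V) (hw : w ∈ V) (hi : Ind z u w) :
    ∃ r ∈ Tv V z, r * u * r⁻¹ = z * u ∧ r * w * r⁻¹ = w := by
  obtain ⟨m, hm, e1, e2⟩ := s.trans3 hu hw (mul_mem s.mem hu) hw hi (s.d_ind hi)
  exact ⟨m, s.d_mem hu hw hi (Rec.mem_cen.1 hm.2) (.inr e1) (.inl e2), e1, e2⟩

theorem d_conj2 {r r' v : G} (hr : r ∈ Tv V z) (hr' : r' ∈ Tv V z) (hv : v ∈ V) :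
    r * (r' * v * r'⁻¹) * r⁻¹ = r' * (r * v * r⁻¹) * r'⁻¹ ∧ r * (r * v * r⁻¹) * r⁻¹ = v := by
  have z1 := conj_eq_of_comm (s.d_zc hr)
  have z2 := conj_eq_of_comm (s.d_zc hr')
  rcases s.d_act hr hv with a | a <;> rcases s.d_act hr' hv with b | b <;>
    simp only [a, b, conj_mul', z1, z2, sq_cancel s.sq, and_self]

theorem d_norm {W : Subgroup G} (hW : W ≤ V) (hz : z ∈ W) : Tv V z ≤ 𝐍[W] := fun r hr =>
  mem_norm_of_cj_le (cj_le_iff.2 fun v hv => by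
    rcases s.d_act hr (hW hv) with e | e <;> rw [e]
    exacts [hv, mul_mem hz hv])

include hc

theorem d_cen {u w x : G} (hu : u ∈ V) (hw : w ∈ V) (hi : Ind z u w) (hz : x * z = z * x)
    (h1 : x * u * x⁻¹ = u) (h2 : x * w * x⁻¹ = w) : x ∈ V := by
  have h0 := conj_eq_of_comm hz
  refine hc (mem_cent.2 fun v hv => (comm_of_conj_eq ?_).symm)
  rcases s.e8.cases s.mem hu hw hi hv with (e | e | e | e) | e | e | e | e <;>
    simp only [e, conj_mul', h0, h1, h2, mul_one, mul_inv_cancel]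

theorem d_sq {r : G} (hr : r ∈ Tv V z) : r * r ∈ V :=
  hc (mem_cent.2 fun v hv => (comm_of_conj_eq (by rw [← conj_conj]; exact (s.d_conj2 hr hr hv).2)).symm)

theorem d_comm {r r' : G} (hr : r ∈ Tv V z) (hr' : r' ∈ Tv V z) : r * r' * r⁻¹ * r'⁻¹ ∈ V := by
  refine hc (mem_cent.2 fun v hv => (comm_of_conj_eq ?_).symm)
  have hv' : (r' * r)⁻¹ * v * (r' * r) ∈ V := conj_mem_of_norm' (s.Tv_le_norm (mul_mem hr' hr)) hv
  have := (s.d_conj2 hr hr' hv').1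
  calc _ = r * (r' * ((r' * r)⁻¹ * v * (r' * r)) * r'⁻¹) * r⁻¹ := by group
    _ = v := by rw [this]; group

/-- `Tv V z` is generated by `V` and two transvections. -/
theorem d_gen {u w r₁ r₂ : G} (hu : u ∈ V) (hw : w ∈ V) (hi : Ind z u w) (h1 : r₁ ∈ Tv V z) (h2 : r₂ ∈ Tv V z)
    (a1 : r₁ * u * r₁⁻¹ = z * u) (b1 : r₁ * w * r₁⁻¹ = w) (a2 : r₂ * u * r₂⁻¹ = u) (b2 : r₂ * w * r₂⁻¹ = z * w) :
    Tv V z = ext (ext V r₁) r₂ ∧ Nat.card (Tv V z) = 32 := by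
  have z1 := conj_eq_of_comm (s.d_zc h1)
  have z2 := conj_eq_of_comm (s.d_zc h2)
  have n1 := s.Tv_le_norm h1
  have q1 := s.d_sq hc h1
  have n2 : r₂ ∈ 𝐍[ext V r₁] := mem_norm_of_cj_le (by
    rw [cj_le_iff_le_inv, ext_le, ← cj_le_iff_le_inv, cj_of_norm (s.Tv_le_norm h2), mem_cj]
    refine ⟨le_ext _ _, ?_⟩
    have := mul_mem (le_ext V r₁ (s.d_comm hc h2 h1)) (self_mem_ext V r₁)
    simpa [mul_assoc] using this)
  have q2 := le_ext V r₁ (s.d_sq hc h2)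
  have e : Tv V z = ext (ext V r₁) r₂ := by
    refine le_antisymm (fun r hr => ?_) (by simp only [ext_le]; exact ⟨⟨s.le_Tv, h1⟩, h2⟩)
    rw [mem_ext n2 q2, mem_ext n1 q1, mem_ext n1 q1]
    rcases s.d_act hr hu with a | a <;> rcases s.d_act hr hw with b | b
    · exact .inl (.inl (s.d_cen hc hu hw hi (s.d_zc hr) a b))
    · refine .inr (.inl (s.d_cen hc hu hw hi (s.d_zc (mul_mem h2 hr)) ?_ ?_)) <;>
        simp only [← conj_conj, a, b, a2, b2, conj_mul', z2, sq_cancel s.sq]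
    · refine .inl (.inr (s.d_cen hc hu hw hi (s.d_zc (mul_mem h1 hr)) ?_ ?_)) <;>
        simp only [← conj_conj, a, b, a1, b1, conj_mul', z1, sq_cancel s.sq]
    · refine .inr (.inr (s.d_cen hc hu hw hi (s.d_zc (mul_mem h1 (mul_mem h2 hr))) ?_ ?_)) <;>
        simp only [← conj_conj, a, b, a1, b1, a2, b2, conj_mul', z1, z2, sq_cancel s.sq]
  refine ⟨e, ?_⟩
  have m1 : r₁ ∉ V := fun k => s.d_zne u (a1.symm.trans (conj_eq_of_comm (s.e8.comm k hu)))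
  have m2 : r₂ ∉ ext V r₁ := fun k => by
    rcases (mem_ext n1 q1).1 k with k | k
    · exact s.d_zne w (b2.symm.trans (conj_eq_of_comm (s.e8.comm k hw)))
    · have := conj_eq_of_comm (s.e8.comm k hu)
      rw [← conj_conj, a2, a1] at this
      exact s.d_zne u this
  rw [e, card_ext n2 q2 m2, card_ext n1 q1 m1, s.e8.card]

theorem es : ES2 (Tv V z) z ∧ Nat.card (Tv V z) = 32 := by
  obtain ⟨u, hu, w, hw, hi⟩ := s.e8.exists_second s.ne
  obtain ⟨r₁, h1, a1, b1⟩ := s.d_tv hu hw hi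
  obtain ⟨r₂, h2, b2, a2⟩ := s.d_tv hw hu (s.d_ind' hi)
  obtain ⟨e, hcard⟩ := s.d_gen hc hu hw hi h1 h2 a1 b1 a2 b2
  refine ⟨⟨s.le_Tv s.mem, s.ne, s.sq, fun q hq => (s.d_zc hq).symm, ?_, fun x hx hx' => ?_,
    r₁, h1, u, s.le_Tv hu, fun k => s.d_zne u (a1.symm.trans (conj_eq_of_comm k))⟩, hcard⟩
  · set c := r₁ * r₂ * r₁⁻¹ * r₂⁻¹ with hcd
    have hcV : c ∈ V := s.d_comm hc h1 h2
    have hzV : zpowers z ≤ V := by simpa using s.mem
    set W := ext (zpowers z) c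
    have hWV : W ≤ V := ext_le.2 ⟨hzV, hcV⟩
    have hzW : z ∈ W := le_ext _ _ (mem_zpowers z)
    have hn := s.d_norm hWV hzW
    have kV : ∀ x ∈ Tv V z, V ≤ Kx W x := fun x hx v hv => ⟨hn (s.le_Tv hv), le_ext _ _ ((eqv_iff_mem s.sq).1
      (eqv_swap s.sq (s.d_act hx hv)))⟩
    have sw : ∀ {x y : G}, y ∈ Tv V z → x ∈ Kx W y → x ∈ Tv V z → y ∈ Kx W x := fun hy h _ =>
      ⟨hn hy, by simpa [mul_assoc] using inv_mem h.2⟩
    have k12 : r₁ ∈ Kx W r₂ := ⟨hn h1, self_mem_ext _ _⟩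
    have kk : ∀ {x : G}, x ∈ Tv V z → r₁ ∈ Kx W x → r₂ ∈ Kx W x → Tv V z ≤ Kx W x := fun hx a b => by
      rw [e, ext_le, ext_le]; exact ⟨⟨kV _ hx, a⟩, b⟩
    have k1 := kk h1 ⟨hn h1, by simp⟩ (sw h2 k12 h1)
    have k2 := kk h2 k12 ⟨hn h2, by simp⟩
    have hW : ⁅Tv V z, Tv V z⁆ ⊔ zpowers z ≤ W :=
      sup_le (commutator_le.2 fun x hx y hy => (kk hy (sw h1 (k1 hy) hy) (sw h2 (k2 hy) hy) hx).2) (le_ext _ _)
    rcases s.inv_or (F := ⁅Tv V z, Tv V z⁆ ⊔ zpowers z) (mem_sup_right (mem_zpowers z))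
      (norm_sup (norm_comm s.norm_Tv' s.norm_Tv') (inf_le_right.trans (cent_zpowers z ▸ cent_le_norm _))) with k | k
    · intro x hx y hy
      refine (k _ (mem_sup_left (commutator_mem_commutator hx hy)) (s.d_comm hc hx hy)).imp (fun e => ?_) fun e => ?_
      · exact commutatorElement_eq_one_iff_mul_comm.1 e
      · rw [← e, commutatorElement_def]; group
    · exfalso
      obtain ⟨x, hx, hx'⟩ := exists_not_mem (A := V) [1, z, c, c * z] (by rw [s.e8.card]; simp)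
      have cc := s.e8.sq c hcV
      have := (mem_ext (cent_le_norm _ (mem_cent.2 fun a ha => s.e8.comm (hzV ha) hcV)) (by simp [cc])).1
        (hW (k hx))
      simp only [mem_zpowers_iff_of_sq s.sq] at this
      simp only [List.mem_cons, List.not_mem_nil, or_false, not_or] at hx'
      rcases this with (a | a) | a | a
      exacts [hx'.1 a, hx'.2.1 a, hx'.2.2.1 (by rw [← sq_cancel cc x, a, mul_one]),
        hx'.2.2.2 (by rw [← sq_cancel cc x, a])]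
  · have hxV : x ∈ V := hc (mem_cent.2 fun v hv => (hx' v (s.le_Tv hv)).symm)
    by_contra! k
    obtain ⟨y, hy, hi'⟩ := s.e8.exists_third s.ne k.1 k.2
    obtain ⟨r, hr, a, -⟩ := s.d_tv hxV hy hi'
    exact s.d_zne x (a.symm.trans (conj_eq_of_comm (hx' r hr).symm))

/-- An involution inducing the transvection with centre `u` and axis `⟨z, u⟩`. -/
theorem exists_t {u w : G} (hu : u ∈ V) (hw : w ∈ V) (hi : Ind z u w) :
    ∃ t, t * t = 1 ∧ t * z = z * t ∧ t * u = u * t ∧ t * w * t⁻¹ = u * w ∧ t ∈ 𝐍[V] ∧ t ∉ Tv V z := by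
  obtain ⟨r, hr, rr, a, b⟩ : ∃ r ∈ Tv V z, r * r = 1 ∧ r * u * r⁻¹ = z * u ∧ r * w * r⁻¹ = w := by
    obtain ⟨r, hr, a, b⟩ := s.d_tv hu hw hi
    rcases (s.es hc).1.sq r hr with k | k
    · exact ⟨r, hr, k, a, b⟩
    · refine ⟨r * u, mul_mem hr (s.le_Tv hu), ?_, ?_, ?_⟩
      · calc _ = r * u * r⁻¹ * (r * r) * u := by group
          _ = 1 := by rw [a, k, mul_assoc z, s.e8.comm hu s.mem, sq_cancel s.sq, s.e8.sq u hu]
      · rw [← conj_conj, mul_inv_cancel_right, a]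
      · rw [← conj_conj, conj_eq_of_comm (s.e8.comm hu hw), b]
  have hi2 : Ind u z w := by
    obtain ⟨h1, h2, h3, h4, h5, h6, h7⟩ := hi
    exact ⟨h2, h1, h3.symm, h4, h6, h5, by rwa [s.e8.comm hu s.mem]⟩
  obtain ⟨m, hm, e1, e2, e3⟩ := s.full z s.mem w hw u hu u hu z s.mem w hw (s.d_ind' hi) hi2
  have k : ∀ x, m * r * m⁻¹ * (m * x * m⁻¹) * (m * r * m⁻¹)⁻¹ = m * (r * x * r⁻¹) * m⁻¹ := fun x => by group
  have e4 : m * r * m⁻¹ * w * (m * r * m⁻¹)⁻¹ = u * w := by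
    have := k u
    rwa [e3, a, conj_mul', e1, e3] at this
  refine ⟨m * r * m⁻¹, by simp [rr], ?_, ?_, e4, mul_mem (mul_mem hm (s.Tv_le_norm hr)) (inv_mem hm), fun h => ?_⟩
  · have := conj_comm m (comm_of_conj_eq b)
    rwa [e2] at this
  · have := conj_comm m (s.d_zc hr)
    rwa [e1] at this
  · rcases s.d_act h hw with c | c <;> rw [e4] at c
    exacts [hi.2.1 (by simpa using c), hi.2.2.1 (by simpa using c)]

theorem cpl {F : Subgroup G} (hF : F ≤ Tv V z) (hn : 𝐍[V] ⊓ centralizer {z} ≤ 𝐍[F])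
    (hV : ∀ v ∈ F, v ∈ V → v = 1 ∨ v = z) {f : G} (hf : f ∈ F) (hfc : f ∈ 𝐂[F]) : f = 1 ∨ f = z := by
  by_contra k
  have hfR := hF hf
  have zf := conj_eq_of_comm (s.d_zc hfR)
  obtain ⟨u, hu, a⟩ : ∃ u ∈ V, f * u * f⁻¹ = z * u := by
    by_contra! e
    exact k (hV f hf (hc (mem_cent.2 fun v hv =>
      (comm_of_conj_eq ((s.d_act hfR hv).resolve_right (e v hv))).symm)))
  have u1 : u ≠ 1 := by rintro rfl; exact s.ne (by simpa using a.symm)
  have uz : u ≠ z := by rintro rfl; exact s.d_zne _ (a.symm.trans zf)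
  obtain ⟨w, hw, hi, b⟩ : ∃ w ∈ V, Ind z u w ∧ f * w * f⁻¹ = w := by
    obtain ⟨w, hw, hi⟩ := s.e8.exists_third s.ne u1 uz
    rcases s.d_act hfR hw with b | b
    · exact ⟨w, hw, hi, b⟩
    · refine ⟨u * w, mul_mem hu hw, ?_, ?_⟩
      · have uu := s.e8.sq u hu
        obtain ⟨h1, h2, h3, h4, h5, h6, h7⟩ := hi
        refine ⟨h1, h2, h3, fun e => h6 ?_, fun e => h7 ?_, fun e => h4 (by simpa using e), fun e => h5 ?_⟩
        · rw [← sq_cancel uu w, e, mul_one]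
        · rw [← sq_cancel uu w, e, s.e8.comm hu s.mem]
        · rw [← sq_cancel uu w, e, ← s.e8.comm hu s.mem, sq_cancel uu]
      · rw [conj_mul', a, b, mul_assoc, comm_assoc (s.e8.comm hu s.mem), sq_cancel s.sq]
  obtain ⟨t, tt, tz, tu, tw, tn, tR⟩ := s.exists_t hc hu hw hi
  have hH : t ∈ 𝐍[V] ⊓ centralizer {z} := ⟨tn, Rec.mem_cen.2 tz⟩
  have hA := (s.es hc).1.aes
  have nR : ∀ d ∈ Tv V z, t * d * t⁻¹ ∈ Tv V z := fun d hd => conj_mem_of_norm (s.norm_Tv' hH) hd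
  have tf : t * f * t⁻¹ ∈ F := conj_mem_of_norm (hn hH) hf
  have zw : ze t w = u := by rw [ze, tw, s.e8.comm hu hw, inv_mul_cancel_left]
  have q1 : ze t f * ze t f = 1 :=
    qf_eq_zero.1 ((qf_ze hA nR hfR).trans (bf_eq_zero.2 (mem_cent.1 hfc _ tf).symm))
  rcases s.hyp.s1 hA tt tR tz.symm nR hfR (s.le_Tv hw) q1 (by rw [zw]; exact s.e8.sq u hu) with e | e | e
  · have c1 : t * f * t⁻¹ * w = w * (t * f * t⁻¹) := by
      have fw := comm_of_conj_eq b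
      rw [← mul_ze]
      rcases eqv_one_iff.1 e with e | e <;> rw [e]
      · simp [fw]
      · rw [mul_assoc, s.e8.comm s.mem hw, ← mul_assoc, fw, mul_assoc]
    have c2 := conj_comm t c1
    rw [conj_conj, tt, tw] at c2
    have c3 : f * (u * w) * f⁻¹ = u * w := conj_eq_of_comm (by simpa using c2)
    rw [conj_mul', a, b] at c3
    exact s.d_zne u (mul_right_cancel c3)
  · rw [zw] at e
    exact (eqv_one_iff.1 e).elim u1 uz
  · rw [zw] at e
    have hm : ze t f ∈ F := mul_mem (inv_mem hf) tf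
    rcases e with e | e <;> rw [e] at hm
    · exact (hV _ hm hu).elim u1 uz
    · exact (hV _ hm (mul_mem s.mem hu)).elim (s.d_ind hi).2.1 (s.d_ind hi).2.2.1

theorem RR_eq : RR z = Tv V z := by
  have : Fact (Nat.Prime 2) := ⟨Nat.prime_two⟩
  obtain ⟨hE, hcard⟩ := s.es hc
  have hRz : Tv V z ≤ centralizer {z} := inf_le_left
  have hz : centralizer {z} ≤ 𝐍[zpowers z] := cent_zpowers z ▸ cent_le_norm _
  set S := RR z ⊔ Tv V z
  have hS : IsPGroup 2 S := pg_sup' (pg_RR z) hE.isPGroup (hRz.trans (norm_RR z))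
  have hSz : S ≤ centralizer {z} := sup_le (RR_le z) hRz
  set P := S ⊓ 𝐍[Tv V z]
  have hRP : Tv V z ≤ P := le_inf le_sup_right le_normalizer
  have hPz : P ≤ centralizer {z} := inf_le_left.trans hSz
  have hHP : 𝐍[V] ⊓ centralizer {z} ≤ 𝐍[P] :=
    norm_inf (norm_sup (inf_le_right.trans (norm_RR z)) s.norm_Tv') (norm_norm s.norm_Tv')
  set F := Tv V z ⊓ Tv P z
  have hHF : 𝐍[V] ⊓ centralizer {z} ≤ 𝐍[F] := norm_inf s.norm_Tv' (norm_Tv hHP inf_le_right)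
  have hPF : P ≤ 𝐍[F] := norm_inf inf_le_right (norm_Tv le_normalizer hPz)
  have hzF : z ∈ F := ⟨hE.z_mem, (mem_Tv s.sq).2 ⟨rfl, fun r hr =>
    .inl (conj_eq_of_comm (Rec.mem_cen.1 (hPz hr)).symm)⟩⟩
  rcases s.inv_or hzF hHF with k | k
  · exfalso
    have c1 := Loc.card_mul_card_le_card_sup_mul_card_inf F V
    have c2 : Nat.card ↥(F ⊔ V) ≤ 32 := hcard ▸ card_le_of_le (sup_le inf_le_left s.le_Tv)
    have c3 : Nat.card ↥(F ⊓ V) ≤ 2 := card_zpowers_of_sq s.ne s.sq ▸ card_le_of_le fun x hx =>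
      (mem_zpowers_iff_of_sq s.sq).2 (k x hx.1 hx.2)
    have c4 := hE.card_mul_card_centralizer (A := F) inf_le_left hzF
    rw [s.e8.card] at c1
    rw [hcard] at c4
    have c5 : Nat.card F ≤ 8 := by nlinarith
    obtain ⟨x, hx, hx1, -, hx2⟩ := exists_central_mod (S := P) (N := zpowers z) (K := Tv V z ⊓ 𝐂[F])
      hS.to_inf_left (hPz.trans hz) (inf_le_left.trans hRP) (norm_inf inf_le_right (norm_cent hPF)) fun e => by
        have := card_le_of_le e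
        rw [card_zpowers_of_sq s.ne s.sq] at this
        nlinarith
    refine hx1 ((mem_zpowers_iff_of_sq s.sq).2 (s.cpl hc inf_le_left hHF k ⟨hx.1, (mem_Tv s.sq).2
      ⟨s.d_zc hx.1, fun p hp => eqv_swap s.sq ((eqv_iff_mem s.sq).2 (hx2 p hp))⟩⟩ hx.2))
  · have h1 : P ≤ Tv V z := fun p hp => (mem_Tv s.sq).2 ⟨Rec.mem_cen.1 (hPz hp), fun v hv =>
      eqv_swap s.sq (((mem_Tv s.sq).1 (k hv).2).2 p hp)⟩
    have h2 : S ≤ Tv V z := by
      by_contra e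
      exact (Tr.lt_inf_normalizer hS (lt_of_le_not_ge le_sup_right e)).not_ge h1
    have h3 : RR z ≤ Tv V z := le_sup_left.trans h2
    exact le_antisymm h3 fun r hr => s.hyp.Tv_RR_le s.sq s.ne
      ((mem_Tv s.sq).2 ⟨s.d_zc hr, fun v hv => hE.aes.eqv_conj hr (h3 hv)⟩)

end St

end Cfsg.Agent.Rk3
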