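import Mathlib
import Cfsg.Agent.Rk3.QF
import Cfsg.Agent.Inv.RuTC
import Cfsg.Agent.Perm.CompLen
import Cfsg.Agent.Sym.Orbits

/-! Perfect groups acting on small 2-groups. -/

set_option autoImplicit false
set_option linter.unusedSectionVars false

namespace Cfsg.Agent.Rk3

open Cfsg Subgroup Cfsg.Agent.GT Cfsg.Agent.Loc.Mss Cfsg.Agent.NE Cfsg.Agent.Spor
open scoped commutatorElement

variable {G : Type*} [Group G] [Finite G]

namespace FullA

/-- The group of order two. -/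
abbrev Z2 := Multiplicative (ZMod 2)

/-- The generator. -/
abbrev g2 : Z2 := Multiplicative.ofAdd 1

theorem z2_cases : ∀ x : Z2, x = 1 ∨ x = g2 := by decide

/-- The homomorphism with given image of the generator. -/
def hz {W : Type*} [Group W] (a : W) (h : a * a = 1) : Z2 →* W :=
  MonoidHom.mk' (fun x => if x = 1 then 1 else a) fun x y => by
    have k1 : g2 ≠ 1 := by decide
    have k2 : g2 * g2 = 1 := by decide
    rcases z2_cases x with rfl | rfl <;> rcases z2_cases y with rfl | rfl <;> simp only [one_mul,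
      mul_one, k1, k2, if_true, if_false, h]

theorem hz_g {W : Type*} [Group W] (a : W) (h : a * a = 1) : hz a h g2 = a :=
  show (if g2 = 1 then 1 else a) = a from if_neg (by decide)

theorem exists_basis {V : Subgroup G} (hV : E8 V) (a b c : V) (h : Ind (a : G) b c) :
    ∃ e : Z2 × Z2 × Z2 ≃* V, e (g2, 1, 1) = a ∧ e (1, g2, 1) = b ∧ e (1, 1, g2) = c := by
  letI : CommGroup V := { (inferInstance : Group V) with
    mul_comm := fun x y => Subtype.ext (hV.comm x.2 y.2) }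
  have sq : ∀ x : V, x * x = 1 := fun x => Subtype.ext (hV.sq x x.2)
  let f : Z2 × Z2 × Z2 →* V := (hz a (sq a)).coprod ((hz b (sq b)).coprod (hz c (sq c)))
  have f1 : f (g2, 1, 1) = a := by simp [f, hz_g]
  have f2 : f (1, g2, 1) = b := by simp [f, hz_g]
  have f3 : f (1, 1, g2) = c := by simp [f, hz_g]
  have ha : a ∈ f.range := ⟨_, f1⟩
  have hb : b ∈ f.range := ⟨_, f2⟩
  have hc : c ∈ f.range := ⟨_, f3⟩
  have hs : Function.Surjective f := fun x => by
    change x ∈ f.range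
    rcases hV.cases a.2 b.2 c.2 h x.2 with (e | e | e | e) | e | e | e | e
    exacts [(Subtype.ext e : x = 1) ▸ one_mem _, (Subtype.ext e : x = a) ▸ ha,
      (Subtype.ext e : x = b) ▸ hb, (Subtype.ext e : x = a * b) ▸ mul_mem ha hb,
      (Subtype.ext e : x = c) ▸ hc, (Subtype.ext e : x = a * c) ▸ mul_mem ha hc,
      (Subtype.ext e : x = b * c) ▸ mul_mem hb hc,
      (Subtype.ext e : x = a * b * c) ▸ mul_mem (mul_mem ha hb) hc]
  exact ⟨MulEquiv.ofBijective f ((Nat.bijective_iff_surjective_and_card f).2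
    ⟨hs, by rw [hV.card]; simp⟩), f1, f2, f3⟩

theorem perf_sub {K N : Subgroup G} (hK : ⁅K, K⁆ = K) (h : K ≤ N) :
    ⁅K.subgroupOf N, K.subgroupOf N⁆ = K.subgroupOf N := by
  rw [commutator_subgroupOf h h, hK]

theorem eq_top_of_perfect {X : Type*} [Group X] [IsSimpleGroup X] (h : Nat.card X = 168)
    {L : Subgroup X} (hL : ⁅L, L⁆ = L) (h0 : L ≠ ⊥) : L = ⊤ := by
  haveI : Finite X := Nat.finite_of_card_ne_zero (by omega)
  have k1 : ¬ Nat.card L < 60 := fun k =>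
    h0 (perfect_eq_bot_of_isSolvable hL (Perm.CompLen.isSolvable_of_card_lt_sixty k))
  have k2 := L.card_mul_index
  rw [h] at k2
  have k3 : L.index ≤ 2 := by by_contra k; nlinarith
  have k4 : L.index ≠ 2 := fun k => by
    rcases (normal_of_index_eq_two k).eq_bot_or_eq_top with e | e
    · exact h0 e
    · rw [e, index_top] at k; omega
  have k5 := L.index_ne_zero_of_finite
  exact index_eq_one.1 (by omega)

end FullA

open FullA

theorem full_of_perfect {V K : Subgroup G} (hV : E8 V) (hK : ⁅K, K⁆ = K) (hn : K ≤ 𝐍[V]) (hc : ¬ K ≤ 𝐂[V]) :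
    Full V := by
  obtain ⟨h1, h2⟩ := Inv.RuT.aut_eight (E := V) ⟨⟨fun x y => Subtype.ext (hV.comm x.2 y.2)⟩⟩
    (fun x => Subtype.ext (by rw [coe_pow, sq, hV.sq x x.2, coe_one])) hV.card
  have k := eq_top_of_perfect h2 (perfect_map (perf_sub hK hn) V.normalizerMonoidHom) fun e => hc
    fun k hk => by
      have := (Subgroup.map_eq_bot_iff _).1 e (show (⟨k, hn hk⟩ : 𝐍[V]) ∈ K.subgroupOf _ from hk)
      rwa [normalizerMonoidHom_ker] at this
  intro a ha b hb c hc a' ha' b' hb' c' hc' i i'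
  obtain ⟨e, e1, e2, e3⟩ := exists_basis hV ⟨a, ha⟩ ⟨b, hb⟩ ⟨c, hc⟩ i
  obtain ⟨e', f1, f2, f3⟩ := exists_basis hV ⟨a', ha'⟩ ⟨b', hb'⟩ ⟨c', hc'⟩ i'
  obtain ⟨m, -, hm⟩ := (k ▸ mem_top (e.symm.trans e' : MulAut V) :
    _ ∈ (K.subgroupOf 𝐍[V]).map V.normalizerMonoidHom)
  have key : ∀ x, (m : G) * e x * (m : G)⁻¹ = e' x := fun x => by
    have := congrArg (fun α : MulAut V => (α (e x) : G)) hm
    simpa using this
  refine ⟨m, m.2, ?_, ?_, ?_⟩
  · simpa only [e1, f1] using key (g2, 1, 1)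
  · simpa only [e2, f2] using key (1, g2, 1)
  · simpa only [e3, f3] using key (1, 1, g2)

theorem pf {A B K : Subgroup G} (hK : ⁅K, K⁆ = K) (hA : K ≤ 𝐍[A]) (hB : K ≤ 𝐍[B]) (hBA : B ≤ A)
    (h4 : Nat.card A ≤ 4 * Nat.card B) : ⁅A, K⁆ ≤ B := by
  letI : MulAction K A := MulAction.compHom A (A.normalizerMonoidHom.comp (inclusion hA))
  have hs : ∀ (k : K) (a : A), ((k • a : A) : G) = k * a * (k : G)⁻¹ := fun _ _ => rfl
  haveI : MulAction.QuotientAction K (B.subgroupOf A) := ⟨fun k a a' h => by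
    rw [mem_subgroupOf, coe_mul, coe_inv] at h ⊢
    rw [hs, hs]
    have := conj_mem_of_mem_normalizer (hB k.2) h
    simpa [mul_assoc] using this⟩
  have h1 : Nat.card (A ⧸ B.subgroupOf A) ≤ 4 := by
    have k := (B.subgroupOf A).index_mul_card
    rw [Nat.card_congr (subgroupOfEquivOfLe hBA).toEquiv] at k
    exact Nat.le_of_mul_le_mul_right (k.le.trans h4) Nat.card_pos
  haveI := Sym.isSolvable_perm_of_card_le_four h1
  have h2 := perfect_le_ker_of_isSolvable (perf_sub hK le_rfl)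
    (MulAction.toPermHom K (A ⧸ B.subgroupOf A)) inferInstance
  refine commutator_le.2 fun a ha k hk => ?_
  have h3 := congrArg (fun σ : Equiv.Perm (A ⧸ B.subgroupOf A) => σ (⟨a⁻¹, A.inv_mem ha⟩ : A))
    (h2 (show (⟨k, hk⟩ : K) ∈ K.subgroupOf K from hk))
  have h4 : (((⟨k, hk⟩ : K) • (⟨a⁻¹, A.inv_mem ha⟩ : A) : A) : A ⧸ B.subgroupOf A) =
    (⟨a⁻¹, A.inv_mem ha⟩ : A) := h3
  have h5 := QuotientGroup.eq.1 h4.symm
  rw [mem_subgroupOf, coe_mul, coe_inv, hs] at h5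
  simpa [commutatorElement_def, mul_assoc] using h5

theorem comm_le_of_perfect {A B K : Subgroup G} (hK : ⁅K, K⁆ = K) (hA : A ≤ 𝐍[B]) (hB : K ≤ 𝐍[B])
    (h : ⁅⁅A, K⁆, K⁆ ≤ B) : ⁅A, K⁆ ≤ B := by
  have := three_subgroups_of_le_normalizer hB hB hA (commutator_comm A K ▸ h) h
  rwa [hK, commutator_comm] at this

theorem aes_perfect {D K : Subgroup G} {z : G} (h : AES D z) (h32 : Nat.card D ≤ 32) (hK : ⁅K, K⁆ = K)
    (hn : K ≤ 𝐍[D]) (hz : K ≤ centralizer {z}) (hc : ¬ ⁅D, K⁆ ≤ zpowers z) : ES2 D z ∧ Nat.card D = 32 := by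
  have nz : ∀ {X : Subgroup G}, X ≤ centralizer {z} → X ≤ 𝐍[zpowers z] := fun hX =>
    hX.trans (cent_zpowers z ▸ cent_le_norm _)
  have hD : D ≤ centralizer {z} := fun d hd => Rec.mem_cen.2 (h.z_comm d hd).symm
  have hZ : K ≤ 𝐍[D ⊓ 𝐂[D]] := norm_inf hn (norm_cent hn)
  have hzZ : zpowers z ≤ D ⊓ 𝐂[D] :=
    zpowers_le.2 ⟨h.z_mem, mem_cent.2 fun d hd => (h.z_comm d hd).symm⟩
  have c2 := card_zpowers_of_sq h.z_ne h.z_sq
  have cZ := card_center h
  have k1 : ⁅D ⊓ 𝐂[D], K⁆ ≤ zpowers z := pf hK hZ (nz hz) hzZ (by omega)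
  have k2 : ¬ Nat.card D ≤ 4 * Nat.card (D ⊓ 𝐂[D] : Subgroup G) := fun k =>
    hc (comm_le_of_perfect hK (nz hD) (nz hz)
      ((commutator_mono (pf hK hn hZ inf_le_left k) le_rfl).trans k1))
  have k3 := par h
  haveI : Fact (Nat.Prime 2) := ⟨Nat.prime_two⟩
  obtain ⟨n, hn'⟩ := h.isPGroup.exists_card_eq
  have k4 : n ≤ 5 := by
    by_contra k
    have := Nat.pow_le_pow_right two_pos (show 6 ≤ n by omega)
    omega
  have k5 : Nat.card (D ⊓ 𝐂[D] : Subgroup G) = 2 ∧ Nat.card D = 32 := by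
    interval_cases n <;> omega
  have k6 : zpowers z = D ⊓ 𝐂[D] := eq_of_le_of_card_ge hzZ (by omega)
  refine ⟨⟨h.z_mem, h.z_ne, h.z_sq, h.z_comm, h.comm, fun x hx hq => ?_, ?_⟩, k5.2⟩
  · rw [← mem_zpowers_iff_of_sq h.z_sq, k6]
    exact ⟨hx, mem_cent.2 fun d hd => (hq d hd).symm⟩
  · by_contra! k
    rw [inf_eq_left.2 fun x hx => mem_cent.2 fun d hd => k d hd x hx] at k5
    omega

end Cfsg.Agent.Rk3
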