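import Mathlib
import Cfsg.Agent.Rk3.Full
import Cfsg.Agent.Spor.ESDual

/-!
The extraspecial group of order 32 and plus type as a central product of two quaternion groups.
See `stubs/Cfsg/Agent/Rk3/PLAN.md`, section Plus.
-/

set_option autoImplicit false
set_option linter.unusedSectionVars false

namespace Cfsg.Agent.Rk3

open Cfsg Subgroup Cfsg.Agent.GT Cfsg.Agent.Loc.Mss Cfsg.Agent.NE Cfsg.Agent.Spor
open scoped commutatorElement

variable {G : Type*} [Group G] [Finite G]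

namespace Plus

theorem zcases (a : ZMod 2) : a = 0 ∨ a = 1 := by revert a; decide

theorem norm_of_z {D X : Subgroup G} {z : G} (h : AES D z) (hz : z ∈ X) (hX : X ≤ D) : D ≤ 𝐍[X] :=
  norm_of_forall_cj_le fun d hd => cj_le_iff.2 fun x hx => by
    rcases h.conj_eq hd (hX hx) with e | e <;> rw [e]
    exacts [hx, mul_mem hz hx]

theorem mem_Z {z g : G} (hz : z * z = 1) : g ∈ ext ⊥ z ↔ g = 1 ∨ g = z := by
  rw [(ext_elem (A := ⊥) (by simp) hz (by simp)).1, mem_bot, mem_bot, mul_eq_one_iff_inv_eq, inv_of_sq hz, eq_comm (a := z)]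

theorem mul_mem_Z {D : Subgroup G} {z x g : G} (h : AES D z) (hx : x ∈ D) : x * g ∈ ext ⊥ z ↔ Eqv z g x := by
  have k : x * g ∈ ext ⊥ z ↔ Eqv z g x⁻¹ := by
    rw [mem_Z h.z_sq, Eqv, mul_eq_one_iff_inv_eq, eq_comm (a := x⁻¹), h.z_comm _ (inv_mem hx), eq_inv_mul_iff_mul_eq]
  rw [k]
  exact ⟨fun e => e.trans h.z_sq (h.eqv_inv hx), fun e => e.trans h.z_sq ((h.eqv_inv hx).symm h.z_sq)⟩

theorem cj_Qs_le {X : Subgroup G} {g z a b : G} (hz : g * z * g⁻¹ ∈ X) (ha : g * a * g⁻¹ ∈ X) (hb : g * b * g⁻¹ ∈ X) :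
    cj(g, Qs z a b) ≤ X := by
  rw [cj_le_iff_le_inv]
  simp only [Qs, ext_le, mem_cj, inv_inv, bot_le, true_and]
  exact ⟨⟨hz, ha⟩, hb⟩

theorem z_mem (z a b : G) : z ∈ Qs z a b := le_ext _ _ (le_ext _ _ (self_mem_ext _ _))
theorem a_mem (z a b : G) : a ∈ Qs z a b := le_ext _ _ (self_mem_ext _ _)
theorem b_mem (z a b : G) : b ∈ Qs z a b := self_mem_ext _ _

theorem Qs_le_iff {X : Subgroup G} {z a b : G} : Qs z a b ≤ X ↔ z ∈ X ∧ a ∈ X ∧ b ∈ X := by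
  simp only [Qs, ext_le, bot_le, true_and, and_assoc]

theorem sep {D : Subgroup G} {z u w : G} (h : ES2 D z) (hu : u ∈ D) (hw : w ∈ D) (ww : w * w = 1) (h1 : u ≠ 1)
    (h2 : u ≠ z) (h3 : u ≠ w) (h4 : u ≠ z * w) : ∃ x ∈ D, bf x u = 1 ∧ bf x w = 0 := by
  obtain ⟨x, hx, k1, k2⟩ := h.exists_sep (A := closure {z, w})
    (by simp [closure_le, Set.insert_subset_iff, h.z_mem, hw]) (subset_closure (by simp)) hu
    (by rw [mem_closure_pair_iff_four h.z_sq ww (h.z_comm w hw)]; tauto)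
  exact ⟨x, hx, bf_eq_one.2 k2, bf_eq_zero.2 (k1 w (subset_closure (by simp)))⟩

end Plus

open Plus

theorem exists_q2 {D E : Subgroup G} {z u w : G} (h : ES2 D z) (h32 : Nat.card D = 32) (hE : E8 E) (hED : E ≤ D)
    (hz : z ∈ E) (hu : u ∈ E) (hw : w ∈ E) (hi : Ind z u w) :
    ∃ a b a' b', Q2 D z a b a' b' ∧ a * a' = u ∧ b * b' = w := by
  obtain ⟨-, i1, i2, i3, i4, i5, i6⟩ := hi
  have A := h.aes
  have uD := hED hu
  have wD := hED hw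
  have qu : qf u = 0 := qf_eq_zero.2 (hE.sq u hu)
  have qw : qf w = 0 := qf_eq_zero.2 (hE.sq w hw)
  have uw : bf u w = 0 := bf_eq_zero.2 (hE.comm hu hw)
  have wu : bf w u = 0 := bf_eq_zero.2 (hE.comm hw hu)
  have k1 : ∃ x ∈ D, qf x = 0 ∧ bf x u = 1 ∧ bf x w = 0 := by
    obtain ⟨x, hx, a1, a2⟩ := sep h uD wD (hE.sq w hw) i1 i2 i5.symm fun e => i6 (by rw [e, A.z_mul_z_mul])
    rcases zcases (qf x) with e | e
    · exact ⟨x, hx, e, a1, a2⟩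
    · refine ⟨x * u, mul_mem hx uD, ?_, ?_, ?_⟩
      · rw [qf_mul A hx uD, e, qu, a1]; decide
      · rw [A.bf_mul_left hx uD uD, a1, bf_self]; decide
      · rw [A.bf_mul_left hx uD wD, a2, uw]; decide
  obtain ⟨x, hx, qx, xu, xw⟩ := k1
  have k2 : ∃ y ∈ D, bf x y = 0 ∧ bf y w = 1 ∧ bf y u = 0 := by
    obtain ⟨y, hy, a1, a2⟩ := sep h wD uD (hE.sq u hu) i3 i4 i5 i6
    rcases zcases (bf x y) with e | e
    · exact ⟨y, hy, e, a1, a2⟩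
    · refine ⟨y * u, mul_mem hy uD, ?_, ?_, ?_⟩
      · rw [A.bf_mul_right hy uD hx, e, xu]; decide
      · rw [A.bf_mul_left hy uD wD, a1, uw]; decide
      · rw [A.bf_mul_left hy uD uD, a2, bf_self]; decide
  have k3 : ∃ y ∈ D, qf y = 0 ∧ bf x y = 0 ∧ bf y w = 1 ∧ bf y u = 0 := by
    obtain ⟨y, hy, a1, a2, a3⟩ := k2
    rcases zcases (qf y) with e | e
    · exact ⟨y, hy, e, a1, a2, a3⟩
    · refine ⟨y * w, mul_mem hy wD, ?_, ?_, ?_, ?_⟩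
      · rw [qf_mul A hy wD, e, qw, a2]; decide
      · rw [A.bf_mul_right hy wD hx, a1, xw]; decide
      · rw [A.bf_mul_left hy wD wD, a2, bf_self]; decide
      · rw [A.bf_mul_left hy wD uD, a3, wu]; decide
  obtain ⟨y, hy, qy, xy, yw, yu⟩ := k3
  have ux := (bf_comm u x).trans xu
  have wx := (bf_comm w x).trans xw
  have yx := (bf_comm y x).trans xy
  have wy := (bf_comm w y).trans yw
  have uy := (bf_comm u y).trans yu
  have m1 := mul_mem wD hy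
  have m2 := mul_mem uD hx
  have m3 := mul_mem wD (inv_mem m2)
  have m4 := mul_mem (inv_mem m1) uD
  refine ⟨w * y, w * (u * x)⁻¹, (w * y)⁻¹ * u, u * x, ⟨h, h32, m1, m3, m4, m2, (qf_eq_one A m1).1 ?_,
    (qf_eq_one A m3).1 ?_, (qf_eq_one A m4).1 ?_, (qf_eq_one A m2).1 ?_, bf_eq_one.1 ?_, bf_eq_one.1 ?_,
    bf_eq_zero.1 ?_, bf_eq_zero.1 ?_, bf_eq_zero.1 ?_, bf_eq_zero.1 ?_⟩, by group, by group⟩ <;>
  simp (disch := repeat' first | assumption | apply inv_mem | apply mul_mem) only [qf_mul A, qf_inv,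
    A.bf_mul_left, A.bf_mul_right, bf_inv_left, bf_inv_right, bf_self, qu, qw, qx, qy, uw, wu, xu, xw, xy, yw, yu,
    ux, wx, yx, wy, uy] <;> decide

namespace Q2

variable {D : Subgroup G} {z a b a' b' : G} (q : Q2 D z a b a' b')
include q

theorem aux1 : a ∈ 𝐍[ext ⊥ z] ∧ a * a ∈ ext ⊥ z :=
  ⟨norm_of_z q.es.aes (self_mem_ext _ _) (by simp [ext_le, q.es.z_mem]) q.ma, q.sa ▸ self_mem_ext _ _⟩

theorem aux2 : b ∈ 𝐍[ext (ext ⊥ z) a] ∧ b * b ∈ ext (ext ⊥ z) a :=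
  ⟨norm_of_z q.es.aes (le_ext _ _ (self_mem_ext _ _)) (by simp [ext_le, q.es.z_mem, q.ma]) q.mb,
    q.sb ▸ le_ext _ _ (self_mem_ext _ _)⟩

theorem mem_Qs {g : G} : g ∈ Qs z a b ↔ Eqv z g 1 ∨ Eqv z g a ∨ Eqv z g b ∨ Eqv z g (a * b) := by
  rw [Qs, mem_ext q.aux2.1 q.aux2.2, mem_ext q.aux1.1 q.aux1.2, mem_ext q.aux1.1 q.aux1.2, ← mul_assoc,
    mul_mem_Z q.es.aes q.ma, mul_mem_Z q.es.aes q.mb, mul_mem_Z q.es.aes (mul_mem q.ma q.mb), mem_Z q.es.z_sq,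
    eqv_one_iff, or_assoc]

theorem Qs_le : Qs z a b ≤ D := Qs_le_iff.2 ⟨q.es.z_mem, q.ma, q.mb⟩

theorem center1 {x : G} (hx : x ∈ Qs z a b) (h1 : x * a = a * x) (h2 : x * b = b * x) : Eqv z x 1 := by
  have A := q.es.aes
  have ab := bf_eq_one.2 q.ab
  rw [← bf_eq_zero] at h1 h2
  rcases q.mem_Qs.1 hx with e | e | e | e
  · exact e
  · rw [A.bf_eqv_left q.mb e, ab] at h2; exact absurd h2 (by decide)
  · rw [A.bf_eqv_left q.ma e, bf_comm, ab] at h1; exact absurd h1 (by decide)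
  · rw [A.bf_eqv_left q.mb e, A.bf_mul_left q.ma q.mb q.mb, ab, bf_self] at h2; exact absurd h2 (by decide)

theorem es1 : ES2 (Qs z a b) z ∧ Nat.card (Qs z a b) = 8 := by
  refine ⟨q.es.sub q.Qs_le (fun x hx hc => eqv_one_iff.1 (q.center1 hx (hc _ (a_mem _ _ _)) (hc _ (b_mem _ _ _))))
    ⟨a, a_mem _ _ _, b, b_mem _ _ _, q.ab⟩, ?_⟩
  have k : ∀ x, x * x = z → x ∉ ext ⊥ z := fun x hx e => by
    rcases (mem_Z q.es.z_sq).1 e with rfl | rfl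
    · exact q.es.z_ne (by rw [← hx, mul_one])
    · exact q.es.z_ne (hx.symm.trans q.es.z_sq)
  rw [Qs, card_ext q.aux2.1 q.aux2.2, card_ext q.aux1.1 q.aux1.2 (k a q.sa),
    (ext_elem (A := ⊥) (by simp) q.es.z_sq (by simp)).2.2 (by simpa using q.es.z_ne), card_bot]
  rw [mem_ext q.aux1.1 q.aux1.2, mul_mem_Z q.es.aes q.ma]
  rintro (e | e)
  · exact k b q.sb e
  · exact q.ab (bf_eq_zero.1 (by rw [q.es.aes.bf_eqv_right q.ma e, bf_self]))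

/-- The non-central elements of the quaternion group have order four. -/
theorem sq1 {g : G} (hg : g ∈ Qs z a b) : Eqv z g 1 ∨ g * g = z := by
  have A := q.es.aes
  rcases q.mem_Qs.1 hg with e | e | e | e
  · exact .inl e
  · exact .inr ((sq_eqv A q.ma e).trans q.sa)
  · exact .inr ((sq_eqv A q.mb e).trans q.sb)
  · exact .inr (by rw [sq_eqv A (mul_mem q.ma q.mb) e, sq_mul_of_ne A q.ma q.mb q.ab, q.sa, q.sb, A.z_sq, mul_one])

theorem comm12 {x y : G} (hx : x ∈ Qs z a b) (hy : y ∈ Qs z a' b') : x * y = y * x := by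
  have k : ∀ y ∈ D, a * y = y * a → b * y = y * b → x * y = y * x := fun y hy h1 h2 =>
    Rec.mem_cen.1 ((Qs_le_iff (X := centralizer {y})).2
      ⟨Rec.mem_cen.2 (q.es.z_comm y hy), Rec.mem_cen.2 h1, Rec.mem_cen.2 h2⟩ hx)
  exact (Rec.mem_cen.1 ((Qs_le_iff (X := centralizer {x})).2 ⟨Rec.mem_cen.2 (q.es.z_comm x (q.Qs_le hx)),
    Rec.mem_cen.2 (k a' q.ma' q.c1 q.c3).symm, Rec.mem_cen.2 (k b' q.mb' q.c2 q.c4).symm⟩ hy)).symm

theorem inf12 {x : G} (hx : x ∈ Qs z a b) (hy : x ∈ Qs z a' b') : Eqv z x 1 :=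
  q.center1 hx (q.comm12 (a_mem _ _ _) hy).symm (q.comm12 (b_mem _ _ _) hy).symm

theorem mem2_of_comm {d : G} (hd : d ∈ D) (h1 : d * a = a * d) (h2 : d * b = b * d) : d ∈ Qs z a' b' := by
  have h3 := q.es.card_mul_card_centralizer q.Qs_le (z_mem z a b)
  rw [q.es1.2, q.card] at h3
  have h4 : Qs z a' b' ≤ D ⊓ 𝐂[Qs z a b] := fun y hy => ⟨q.swap.Qs_le hy, mem_cent.2 fun x hx => q.comm12 hx hy⟩
  refine (eq_of_le_of_card_ge h4 (by rw [q.swap.es1.2]; omega)).ge ⟨hd, mem_cent.2 fun x hx => Rec.mem_cen.1 ?_⟩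
  exact (Qs_le_iff (X := centralizer {d})).2
    ⟨Rec.mem_cen.2 (q.es.z_comm d hd), Rec.mem_cen.2 h1.symm, Rec.mem_cen.2 h2.symm⟩ hx

theorem decomp {d : G} (hd : d ∈ D) : ∃ x ∈ Qs z a b, ∃ y ∈ Qs z a' b', d = x * y := by
  have A := q.es.aes
  have ab := bf_eq_one.2 q.ab
  have ba := (bf_comm b a).trans ab
  have k : ∃ x ∈ Qs z a b, bf x a = bf d a ∧ bf x b = bf d b := by
    rcases zcases (bf d a) with e1 | e1 <;> rcases zcases (bf d b) with e2 | e2 <;> rw [e1, e2]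
    · exact ⟨1, one_mem _, bf_eq_zero.2 (by simp), bf_eq_zero.2 (by simp)⟩
    · exact ⟨a, a_mem _ _ _, bf_self a, ab⟩
    · exact ⟨b, b_mem _ _ _, ba, bf_self b⟩
    · exact ⟨a * b, mul_mem (a_mem _ _ _) (b_mem _ _ _), by rw [A.bf_mul_left q.ma q.mb q.ma, bf_self, ba, zero_add],
        by rw [A.bf_mul_left q.ma q.mb q.mb, bf_self, ab, add_zero]⟩
  obtain ⟨x, hx, e1, e2⟩ := k
  have hx' := inv_mem (q.Qs_le hx)
  refine ⟨x, hx, x⁻¹ * d, q.mem2_of_comm (mul_mem hx' hd) (bf_eq_zero.1 ?_) (bf_eq_zero.1 ?_), by group⟩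
  · rw [A.bf_mul_left hx' hd q.ma, bf_inv_left, e1, zmod2]
  · rw [A.bf_mul_left hx' hd q.mb, bf_inv_left, e2, zmod2]

theorem sq_z {d : G} (hd : d ∈ D) (h : d * d = z) : d ∈ Qs z a b ∨ d ∈ Qs z a' b' := by
  obtain ⟨x, hx, y, hy, rfl⟩ := q.decomp hd
  rcases q.sq1 hx with e | e
  · exact .inr (mul_mem (q.swap.mem_Qs.2 (.inl e)) hy)
  rcases q.swap.sq1 hy with e' | e'
  · exact .inl (mul_mem hx (q.mem_Qs.2 (.inl e')))
  rw [sq_mul_of_comm (q.comm12 hx hy), e, e', q.es.z_sq] at h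
  exact absurd h.symm q.es.z_ne

theorem cj_or {g : G} (hg : g ∈ 𝐍[D]) : cj(g, Qs z a b) = Qs z a b ∨ cj(g, Qs z a b) = Qs z a' b' := by
  have hz := q.es.conj_z_of_norm hg
  have k : ∀ x, x * x = z → g * x * g⁻¹ * (g * x * g⁻¹) = z := fun x hx => by rw [← conj_mul', hx, hz]
  have hne : g * a * g⁻¹ * (g * b * g⁻¹) ≠ g * b * g⁻¹ * (g * a * g⁻¹) := fun e => q.ab (comm_of_conj e)
  rcases q.sq_z (conj_mem_of_norm hg q.ma) (k a q.sa) with e1 | e1 <;>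
    rcases q.sq_z (conj_mem_of_norm hg q.mb) (k b q.sb) with e2 | e2
  · exact .inl (cj_eq_of_le (cj_Qs_le (hz.symm ▸ z_mem _ _ _) e1 e2))
  · exact absurd (q.comm12 e1 e2) hne
  · exact absurd (q.comm12 e2 e1).symm hne
  · exact .inr (eq_of_le_of_card_ge (cj_Qs_le (hz.symm ▸ z_mem _ _ _) e1 e2)
      (by rw [card_cj, q.es1.2, q.swap.es1.2]))

theorem norm_or {g : G} (hg : g ∈ 𝐍[D]) : (g ∈ 𝐍[Qs z a b] ∧ g ∈ 𝐍[Qs z a' b']) ∨
    (cj(g, Qs z a b) = Qs z a' b' ∧ cj(g, Qs z a' b') = Qs z a b) := by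
  have hne : Qs z a b ≠ Qs z a' b' := fun e => q.ab (q.comm12 (a_mem _ _ _) (e ▸ b_mem _ _ _))
  rcases q.cj_or hg with e1 | e1 <;> rcases q.swap.cj_or hg with e2 | e2
  · exact .inl ⟨cj_eq_iff.1 e1, cj_eq_iff.1 e2⟩
  · exact absurd (cj_eq_cj.1 (e1.trans e2.symm)) hne
  · exact absurd (cj_eq_cj.1 (e1.trans e2.symm)) hne
  · exact .inr ⟨e1, e2⟩

theorem perfect_norm {K : Subgroup G} (hK : ⁅K, K⁆ = K) (hn : K ≤ 𝐍[D]) : K ≤ 𝐍[Qs z a b] := by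
  have hB : ∀ x ∈ K, ∀ y ∈ K, x ∉ 𝐍[Qs z a b] → y ∉ 𝐍[Qs z a b] → x * y ∈ 𝐍[Qs z a b] := fun x hx y hy h1 h2 => by
    rw [← cj_eq_iff, ← cj_cj, ((q.norm_or (hn hy)).resolve_left fun e => h2 e.1).1,
      ((q.norm_or (hn hx)).resolve_left fun e => h1 e.1).2]
  rw [← hK, commutator_le]
  intro x hx y hy
  refine (signHom_eq_one_iff K _ hB ⁅(⟨x, hx⟩ : K), ⟨y, hy⟩⁆).1 ?_
  rw [map_commutatorElement, commutatorElement_eq_one_iff_mul_comm, mul_comm]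

theorem perfect {K : Subgroup G} (hK : ⁅K, K⁆ = K) (hn : K ≤ 𝐍[D]) : ⁅D, K⁆ ≤ zpowers z := by
  have hz : K ≤ 𝐍[zpowers z] := fun g hg => by
    refine cent_le_norm _ ?_
    rw [cent_zpowers]
    exact Rec.mem_cen.2 (comm_of_conj_eq (q.es.conj_z_of_norm (hn hg)))
  have hc := card_zpowers_of_sq q.es.z_ne q.es.z_sq
  have hD : D ≤ 𝐍[zpowers z] := norm_of_z q.es.aes (mem_zpowers z) (zpowers_le.2 q.es.z_mem)
  have h1 : ⁅Qs z a b, K⁆ ≤ zpowers z :=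
    pf hK (q.perfect_norm hK hn) hz (zpowers_le.2 (z_mem _ _ _)) (by rw [q.es1.2, hc])
  have h2 : ⁅Qs z a' b', K⁆ ≤ zpowers z :=
    pf hK (q.swap.perfect_norm hK hn) hz (zpowers_le.2 (z_mem _ _ _)) (by rw [q.swap.es1.2, hc])
  have h3 : D ≤ Qs z a b ⊔ Qs z a' b' := fun d hd => by
    obtain ⟨x, hx, y, hy, rfl⟩ := q.decomp hd
    exact mul_mem (mem_sup_left hx) (mem_sup_right hy)
  exact (commutator_mono h3 le_rfl).trans (sup_comm_le (q.Qs_le.trans hD) (q.swap.Qs_le.trans hD) h1 h2)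

end Q2

end Cfsg.Agent.Rk3
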