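import Mathlib
import Cfsg.Agent.Rk3.OneD
import Cfsg.Agent.Rk3.Plus

/-!
The action of `C(z)` on the two quaternion factors of `O₂(C(z))`. See `stubs/Cfsg/Agent/Rk3/PLAN.md`.
-/

set_option autoImplicit false
set_option linter.unusedSectionVars false

namespace Cfsg.Agent.Rk3

open Cfsg Subgroup Cfsg.Agent.GT Cfsg.Agent.Loc.Mss Cfsg.Agent.NE Cfsg.Agent.Spor
open scoped commutatorElement

variable {G : Type*} [Group G] [Finite G]

namespace OneE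

theorem mem_of_eqv {A : Subgroup G} {z x y : G} (hz : z ∈ A) (hy : y ∈ A) (h : Eqv z x y) : x ∈ A := by
  rcases h with rfl | rfl
  exacts [hy, mul_mem hz hy]

theorem comm_of_eqv {z x y : G} (hz : z * y = y * z) (h : Eqv z x y) : x * y = y * x := by
  rcases h with rfl | rfl
  exacts [rfl, by rw [← mul_assoc, hz]]

theorem conj_ne {g z x : G} (hg : g * z = z * g) (h : ¬ Eqv z x 1) : ¬ Eqv z (g * x * g⁻¹) 1 := by
  rw [eqv_one_iff] at h ⊢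
  rintro (e | e)
  · exact h (.inl (by simpa using e))
  · exact h (.inr (conj_inj.1 (e.trans (conj_eq_of_comm hg).symm)))

variable {D : Subgroup G} {z a b a' b' : G} (q : Q2 D z a b a' b')
include q

theorem z_mem : z ∈ Qs z a b := q.mem_Qs.2 (.inl (eqv_one_iff.2 (.inr rfl)))
theorem a_mem : a ∈ Qs z a b := q.mem_Qs.2 (.inr (.inl (.inl rfl)))
theorem b_mem : b ∈ Qs z a b := q.mem_Qs.2 (.inr (.inr (.inl (.inl rfl))))

theorem ne_of_sq {x : G} (h : x * x = z) : ¬ Eqv z x 1 := by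
  rw [eqv_one_iff]
  rintro (rfl | rfl)
  · exact q.es.z_ne (by rw [← h, mul_one])
  · exact q.es.z_ne (h.symm.trans q.es.z_sq)

theorem b_ne_a : ¬ Eqv z b a := fun h => q.ab (comm_of_eqv (q.es.z_comm a q.ma) h).symm

/-- Uniqueness of the decomposition modulo `z`. -/
theorem uniq {x₁ x₂ y₁ y₂ : G} (h1 : x₁ ∈ Qs z a b) (h2 : x₂ ∈ Qs z a b) (k1 : y₁ ∈ Qs z a' b')
    (k2 : y₂ ∈ Qs z a' b') (h : Eqv z (x₁ * y₁) (x₂ * y₂)) : Eqv z x₁ x₂ ∧ Eqv z y₁ y₂ := by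
  have zz := q.es.z_sq
  have c2 : z * x₂ = x₂ * z := q.es.z_comm _ (q.Qs_le h2)
  have e : Eqv z (x₂⁻¹ * x₁) (y₂ * y₁⁻¹) := by
    simpa [mul_assoc] using (h.mul_left (w := x₂⁻¹) (Commute.inv_right c2).eq).mul_right y₁⁻¹
  have e1 : Eqv z (x₂⁻¹ * x₁) 1 :=
    q.inf12 (mul_mem (inv_mem h2) h1) (mem_of_eqv (z_mem q.swap) (mul_mem k2 (inv_mem k1)) e)
  refine ⟨by simpa using e1.mul_left c2, Eqv.symm zz ?_⟩
  simpa using ((e.symm zz).trans zz e1).mul_right y₁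

theorem ind {x₁ x₂ y₁ y₂ : G} (h1 : x₁ ∈ Qs z a b) (h2 : x₂ ∈ Qs z a b) (k1 : y₁ ∈ Qs z a' b')
    (k2 : y₂ ∈ Qs z a' b') (n1 : ¬ Eqv z x₁ 1) (n2 : ¬ Eqv z x₂ 1) (n : ¬ Eqv z x₂ x₁) :
    Ind z (x₁ * y₁) (x₂ * y₂) := by
  have k : ∀ {x y : G}, x ∈ Qs z a b → y ∈ Qs z a' b' → ¬ Eqv z x 1 → x * y ≠ 1 ∧ x * y ≠ z := fun hx hy hn =>
    not_or.1 fun e => hn (uniq q hx (one_mem _) hy (one_mem _) (by rw [mul_one]; exact eqv_one_iff.2 e)).1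
  exact ⟨q.es.z_ne, (k h1 k1 n1).1, (k h1 k1 n1).2, (k h2 k2 n2).1, (k h2 k2 n2).2,
    fun e => n (uniq q h2 h1 k2 k1 (.inl e)).1, fun e => n (uniq q h2 h1 k2 k1 (.inr e)).1⟩

theorem le_norm : D ≤ 𝐍[Qs z a b] := fun _ hd => mem_norm_of_cj_le (cj_le_iff.2 fun _ hx =>
  mem_of_eqv (z_mem q) hx (q.es.aes.eqv_conj hd (q.Qs_le hx)))

theorem norm2 {g : G} (hg : g ∈ 𝐍[D]) (h : g ∈ 𝐍[Qs z a b]) : g ∈ 𝐍[Qs z a' b'] := by
  rcases q.norm_or hg with e | e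
  · exact e.2
  · rw [cj_of_norm h] at e
    exact absurd (q.inf12 (a_mem q) (e.1 ▸ a_mem q)) (ne_of_sq q q.sa)

/-- An element acting trivially modulo `z` on `a` and `b` does so on the quaternion group. -/
theorem triv {k : G} (hz : k * z = z * k) (h1 : Eqv z (k * a * k⁻¹) a) (h2 : Eqv z (k * b * k⁻¹) b) {x : G}
    (hx : x ∈ Qs z a b) : Eqv z (k * x * k⁻¹) x := by
  have zz := q.es.z_sq
  have f : ∀ y, Eqv z (k * y * k⁻¹) y → Eqv z x y → Eqv z (k * x * k⁻¹) x := fun y e1 e2 =>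
    ((e2.conj hz.symm).trans zz e1).trans zz (e2.symm zz)
  rcases q.mem_Qs.1 hx with e | e | e | e
  · exact f _ (.inl (by simp)) e
  · exact f _ h1 e
  · exact f _ h2 e
  · refine f _ ?_ e
    rw [conj_mul']
    exact h1.mul zz h2 (q.es.z_comm _ (mem_of_eqv q.es.z_mem q.ma h1))

end OneE

open OneE

namespace St

variable {V : Subgroup G} {z : G} (s : St V z) (hc : 𝐂[V] ≤ V)
include s hc

theorem six {e w : G} (he : e * z = z * e) (hw : w ∈ V) (h1 : w ≠ 1) (h2 : w ≠ z) (h : e * w * e⁻¹ ∈ V) :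
    e ∈ 𝐍[V] := by
  obtain ⟨n1, n2⟩ := not_or.1 (mt eqv_one_iff.2 (conj_ne he (mt eqv_one_iff.1 (not_or.2 ⟨h1, h2⟩))))
  obtain ⟨m, m0, hm⟩ := s.trans2 h hw n1 n2 h1 h2
  obtain ⟨m1, m2⟩ := mem_inf.1 m0
  have sw := s.of_mem hw h1
  have hV : V = RR z ⊓ RR w := by
    refine eq_of_le_of_card_ge (le_inf ?_ ?_) ((s.hyp.r3 _ fun x hx => ?_).trans s.e8.card.ge)
    · rw [s.RR_eq hc]; exact s.le_Tv
    · rw [sw.RR_eq hc]; exact sw.le_Tv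
    · obtain ⟨x1, x2⟩ := mem_inf.1 hx
      rw [s.RR_eq hc] at x1
      rw [sw.RR_eq hc] at x2
      rcases (s.es hc).1.sq x x1 with e1 | e1
      · exact e1
      · exact ((sw.es hc).1.sq x x2).resolve_right fun e2 => h2 (e2.symm.trans e1)
  have k : m * e ∈ 𝐍[RR z ⊓ RR w] :=
    norm_inf (X := centralizer {z} ⊓ centralizer {w}) (inf_le_left.trans (norm_RR z)) (inf_le_right.trans (norm_RR w))
      ⟨mul_mem m2 (Rec.mem_cen.2 he), Rec.mem_cen.2 (comm_of_conj_eq (by rw [← conj_conj, hm]))⟩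
  rw [← hV] at k
  exact (mul_mem_cancel_left m1).1 k

theorem cen_le_norm : centralizer {z} ≤ 𝐍[Tv V z] := s.RR_eq hc ▸ norm_RR z

omit hc in
theorem mem_Tv_of_basis {m v w : G} (hm : m * z = z * m) (hv : v ∈ V) (hw : w ∈ V) (hi : Ind z v w)
    (h1 : Eqv z (m * v * m⁻¹) v) (h2 : Eqv z (m * w * m⁻¹) w) : m ∈ Tv V z := by
  have zz := s.sq
  have h3 : Eqv z (m * (v * w) * m⁻¹) (v * w) := by
    rw [conj_mul']
    exact h1.mul zz h2 (s.e8.comm s.mem (mem_of_eqv s.mem hv h1))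
  have f : ∀ y, Eqv z (m * y * m⁻¹) y → Eqv z (m * (z * y) * m⁻¹) (z * y) := fun y e => by
    rw [conj_mul', conj_eq_of_comm hm]
    exact e.mul_left rfl
  refine (mem_Tv zz).2 ⟨hm, fun x hx => ?_⟩
  rcases s.e8.cases s.mem hv hw hi hx with (rfl | rfl | rfl | rfl) | rfl | rfl | rfl | rfl
  exacts [.inl (by simp), .inl (conj_eq_of_comm hm), h1, f _ h1, h2, f _ h2, h3, mul_assoc z v w ▸ f _ h3]

variable {a b a' b' : G} (q : Q2 (Tv V z) z a b a' b')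
include q

theorem inv_mem_norm {t : G} (ht : t * t = 1) (hz : t * z = z * t) (hD : t ∉ Tv V z) : t ∈ 𝐍[Qs z a b] := by
  have hN := s.cen_le_norm hc (Rec.mem_cen.2 hz)
  rcases q.norm_or hN with e | ⟨e, -⟩
  · exact e.1
  exfalso
  have zz := s.sq
  have hn : ∀ d ∈ Tv V z, t * d * t⁻¹ ∈ Tv V z := fun d hd => conj_mem_of_norm hN hd
  have m2 : ∀ x ∈ Qs z a b, t * x * t⁻¹ ∈ Qs z a' b' := fun x hx => e ▸ conj_mem_cj hx
  have f : ∀ x ∈ Qs z a b, ze t x * ze t x = 1 := fun x hx => by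
    rw [← qf_eq_zero, qf_ze q.es.aes hn (q.Qs_le hx), bf_eq_zero]
    exact q.comm12 hx (m2 x hx)
  have f2 : ∀ x ∈ Qs z a b, x * x = z → ¬ Eqv z (ze t x) 1 := fun x hx h2 h3 =>
    ne_of_sq q (x := x⁻¹) (by rw [← mul_inv_rev, h2, inv_of_sq zz])
      (uniq q (inv_mem hx) (one_mem _) (m2 x hx) (one_mem _) (by rw [mul_one]; exact h3)).1
  rcases s.hyp.s1 q.es.aes ht hD hz.symm hn q.ma q.mb (f _ (a_mem q)) (f _ (b_mem q)) with k | k | k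
  · exact f2 _ (a_mem q) q.sa k
  · exact f2 _ (b_mem q) q.sb k
  · have := comm_of_eqv (q.es.z_comm _ (inv_mem q.mb))
      (uniq q (inv_mem (a_mem q)) (inv_mem (b_mem q)) (m2 _ (a_mem q)) (m2 _ (b_mem q)) k).1
    exact q.ab (Commute.inv_inv_iff.1 this)

theorem norm_of_fix {m v : G} (hm : m ∈ 𝐍[V] ⊓ centralizer {z}) (hv : v ∈ V) (h1 : v ≠ 1) (h2 : v ≠ z)
    (h : Eqv z (m * v * m⁻¹) v) : m ∈ 𝐍[Qs z a b] := by
  have zz := s.sq
  have mz : m * z = z * m := Rec.mem_cen.1 hm.2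
  obtain ⟨w, hw, hi⟩ := s.e8.exists_third s.ne h1 h2
  have k : Eqv z (m * w * m⁻¹) w ∨ Eqv z (m * w * m⁻¹) (v * w) := by
    have n1 := conj_ne mz (x := w) (mt eqv_one_iff.1 (not_or.2 ⟨hi.2.2.2.1, hi.2.2.2.2.1⟩))
    have n2 : ¬ Eqv z (m * w * m⁻¹) v := fun e => by
      have e' := (e.trans zz (h.symm zz)).conj (w := m⁻¹) (Commute.inv_right mz.symm).eq
      simp only [mul_assoc, inv_mul_cancel_left, inv_inv, inv_mul_cancel, mul_one] at e'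
      exact e'.elim hi.2.2.2.2.2.1 hi.2.2.2.2.2.2
    rcases s.e8.cases s.mem hv hw hi (conj_mem_of_norm hm.1 hw) with (e | e | e | e) | e | e | e | e
    exacts [absurd (eqv_one_iff.2 (.inl e)) n1, absurd (eqv_one_iff.2 (.inr e)) n1, absurd (.inl e) n2,
      absurd (.inr e) n2, .inl (.inl e), .inl (.inr e), .inr (.inl e), .inr (.inr (e.trans (mul_assoc _ _ _)))]
  rcases k with k | k
  · exact le_norm q (s.mem_Tv_of_basis mz hv hw hi h k)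
  obtain ⟨t, t2, tz, tv, tw, -, tD⟩ := s.exists_t hc hv hw hi
  refine (mul_mem_cancel_left (s.inv_mem_norm hc q t2 tz tD)).1 (le_norm q (s.mem_Tv_of_basis ?_ hv hw hi ?_ ?_))
  · exact (Commute.mul_left tz mz).eq
  · have := h.conj tz.symm
    rwa [conj_conj, conj_eq_of_comm tv] at this
  · have := k.conj tz.symm
    rwa [conj_conj, conj_mul', conj_eq_of_comm tv, tw, sq_cancel (s.e8.sq v hv)] at this

theorem H_le : 𝐍[V] ⊓ centralizer {z} ≤ 𝐍[Qs z a b] := fun m hm => by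
  have zz := s.sq
  have mz : m * z = z * m := Rec.mem_cen.1 hm.2
  obtain ⟨w, hw, w', -, -, h1, h2, -⟩ := s.e8.exists_second s.ne
  by_cases h : Eqv z (m * w * m⁻¹) w
  · exact s.norm_of_fix hc q hm hw h1 h2 h
  have hv := conj_mem_of_norm hm.1 hw
  obtain ⟨n1, n2⟩ := not_or.1 (mt eqv_one_iff.2 (conj_ne mz (mt eqv_one_iff.1 (not_or.2 ⟨h1, h2⟩))))
  generalize hv' : m * w * m⁻¹ = v at *
  have ww := s.e8.sq w hw
  have c : ∀ {x : G}, v * w = x → v = x * w := fun e => by rw [← e, mul_assoc, ww, mul_one]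
  obtain ⟨t, t2, tz, -, tw, tV, tD⟩ := s.exists_t hc (mul_mem hv hw) hw
    ⟨s.ne, fun e => h (.inl (by simpa using c e)), fun e => h (.inr (c e)), h1, h2,
      fun e => n1 (by simpa using e), fun e => n2 (by
        rw [← mul_assoc] at e
        rw [← sq_cancel zz v, mul_eq_right.1 e.symm, mul_one])⟩
  rw [mul_assoc v, ww, mul_one] at tw
  refine (mul_mem_cancel_left (inv_mem (s.inv_mem_norm hc q t2 tz tD))).1 (s.norm_of_fix hc q
    (mul_mem (inv_mem ⟨tV, Rec.mem_cen.2 tz⟩) hm) hw h1 h2 (.inl ?_))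
  rw [← conj_conj, hv', ← tw]
  group

/-- The elements of `N(V) ∩ C(z)` permute the classes of the two quaternion groups in the same way. -/
theorem tr {x₁ x₂ y₁ y₂ x₁' x₂' y₁' y₂' : G} (h1 : x₁ ∈ Qs z a b) (h2 : x₂ ∈ Qs z a b) (k1 : y₁ ∈ Qs z a' b')
    (k2 : y₂ ∈ Qs z a' b') (v1 : x₁ * y₁ ∈ V) (v2 : x₂ * y₂ ∈ V) (hi : Ind z (x₁ * y₁) (x₂ * y₂))
    (h1' : x₁' ∈ Qs z a b) (h2' : x₂' ∈ Qs z a b) (k1' : y₁' ∈ Qs z a' b')
    (k2' : y₂' ∈ Qs z a' b') (v1' : x₁' * y₁' ∈ V) (v2' : x₂' * y₂' ∈ V) (hi' : Ind z (x₁' * y₁') (x₂' * y₂')) :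
    ∃ m ∈ 𝐍[V] ⊓ centralizer {z}, (Eqv z (m * x₁ * m⁻¹) x₁' ∧ Eqv z (m * y₁ * m⁻¹) y₁') ∧
      Eqv z (m * x₂ * m⁻¹) x₂' ∧ Eqv z (m * y₂ * m⁻¹) y₂' := by
  obtain ⟨m, hm, e1, e2⟩ := s.trans3 v1 v2 v1' v2' hi hi'
  have m1 := s.H_le hc q hm
  have m2 := s.H_le hc q.swap hm
  rw [conj_mul'] at e1 e2
  exact ⟨m, hm, uniq q (conj_mem_of_norm m1 h1) h1' (conj_mem_of_norm m2 k1) k1' (.inl e1),
    uniq q (conj_mem_of_norm m1 h2) h2' (conj_mem_of_norm m2 k2) k2' (.inl e2)⟩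

variable (ha : a * a' ∈ V) (hb : b * b' ∈ V)
include ha hb

omit hc in
theorem link {x : G} (hx : x ∈ Qs z a b) : ∃ y ∈ Qs z a' b', x * y ∈ V := by
  have f : ∀ x' y, y ∈ Qs z a' b' → x' * y ∈ V → Eqv z x x' → ∃ y ∈ Qs z a' b', x * y ∈ V := fun x' y hy h e =>
    ⟨y, hy, mem_of_eqv s.mem h (e.mul_right y)⟩
  rcases q.mem_Qs.1 hx with e | e | e | e
  · exact f _ 1 (one_mem _) (by simp) e
  · exact f _ _ (a_mem q.swap) ha e
  · exact f _ _ (b_mem q.swap) hb e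
  · refine f _ _ (mul_mem (a_mem q.swap) (b_mem q.swap)) ?_ e
    rw [mul_assoc, comm_assoc q.c3, ← mul_assoc]
    exact mul_mem ha hb

omit s hc ha hb in
theorem ind_ab : Ind z (a * a') (b * b') :=
  ind q (a_mem q) (b_mem q) (a_mem q.swap) (b_mem q.swap) (ne_of_sq q q.sa) (ne_of_sq q q.sb) (b_ne_a q)

theorem to_std {g : G} (hg : g * z = z * g) (hM : g ∉ 𝐍[V]) :
    ∃ m ∈ 𝐍[V] ⊓ centralizer {z}, Eqv z (m * g * (a * a') * (m * g)⁻¹) (a * b') := by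
  have zz := s.sq
  obtain ⟨-, u1, u2, -⟩ := ind_ab q
  obtain ⟨x, hx, y, hy, e⟩ := q.decomp (conj_mem_of_norm (s.cen_le_norm hc (Rec.mem_cen.2 hg)) (s.le_Tv ha))
  have n := conj_ne hg (mt eqv_one_iff.1 (not_or.2 ⟨u1, u2⟩))
  have e2 : x * x * (y * y) = 1 := by
    rw [← sq_mul_of_comm (q.comm12 hx hy), ← e, ← conj_mul', s.e8.sq _ ha]; simp
  have sq1 : ∀ {p : G}, Eqv z p 1 → p * p = 1 := fun h => by
    rcases eqv_one_iff.1 h with rfl | rfl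
    exacts [mul_one _, zz]
  have nxy : ¬ (Eqv z x 1 ∧ Eqv z y 1) := fun h => n (by
    rw [e]
    simpa using h.1.mul zz h.2 (q.es.z_comm _ (q.Qs_le hx)))
  have nx : ¬ Eqv z x 1 := fun h => nxy ⟨h, (q.swap.sq1 hy).resolve_right fun k => by
    rw [sq1 h, k, one_mul] at e2
    exact s.ne e2⟩
  have yy : y * y = z := (q.swap.sq1 hy).resolve_left fun h => nxy ⟨(q.sq1 hx).resolve_right fun k => by
    rw [sq1 h, k, mul_one] at e2
    exact s.ne e2, h⟩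
  obtain ⟨y₀, hy₀, v1⟩ := s.link q ha hb hx
  obtain ⟨x₀, hx₀, v2⟩ := s.link q.swap (q.c1 ▸ ha) (q.c4 ▸ hb) hy
  rw [← q.comm12 hx₀ hy] at v2
  have n0 : ¬ Eqv z x₀ 1 := fun h => s.ne (yy.symm.trans (s.e8.sq _
    ((mul_mem_cancel_left (mem_of_eqv s.mem (one_mem _) h)).1 v2)))
  have n1 : ¬ Eqv z x₀ x := fun h => hM (s.six hc hg ha u1 u2
    (e ▸ mem_of_eqv s.mem v2 ((h.symm zz).mul_right y)))
  obtain ⟨m, hm, ⟨e3, -⟩, -, e4⟩ := s.tr hc q hx hx₀ hy₀ hy v1 v2 (ind q hx hx₀ hy₀ hy nx n0 n1) (a_mem q) (b_mem q)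
    (a_mem q.swap) (b_mem q.swap) ha hb (ind_ab q)
  refine ⟨m, hm, ?_⟩
  rw [← conj_conj, e, conj_mul']
  exact e3.mul zz e4 (q.es.z_comm _ (mem_of_eqv q.es.z_mem q.ma e3))

theorem noswap : centralizer {z} ≤ 𝐍[Qs z a b] := fun g hg => by
  by_contra hn
  have zz := s.sq
  have gz : g * z = z * g := Rec.mem_cen.1 hg
  obtain ⟨-, u1, u2, -⟩ := ind_ab q
  have hM : g ∉ 𝐍[V] := fun h => hn (s.H_le hc q ⟨h, hg⟩)
  obtain ⟨e1, e2⟩ := (q.norm_or (s.cen_le_norm hc hg)).resolve_left fun h => hn h.1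
  have k : ∀ g' ∈ centralizer {z}, g' ∈ 𝐍[Qs z a b] → g' ∈ 𝐍[V] := fun g' hg' h => by
    by_contra hM'
    obtain ⟨m, hm, e⟩ := s.to_std hc q ha hb gz hM
    obtain ⟨m', hm', e'⟩ := s.to_std hc q ha hb (Rec.mem_cen.1 hg') hM'
    have c1 := inv_mem (mul_mem (mem_inf.1 hm).2 hg)
    have c2 := mul_mem c1 (mul_mem (mem_inf.1 hm').2 hg')
    have e3 := (e'.trans zz (e.symm zz)).conj (Rec.mem_cen.1 c1).symm
    rw [conj_conj, conj_conj, inv_mul_cancel, one_mul, inv_one, mul_one] at e3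
    have c3 := s.H_le hc q ⟨s.six hc (Rec.mem_cen.1 c2) ha u1 u2 (mem_of_eqv s.mem ha e3), c2⟩
    rw [mul_mem_cancel_right (mul_mem (s.H_le hc q hm') h), inv_mem_iff,
      mul_mem_cancel_left (s.H_le hc q hm)] at c3
    exact hn c3
  have hF : 𝐍[V] ⊓ centralizer {z} ≤ 𝐍[cj(g, V)] := fun h hh => by
    rw [← cj_norm, mem_cj]
    refine k _ (mul_mem (mul_mem (inv_mem hg) (mem_inf.1 hh).2) hg) ?_
    rw [← mem_cj, cj_norm, e1]
    exact s.H_le hc q.swap hh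
  have zF : z ∈ cj(g, V) := conj_eq_of_comm gz ▸ conj_mem_cj s.mem
  rcases s.inv_or zF hF with h | h
  · refine conj_ne gz (mt eqv_one_iff.1 (not_or.2 ⟨u1, u2⟩)) (eqv_one_iff.2 (s.cpl hc
      (cj_le_of_norm s.le_Tv (s.cen_le_norm hc hg)) hF h (conj_mem_cj ha) (mem_cent.2 fun x hx => ?_)))
    exact (s.e8.conj g).comm hx (conj_mem_cj ha)
  · exact hM (cj_eq_iff.1 (cj_eq_of_ge h))

/-- `N(V) ∩ C(z)` induces every automorphism of the quaternion group. -/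
theorem induces {g : G} (hg : g * z = z * g) : ∃ m ∈ 𝐍[V] ⊓ centralizer {z}, m * g ∈ 𝐂[Qs z a b] := by
  have hN := s.noswap hc q ha hb (Rec.mem_cen.2 hg)
  have h1 := conj_mem_of_norm hN (a_mem q)
  have h2 := conj_mem_of_norm hN (b_mem q)
  obtain ⟨y₁, k1, v1⟩ := s.link q ha hb h1
  obtain ⟨y₂, k2, v2⟩ := s.link q ha hb h2
  obtain ⟨m, hm, ⟨e1, -⟩, e2, -⟩ := s.tr hc q h1 h2 k1 k2 v1 v2 (ind q h1 h2 k1 k2 (conj_ne hg (ne_of_sq q q.sa))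
    (conj_ne hg (ne_of_sq q q.sb)) fun h => q.ab (comm_of_conj
      (comm_of_eqv (q.es.z_comm _ (q.Qs_le h1)) h)).symm) (a_mem q) (b_mem q)
    (a_mem q.swap) (b_mem q.swap) ha hb (ind_ab q)
  rw [conj_conj] at e1 e2
  obtain ⟨x, hx, e⟩ := q.es1.1.exists_inner (g := m * g) fun p hp =>
    triv q (Commute.mul_left (Rec.mem_cen.1 hm.2) hg).eq e1 e2 hp
  have hx' := q.Qs_le hx
  refine ⟨x⁻¹ * m, mul_mem (inv_mem ⟨s.Tv_le_norm hx', hx'.1⟩) hm, mem_cent.2 fun p hp => (comm_of_conj_eq ?_).symm⟩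
  rw [mul_assoc x⁻¹, ← conj_conj, e p hp]
  group

end St

end Cfsg.Agent.Rk3
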