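import Mathlib
import Cfsg.Agent.Rk3.OneA
import Cfsg.Agent.Rk3.OneE
import Cfsg.Agent.Rec.G23.Setup

/-!
The centraliser of one quaternion factor is `SL₂(3)`. See `stubs/Cfsg/Agent/Rk3/PLAN.md`.
-/

set_option autoImplicit false
set_option linter.unusedSectionVars false

namespace Cfsg.Agent.Rk3

open Cfsg Subgroup Cfsg.Agent.GT Cfsg.Agent.Loc.Mss Cfsg.Agent.NE Cfsg.Agent.Spor
open scoped commutatorElement

variable {G : Type*} [Group G] [Finite G]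

open OneE

namespace OneF

section

variable {D : Subgroup G} {z a b a' b' : G} (q : Q2 D z a b a' b')
include q

theorem le_cent : Qs z a' b' ≤ 𝐂[Qs z a b] := fun _ hy => mem_cent.2 fun _ hx => q.comm12 hx hy

/-- Two elements in distinct non-trivial classes generate the quaternion group. -/
theorem rebase {x y : G} (hx : x ∈ Qs z a b) (hy : y ∈ Qs z a b) (n1 : ¬ Eqv z x 1) (n2 : ¬ Eqv z y 1)
    (n : ¬ Eqv z y x) : Q2 D z x y a' b' ∧ Qs z x y = Qs z a b := by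
  have zz := q.es.z_sq
  have xx := (q.sq1 hx).resolve_left n1
  have yy := (q.sq1 hy).resolve_left n2
  have k : Q2 D z x y a' b' := ⟨q.es, q.card, q.Qs_le hx, q.Qs_le hy, q.ma', q.mb', xx, yy, q.sa', q.sb', fun e => by
      have e1 := (q.sq1 (mul_mem hx hy)).resolve_right fun e1 => by
        rw [sq_mul_of_comm e, xx, yy, zz] at e1
        exact q.es.z_ne e1.symm
      have e2 := e1.mul_left (w := x⁻¹) (q.es.z_comm _ (inv_mem (q.Qs_le hx)))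
      rw [inv_mul_cancel_left, mul_one] at e2
      exact n (e2.trans zz (q.es.aes.eqv_inv (q.Qs_le hx))),
    q.ab', q.comm12 hx (a_mem q.swap), q.comm12 hx (b_mem q.swap), q.comm12 hy (a_mem q.swap),
    q.comm12 hy (b_mem q.swap)⟩
  exact ⟨k, eq_of_le_of_card_ge (by simp [Qs, ext_le, show z ∈ ext (ext (ext ⊥ z) a) b from z_mem q,
    show x ∈ ext (ext (ext ⊥ z) a) b from hx, show y ∈ ext (ext (ext ⊥ z) a) b from hy])
      (q.es1.2.trans k.es1.2.symm).le⟩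

end

variable {V : Subgroup G} {z a b a' b' : G} (s : St V z) (q : Q2 (Tv V z) z a b a' b')
  (ha : a * a' ∈ V) (hb : b * b' ∈ V)
include s q ha hb

omit s ha hb in
theorem cz {k : G} (hk : k ∈ 𝐂[Qs z a b]) : k * z = z * k := (mem_cent.1 hk z (z_mem q)).symm

theorem conj2 {k y : G} (hk : k ∈ 𝐂[Qs z a b]) (hy : y ∈ Qs z a' b') : k * y * k⁻¹ ∈ Qs z a' b' :=
  conj_mem_of_norm (s.noswap s.self_cent q.swap (q.c1 ▸ ha) (q.c4 ▸ hb) (Rec.mem_cen.2 (cz q hk))) hy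

theorem mem2 {k y : G} (hk : k ∈ 𝐂[Qs z a b]) (hy : y ∈ Qs z a' b') (n : ¬ Eqv z y 1)
    (h : Eqv z (k * y * k⁻¹) y) : k ∈ Qs z a' b' := by
  have zz := s.sq
  have kz := cz q hk
  have f : ∀ x ∈ Qs z a b, ∀ y, k * (x * y) * k⁻¹ = x * (k * y * k⁻¹) := fun x hx y => by
    rw [conj_mul', conj_eq_of_comm (mem_cent.1 hk x hx).symm]
  obtain ⟨x, hx, v⟩ := s.link q.swap (q.c1 ▸ ha) (q.c4 ▸ hb) hy
  obtain ⟨v1, v2⟩ : y * x ≠ 1 ∧ y * x ≠ z := not_or.1 fun e =>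
    n (uniq q.swap hy (one_mem _) hx (one_mem _) (by rw [mul_one]; exact eqv_one_iff.2 e)).1
  rw [← q.comm12 hx hy] at v v1 v2
  have hM := s.six s.self_cent kz v v1 v2 (by
    rw [f x hx]
    exact mem_of_eqv s.mem v (h.mul_left (q.es.z_comm _ (q.Qs_le hx))))
  have g : ∀ x ∈ Qs z a b, ∀ y ∈ Qs z a' b', x * y ∈ V → Eqv z (k * (x * y) * k⁻¹) (x * y) := fun x hx y hy v => by
    have e1 := mul_mem (inv_mem v) (conj_mem_of_norm hM v)
    have e2 : (x * y)⁻¹ * (k * (x * y) * k⁻¹) ∈ Qs z a' b' := by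
      rw [f x hx, mul_inv_rev, mul_assoc, inv_mul_cancel_left]
      exact mul_mem (inv_mem hy) (conj2 s q ha hb hk hy)
    have e3 := (q.swap.sq1 e2).resolve_right fun e => s.ne (e.symm.trans (s.e8.sq _ e1))
    simpa only [mul_inv_cancel_left, mul_one] using e3.mul_left (s.e8.comm s.mem v)
  exact q.mem2_of_comm (s.mem_Tv_of_basis kz ha hb (St.ind_ab q) (g _ (a_mem q) _ (a_mem q.swap) ha)
    (g _ (b_mem q) _ (b_mem q.swap) hb)) (mem_cent.1 hk _ (a_mem q)).symm (mem_cent.1 hk _ (b_mem q)).symm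

theorem mem2' {k h y : G} (hk : k ∈ 𝐂[Qs z a b]) (hh : h ∈ 𝐂[Qs z a b]) (hy : y ∈ Qs z a' b') (n : ¬ Eqv z y 1)
    (e : Eqv z (k * y * k⁻¹) (h * y * h⁻¹)) : h⁻¹ * k ∈ Qs z a' b' := by
  refine mem2 s q ha hb (mul_mem (inv_mem hh) hk) hy n ?_
  have := e.conj (cz q (inv_mem hh)).symm
  rwa [conj_conj, conj_conj, inv_mul_cancel, one_mul, inv_one, mul_one] at this

/-- An element of `C(Q₁)` outside `Q₂` permutes the three classes of `Q₂` cyclically. -/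
theorem cyc {g c : G} (hg : g ∈ 𝐂[Qs z a b]) (h2 : g ∉ Qs z a' b') (hc : c ∈ Qs z a' b') (n : ¬ Eqv z c 1) :
    (Q2 (Tv V z) z c (g * c * g⁻¹) a b ∧ Qs z c (g * c * g⁻¹) = Qs z a' b') ∧
      Eqv z (g * (g * c * g⁻¹) * g⁻¹) (c * (g * c * g⁻¹)) := by
  have zz := s.sq
  have gz := cz q hg
  have h1 := conj2 s q ha hb hg hc
  have n1 := conj_ne gz n
  obtain ⟨r, e⟩ := rebase q.swap hc h1 n n1 (mt (mem2 s q ha hb hg hc n) h2)
  refine ⟨⟨r, e⟩, ?_⟩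
  rcases r.mem_Qs.1 (e ▸ conj2 s q ha hb hg h1) with k | k | k | k
  · exact absurd k (conj_ne gz n1)
  · refine absurd (mem2 s q ha hb hg (mul_mem hc h1) (fun e1 => r.ab ?_) ?_) h2
    · have e2 := e1.mul_left (w := c⁻¹) (q.es.z_comm _ (inv_mem r.ma))
      rw [inv_mul_cancel_left, mul_one] at e2
      exact (comm_of_eqv (q.es.z_comm _ r.ma) (e2.trans zz (q.es.aes.eqv_inv r.ma))).symm
    · rw [conj_mul']
      exact (k.mul_left (q.es.z_comm _ r.mb)).trans zz (q.es.aes.eqv_comm r.mb r.ma)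
  · exact absurd (mem2 s q ha hb hg h1 n1 k) h2
  · exact k

theorem cube {g : G} (hg : g ∈ 𝐂[Qs z a b]) (h2 : g ∉ Qs z a' b') : g ^ 3 ∈ Qs z a' b' := by
  have zz := s.sq
  obtain ⟨⟨r, -⟩, k⟩ := cyc s q ha hb hg h2 (a_mem q.swap) (ne_of_sq q q.sa')
  refine mem2 s q ha hb (pow_mem hg 3) (a_mem q.swap) (ne_of_sq q q.sa') ?_
  have e := k.conj (cz q hg).symm
  rw [conj_mul' g a'] at e
  have e2 := e.trans zz (k.mul_left (q.es.z_comm _ r.mb))
  have e3 : Eqv z (g * a' * g⁻¹ * (a' * (g * a' * g⁻¹))) a' := by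
    have := ((q.es.aes.eqv_comm r.mb r.ma).mul_right (g * a' * g⁻¹)).trans zz
      (mul_assoc a' _ _ ▸ (q.es.aes.eqv_sq r.mb).mul_left (q.es.z_comm _ r.ma))
    rwa [mul_one, mul_assoc] at this
  rw [show g ^ 3 * a' * (g ^ 3)⁻¹ = g * (g * (g * a' * g⁻¹) * g⁻¹) * g⁻¹ by rw [pow_three]; group]
  exact e2.trans zz e3

end OneF

open OneF

theorem St.exists_x {V : Subgroup G} {z a b a' b' : G} (s : St V z) (q : Q2 (Tv V z) z a b a' b')
    (ha : a * a' ∈ V) (hb : b * b' ∈ V) : ∃ x c, x ^ 3 = 1 ∧ c * c = z ∧ (c * x) ^ 3 = 1 ∧ c ∈ Qs z a' b' ∧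
      Qs z a' b' ≤ Rec.clos [x, c] ∧ 𝐂[Qs z a b] = Rec.clos [x, c] := by
  have zz := s.sq
  obtain ⟨g₀, h0, n0⟩ := SetLike.not_le_iff_exists.1 s.not_norm
  obtain ⟨m, hm, hg⟩ := s.induces s.self_cent q ha hb (Rec.mem_cen.1 h0)
  have h2 : m * g₀ ∉ Qs z a' b' := fun h => n0 ((mul_mem_cancel_left (mem_inf.1 hm).1).1 (s.Tv_le_norm (q.swap.Qs_le h)))
  generalize m * g₀ = g at hg h2
  have h3 := cube s q ha hb hg h2
  have hx : g ^ 4 ∈ 𝐂[Qs z a b] := pow_mem hg 4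
  have x2 : g ^ 4 ∉ Qs z a' b' := fun h => h2 (by rwa [pow_succ, mul_mem_cancel_left h3] at h)
  have x3 : (g ^ 4) ^ 3 = 1 := by rw [← pow_mul, mul_comm, pow_mul, q.es.aes.pow_four (q.swap.Qs_le h3)]
  generalize g ^ 4 = x at hx x2 x3
  obtain ⟨c, hc, cc, c3⟩ : ∃ c ∈ Qs z a' b', c * c = z ∧ (c * x) ^ 3 = 1 := by
    obtain ⟨⟨r, -⟩, k⟩ := cyc s q ha hb hx x2 (a_mem q.swap) (ne_of_sq q q.sa')
    have hp := mul_mem r.ma r.mb
    have e := (k.mul_left (q.es.z_comm _ hp)).trans zz (q.es.aes.eqv_sq hp)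
    rw [show a' * (x * a' * x⁻¹) * (x * (x * a' * x⁻¹) * x⁻¹) = (a' * x) ^ 3 * (x ^ 3)⁻¹ by
      rw [pow_three, pow_three]; group, x3, inv_one, mul_one] at e
    rcases eqv_one_iff.1 e with e | e
    · exact ⟨a', a_mem q.swap, q.sa', e⟩
    · refine ⟨z * a', mul_mem (z_mem q.swap) (a_mem q.swap), (sq_eqv q.es.aes q.ma' (.inr rfl)).trans q.sa', ?_⟩
      rw [mul_assoc, (Commute.mul_right (q.es.z_comm _ q.ma') (cz q hx).symm).mul_pow, e, pow_three, sq_cancel zz, zz]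
  have n := ne_of_sq q cc
  obtain ⟨⟨r, e⟩, k⟩ := cyc s q ha hb hx x2 hc n
  have m1 : x ∈ Rec.clos [x, c] := Rec.mem_clos (by simp)
  have m2 : c ∈ Rec.clos [x, c] := Rec.mem_clos (by simp)
  have hQ : Qs z a' b' ≤ Rec.clos [x, c] := by
    rw [← e, Qs, ext_le, ext_le, ext_le]
    exact ⟨⟨⟨bot_le, cc ▸ mul_mem m2 m2⟩, m2⟩, mul_mem (mul_mem m1 m2) (inv_mem m1)⟩
  refine ⟨x, c, x3, cc, c3, hc, hQ, le_antisymm (fun h hh => ?_) (Rec.clos_le.2 (by simp [hx, le_cent q hc]))⟩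
  rcases r.mem_Qs.1 (e ▸ conj2 s q ha hb hh hc) with k1 | k1 | k1 | k1
  · exact absurd k1 (conj_ne (cz q hh) n)
  · exact hQ (mem2 s q ha hb hh hc n k1)
  · exact (mul_mem_cancel_left (inv_mem m1)).1 (hQ (mem2' s q ha hb hh hx hc n k1))
  · refine (mul_mem_cancel_left (inv_mem (mul_mem m1 m1))).1 (hQ (mem2' s q ha hb hh (mul_mem hx hx) hc n ?_))
    rw [← conj_conj]
    exact k1.trans zz (k.symm zz)

end Cfsg.Agent.Rk3
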