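import Mathlib
import Cfsg.Agent.Rk3.OneF

/-!
Identification with `G₂(3)`. See `stubs/Cfsg/Agent/Rk3/PLAN.md`.
-/

set_option autoImplicit false
set_option linter.unusedSectionVars false

namespace Cfsg.Agent.Rk3

open Cfsg Subgroup Cfsg.Agent.GT Cfsg.Agent.Loc.Mss Cfsg.Agent.NE Cfsg.Agent.Spor
open scoped commutatorElement

variable {G : Type*} [Group G] [Finite G]

open OneE OneF

/-- An automorphism of the quaternion group is determined by the images of the two generators. -/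
theorem OneG.card_le {D C : Subgroup G} {z a b a' b' : G} (q : Q2 D z a b a' b') (hz : C ≤ centralizer {z})
    (hn : C ≤ 𝐍[Qs z a b]) : Nat.card C ≤ 24 * Nat.card 𝐂[Qs z a b] := by
  have h1 := card_le_orbit (A := C) (x := a) [a, z * a, b, z * b, a * b, z * (a * b)] fun g hg => by
    have := (q.mem_Qs.1 (conj_mem_of_norm (hn hg) (a_mem q))).resolve_left
      (conj_ne (Rec.mem_cen.1 (hz hg)) (ne_of_sq q q.sa))
    simp only [List.mem_cons, List.not_mem_nil, or_false]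
    simpa only [Eqv, or_assoc] using this
  have h2 := card_le_orbit (A := C ⊓ centralizer {a}) (x := b) [b, z * b, a * b, z * (a * b)] fun g hg => by
    obtain ⟨g1, g2⟩ := mem_inf.1 hg
    have := ((q.mem_Qs.1 (conj_mem_of_norm (hn g1) (b_mem q))).resolve_left
      (conj_ne (Rec.mem_cen.1 (hz g1)) (ne_of_sq q q.sb))).resolve_left fun e => by
        have e1 := comm_of_eqv (q.es.z_comm _ q.ma) e
        rw [← conj_eq_of_comm (Rec.mem_cen.1 g2)] at e1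
        exact q.ab (comm_of_conj e1).symm
    simp only [List.mem_cons, List.not_mem_nil, or_false]
    simpa only [Eqv, or_assoc] using this
  have h3 : C ⊓ centralizer {a} ⊓ centralizer {b} ≤ 𝐂[Qs z a b] := fun g hg => by
    have : Qs z a b ≤ centralizer {g} := by
      rw [Qs, ext_le, ext_le, ext_le]
      exact ⟨⟨⟨bot_le, Rec.mem_cen.2 (Rec.mem_cen.1 (hz hg.1.1)).symm⟩, Rec.mem_cen.2 (Rec.mem_cen.1 hg.1.2).symm⟩,
        Rec.mem_cen.2 (Rec.mem_cen.1 hg.2).symm⟩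
    exact mem_cent.2 fun x hx => Rec.mem_cen.1 (this hx)
  have h4 := card_le_of_le h3
  simp only [List.length_cons, List.length_nil] at h1 h2
  omega

theorem St.isG23 {V : Subgroup G} {z : G} (s : St V z) : IsG23 G := by
  have hc := s.self_cent
  have zz := s.sq
  obtain ⟨u, hu, w, hw, hi⟩ := s.e8.exists_second s.ne
  obtain ⟨a, b, a', b', q, ea, eb⟩ := exists_q2 (s.es hc).1 (s.es hc).2 s.e8 s.le_Tv s.mem hu hw hi
  have ha : a * a' ∈ V := ea ▸ hu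
  have hb : b * b' ∈ V := eb ▸ hw
  have ha' : a' * a ∈ V := q.c1 ▸ ha
  have hb' : b' * b ∈ V := q.c4 ▸ hb
  obtain ⟨x2, q2, b1, b2, b3, b4, b5, b6⟩ := s.exists_x q ha hb
  obtain ⟨x1, q1, a1, a2, a3, a4, a5, a6⟩ := s.exists_x q.swap ha' hb'
  have n1 := s.noswap hc q ha hb
  have n2 := s.noswap hc q.swap ha' hb'
  have m1 : x1 ∈ 𝐂[Qs z a' b'] := a6 ▸ Rec.mem_clos (by simp)
  have m2 : x2 ∈ 𝐂[Qs z a b] := b6 ▸ Rec.mem_clos (by simp)
  have z1 := cz q.swap m1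
  have z2 := cz q m2
  have hx : x1 * x2 = x2 * x1 := by
    have c1 : x1 * x2 * x1⁻¹ * x2⁻¹ ∈ 𝐂[Qs z a b] :=
      mul_mem (conj_mem_of_norm (norm_cent n1 (Rec.mem_cen.2 z1)) m2) (inv_mem m2)
    have c2 : x1 * x2 * x1⁻¹ * x2⁻¹ ∈ 𝐂[Qs z a' b'] := by
      simpa [mul_assoc] using mul_mem m1 (conj_mem_of_norm (norm_cent n2 (Rec.mem_cen.2 z2)) (inv_mem m1))
    have c3 : ∀ d ∈ Tv V z, d * (x1 * x2 * x1⁻¹ * x2⁻¹) = x1 * x2 * x1⁻¹ * x2⁻¹ * d := fun d hd => by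
      obtain ⟨x, hx, y, hy, rfl⟩ := q.decomp hd
      exact (Commute.mul_left (mem_cent.1 c1 x hx) (mem_cent.1 c2 y hy)).eq
    rcases q.es.center _ (s.le_Tv (hc (mem_cent.2 fun v hv => c3 v (s.le_Tv hv)))) fun d hd => (c3 d hd).symm with e | e
    · rwa [mul_inv_eq_one, mul_inv_eq_iff_eq_mul] at e
    · have e1 : (x1 * x2 * x1⁻¹) ^ 3 = (z * x2) ^ 3 := by rw [mul_inv_eq_iff_eq_mul.1 e]
      rw [conj_pow, Commute.mul_pow z2.symm, b1, pow_three, sq_cancel zz] at e1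
      exact absurd (by simpa using e1.symm) s.ne
  let p : Rec.G23.Pre G := ⟨z, x1, q1, x2, q2, ⟨zz, a2, b2, a1, b1, a3, b3, hx, (mem_cent.1 m1 _ b4).symm,
      mem_cent.1 m2 _ a4, q.comm12 a4 b4⟩, s.ne, fun g hg => a6 ▸ norm_cent n2 (Rec.mem_cen.2 hg),
    fun g hg => b6 ▸ norm_cent n1 (Rec.mem_cen.2 hg)⟩
  have hL : p.L ≤ centralizer {z} := fun g hg => Rec.mem_cen.2 (p.f0.2.2.2.2.2 g hg)
  have hD : Tv V z ≤ p.L := fun d hd => by
    obtain ⟨x, hx, y, hy, rfl⟩ := q.decomp hd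
    exact mul_mem (p.f0.1 (a5 hx)) (p.f0.2.1 (b5 hy))
  obtain ⟨t, t2, tz, -, tw, -⟩ := s.exists_t hc hu hw hi
  obtain ⟨i1, i2, i3, i4, i5, i6, i7⟩ := id hi
  have hidx : p.L.relIndex (centralizer {z}) = 2 := by
    have k1 := Inv.Fz.card_mul_relIndex hL
    have k2 := OneG.card_le q le_rfl n1
    have k3 : p.L.relIndex (centralizer {z}) ≠ 1 := fun e => by
      have := p.fF t (relIndex_eq_one.1 e (Rec.mem_cen.2 tz)) t2 w (hD (s.le_Tv hw)) (s.e8.sq w hw)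
      rw [tw, mul_inv_cancel_right] at this
      exact this.elim i2 i3
    have k4 : 0 < Nat.card (centralizer ({z} : Set G)) := Nat.card_pos
    rw [b6, show Nat.card (Rec.clos [x2, q2]) = 24 from p.g2.2] at k2
    rw [p.gL.2] at k1
    omega
  obtain ⟨τ, hτ, t3, t4⟩ := s.trans3 hu hw hw hu hi ⟨i1, i4, i5, i2, i3, i6.symm, fun e => i7 (by rw [e, sq_cancel zz])⟩
  obtain ⟨σ, -, s1, s2, -⟩ := s.full z s.mem u hu w hw u hu z s.mem w hw hi
    ⟨i2, i1, i3.symm, i4, i6, i5, s.e8.comm s.mem hu ▸ i7⟩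
  obtain ⟨f⟩ := p.exists_fl hidx ⟨u, w, t, τ, σ, s.e8.sq u hu, s.e8.sq w hw, s.e8.comm hu hw, s.e8.comm hw s.mem, i2, i3,
    i6, i7, conj_eq_of_comm tz, tw, Rec.mem_cen'.1 hτ.2, t3, t4, s1, s2⟩
  exact ⟨ZMod 3, inferInstance, inferInstance, ZMod.card 3, f.fin⟩

end Cfsg.Agent.Rk3
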