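import Mathlib
import Cfsg.Agent.Rk3.Full

set_option autoImplicit false
set_option linter.unusedSectionVars false

namespace Cfsg.Agent.Rk3

open Cfsg Subgroup Cfsg.Agent.GT Cfsg.Agent.Loc.Mss Cfsg.Agent.NE Cfsg.Agent.Spor
open scoped commutatorElement

variable {G : Type*} [Group G] [Finite G]

namespace TwoA

theorem exists_perf {H : Subgroup G} (h : ¬ Group.IsSolvable H) : ∃ K ≤ H, ⁅K, K⁆ = K ∧ K ≠ ⊥ := by
  obtain ⟨_, ⟨n, rfl⟩, hn⟩ := (wellFounded_lt (α := Subgroup H)).has_min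
    (Set.range (derivedSeries H)) (Set.range_nonempty _)
  have e : ⁅derivedSeries H n, derivedSeries H n⁆ = derivedSeries H n :=
    eq_of_le_of_not_lt (commutator_le_self _) (hn _ ⟨n + 1, rfl⟩)
  refine ⟨(derivedSeries H n).map H.subtype, map_subtype_le _, by rw [← map_commutator, e], fun k => h ⟨⟨n, ?_⟩⟩⟩
  exact (map_eq_bot_iff_of_injective _ H.subtype_injective).1 k

theorem perf_sup {K L : Subgroup G} (hK : ⁅K, K⁆ = K) (hL : ⁅L, L⁆ = L) : ⁅K ⊔ L, K ⊔ L⁆ = K ⊔ L :=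
  le_antisymm (commutator_le_self _) (sup_le (hK.ge.trans (commutator_mono le_sup_left le_sup_left))
    (hL.ge.trans (commutator_mono le_sup_right le_sup_right)))

theorem card_of_sq {F : Subgroup G} (hF : ∀ e ∈ F, e * e = 1) (h8 : Nat.card F ≤ 8) :
    Nat.card F ≤ 4 ∨ Nat.card F = 8 := by
  have : Fact (Nat.Prime 2) := ⟨Nat.prime_two⟩
  obtain ⟨n, hn⟩ := (isPGroup_of_sq hF).exists_card_eq
  have k : n ≤ 3 := by
    by_contra k
    have := Nat.pow_le_pow_right two_pos (show 4 ≤ n by omega)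
    omega
  interval_cases n <;> omega

end TwoA

open TwoA

theorem Hyp.exists_pk (h : Hyp G) {T : Subgroup G} (hT : IsPGroup 2 T) (h0 : T ≠ ⊥) (hs : ¬ Group.IsSolvable ↥𝐍[T])
    (hf : ∀ V : Subgroup G, E8 V → ¬ Full V) : ∃ K : Subgroup G, PK K := by
  have : Fact (Nat.Prime 2) := ⟨Nat.prime_two⟩
  obtain ⟨K₀, k1, k2, k3⟩ := exists_perf hs
  obtain ⟨K, ⟨hp, hne, T', hT', h0', hn'⟩, hmax⟩ := (wellFounded_gt (α := Subgroup G)).has_min
    {K | ⁅K, K⁆ = K ∧ K ≠ ⊥ ∧ ∃ T' : Subgroup G, IsPGroup 2 T' ∧ T' ≠ ⊥ ∧ K ≤ 𝐍[T']} ⟨K₀, k2, k3, T, hT, h0, k1⟩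
  have star : ∀ F : Subgroup G, IsPGroup 2 F → F ≠ ⊥ → K ≤ 𝐍[F] → ∀ g : G, cj(g, K) ≤ 𝐍[F] → g ∈ 𝐍[K] :=
    fun F hF hF0 hK g hg => mem_norm_of_cj_le (le_sup_right.trans (eq_of_le_of_not_lt le_sup_left (hmax (K ⊔ cj(g, K))
      ⟨perf_sup hp (by rw [← cj_comm, hp]), fun e => hne (eq_bot_iff.2 (e ▸ le_sup_left)), F, hF, hF0,
        sup_le hK hg⟩)).ge)
  have star' : ∀ F : Subgroup G, IsPGroup 2 F → F ≠ ⊥ → K ≤ 𝐍[F] → 𝐍[F] ≤ 𝐍[K] :=
    fun F hF hF0 hK g hg => star F hF hF0 hK g (cj_le_of_mem hK hg)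
  have c1 : ChP 2 K := (h.chp T' hT' h0').of_normal hn' (star' T' hT' h0' hn')
  have c2 : pCoreOf 2 K ≠ ⊥ := fun e => hne (eq_bot_iff.2 (by
    have := c1.le_core le_rfl (by rw [e, cent_bot]; exact le_top)
    rwa [e] at this))
  have c3 : 𝐍[K] = 𝐍[pCoreOf 2 K] := le_antisymm (norm_core le_rfl) (star' _ (pg_core K) c2 (le_norm_core K))
  have c4 : ∀ F : Subgroup G, (∀ e ∈ F, e * e = 1) → K ≤ 𝐍[F] → K ≤ 𝐂[F] := fun F hF hK => by
    rcases card_of_sq hF (h.r3 F hF) with e | e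
    · exact comm_eq_bot_iff'.1 (eq_bot_iff.2 (pf hp hK (norm_normal _ _) bot_le (by rw [card_bot]; omega)))
    · by_contra k
      exact hf F ⟨hF, e⟩ (full_of_perfect ⟨hF, e⟩ hp hK k)
  refine ⟨K, hp, hne, c3 ▸ h.chp _ (pg_core K) c2, c4, fun F hF hK => ?_⟩
  have c5 := c4 F hF (le_normalizer.trans hK)
  refine ⟨hF, (cent_comm c5).trans (cent_le_norm K), hK, fun e he e1 g hg => ?_⟩
  have k : ∀ x : G, x * e = e * x → x ∈ 𝐍[zpowers e] := fun x hx =>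
    cent_le_norm _ (mem_cent.2 fun a ha => (comm_zpowers hx ha).symm)
  refine (inv_mem_iff).1 (star (zpowers e) (isPGroup_zpowers (k := 1) (by rw [pow_one, pow_two, hF e he]))
    (by simpa using e1) (fun x hx => k x (mem_cent.1 (c5 hx) e he).symm) g⁻¹ (cj_le_iff.2 fun x hx => k _ ?_))
  have := conj_comm g⁻¹ (mem_cent.1 (c5 hx) _ hg)
  simpa [mul_assoc] using this.symm

end Cfsg.Agent.Rk3
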