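import Mathlib
import Cfsg.Agent.Rk3.Full
import Cfsg.Agent.Rk3.TI

/-! The critical subgroup `D₀` for a perfect subgroup `K`. -/

set_option autoImplicit false
set_option linter.unusedSectionVars false

namespace Cfsg.Agent.Rk3

open Cfsg Subgroup Cfsg.Agent.GT Cfsg.Agent.Loc.Mss Cfsg.Agent.NE Cfsg.Agent.Spor
open scoped commutatorElement

variable {G : Type*} [Group G] [Finite G]

namespace TwoB

variable {D K : Subgroup G}

theorem eq_bot_of_pg (hK : ⁅K, K⁆ = K) (h : IsPGroup 2 K) : K = ⊥ :=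
  haveI : Fact (Nat.Prime 2) := ⟨Nat.prime_two⟩
  haveI := h.isNilpotent
  perfect_eq_bot_of_isSolvable hK inferInstance

theorem sq_mul (d e : G) : d * e * (d * e) = d * d * ⁅d⁻¹, e⁆ * (e * e) := by
  simp only [commutatorElement_def]; group

/-- A minimal invariant 2-subgroup not centralised by `K`. -/
structure Mn (K D : Subgroup G) : Prop where
  perf : ⁅K, K⁆ = K
  pg : IsPGroup 2 D
  norm : 𝐍[K] ≤ 𝐍[D]
  nc : ¬ D ≤ 𝐂[K]
  min : ∀ X ≤ D, 𝐍[K] ≤ 𝐍[X] → D ≤ X ∨ X ≤ 𝐂[K]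

theorem exists_mn (hK : PK K) : ∃ D, Mn K D := by
  obtain ⟨D, ⟨h1, h2, h3⟩, hm⟩ := exists_minimal_of_wellFoundedLT
    (fun X : Subgroup G => IsPGroup 2 X ∧ 𝐍[K] ≤ 𝐍[X] ∧ ¬ X ≤ 𝐂[K])
    ⟨pCoreOf 2 𝐍[K], pg_core _, le_norm_core _, fun k => hK.ne (eq_bot_of_pg hK.perf
      ((pg_core (p := 2) 𝐍[K]).to_le fun x hx => hK.chp ⟨le_normalizer hx, cent_comm k hx⟩))⟩
  exact ⟨D, hK.perf, h1, h2, h3, fun X hX hn => or_iff_not_imp_right.2 fun k =>
    hm ⟨h1.to_le hX, hn, k⟩ hX⟩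

namespace Mn

variable (m : Mn K D)
include m

theorem comm_eq : ⁅D, K⁆ = D := by
  have k := comm_le_left (le_normalizer.trans m.norm)
  refine le_antisymm k ((m.min _ k (norm_comm m.norm le_rfl)).resolve_right fun e => m.nc ?_)
  exact comm_eq_bot_iff.1 (le_bot_iff.1 (comm_le_of_perfect m.perf (norm_normal _ _) (norm_normal _ _)
    (comm_eq_bot_iff.2 e).le))

theorem der_le : ⁅D, D⁆ ≤ 𝐂[K] := by
  have k := comm_le_left (le_normalizer (H := D))
  exact (m.min _ k (norm_comm m.norm m.norm)).resolve_left fun e =>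
    m.nc ((eq_bot_of_pg (le_antisymm k e) m.pg).le.trans bot_le)

theorem sq_mem {d : G} (hd : d ∈ D) : d * d ∈ 𝐂[K] := by
  let X : Subgroup G :=
    { carrier := {d | d ∈ D ∧ d * d ∈ 𝐂[K]}
      one_mem' := ⟨one_mem _, by simp⟩
      mul_mem' := fun {a b} ha hb => ⟨mul_mem ha.1 hb.1, by
        rw [sq_mul]
        exact mul_mem (mul_mem ha.2 (m.der_le (commutator_mem_commutator (inv_mem ha.1) hb.1))) hb.2⟩
      inv_mem' := fun {a} ha => ⟨inv_mem ha.1, by rw [← mul_inv_rev]; exact inv_mem ha.2⟩ }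
  have hn : 𝐍[K] ≤ 𝐍[X] := norm_of_forall_cj_le fun g hg => cj_le_iff.2 fun a ha =>
    ⟨conj_mem_of_norm (m.norm hg) ha.1, by
      rw [← conj_mul']; exact conj_mem_of_norm (norm_cent le_rfl hg) ha.2⟩
  refine (((m.min X (fun _ h => h.1) hn).resolve_right fun e => ?_) hd).2
  obtain ⟨x, hx, h1⟩ := SetLike.not_le_iff_exists.1 m.nc
  obtain ⟨y, hy, h2, h3⟩ := exists_pow_not_mem m.pg hx h1
  exact h2 (e ⟨zpowers_le.2 hx hy, h3⟩)

theorem central {c d : G} (hc : c ∈ D) (h : c ∈ 𝐂[K]) (hd : d ∈ D) : d * c = c * d := by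
  have k : ⁅⁅K, D⁆, D ⊓ 𝐂[K]⁆ ≤ ⊥ := Loc.Mss.three_subgroups (norm_normal _ _) (norm_normal _ _)
    (norm_normal _ _)
    (comm_eq_bot_iff.2 ((commutator_mono le_rfl inf_le_left).trans m.der_le)).le
    (by rw [comm_eq_bot_iff.2 (inf_le_right (a := D)), commutator_bot_left])
  rw [commutator_comm K, m.comm_eq, le_bot_iff, comm_eq_bot_iff'] at k
  exact mem_cent.1 (k ⟨hc, h⟩) d hd

theorem comm_sq {d e : G} (hd : d ∈ D) (he : e ∈ D) : ⁅d, e⁆ * ⁅d, e⁆ = 1 := by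
  have hc := commutator_mem_commutator hd he
  have k1 := m.central (comm_le_left le_normalizer hc) (m.der_le hc) hd
  have k2 := m.central (mul_mem hd hd) (m.sq_mem hd) he
  calc _ = ⁅d, e⁆ * d * e * d⁻¹ * e⁻¹ := by simp only [commutatorElement_def]; group
    _ = d * d * e * (d * d)⁻¹ * e⁻¹ := by rw [← k1]; simp only [commutatorElement_def]; group
    _ = 1 := by rw [← k2]; group

theorem four_mul {d e : G} (hd : d ∈ D) (he : e ∈ D) :
    d * e * (d * e) * (d * e * (d * e)) = d * d * (d * d) * (e * e * (e * e)) := by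
  have hc := commutator_mem_commutator (inv_mem hd) he
  have k0 := m.comm_sq (inv_mem hd) he
  have k1 := m.central (comm_le_left le_normalizer hc) (m.der_le hc) (mul_mem he he)
  have k2 := m.central (mul_mem hd hd) (m.sq_mem hd) (mul_mem (comm_le_left le_normalizer hc)
    (mul_mem he he))
  rw [TwoB.sq_mul d e]
  generalize ⁅d⁻¹, e⁆ = c at k0 k1 k2 ⊢
  generalize d * d = a at k2 ⊢
  generalize e * e = b at k1 k2 ⊢
  calc _ = a * (c * b * a) * (c * b) := by group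
    _ = a * a * (c * (b * c) * b) := by rw [k2]; group
    _ = _ := by rw [k1, ← mul_assoc c, k0, one_mul]

theorem four {d : G} (hd : d ∈ D) : d * d * (d * d) = 1 := by
  let Y : Subgroup G :=
    { carrier := {d | d ∈ D ∧ d * d * (d * d) = 1}
      one_mem' := ⟨one_mem _, by simp⟩
      mul_mem' := fun {a b} ha hb => ⟨mul_mem ha.1 hb.1, by rw [m.four_mul ha.1 hb.1, ha.2, hb.2, one_mul]⟩
      inv_mem' := fun {a} ha => ⟨inv_mem ha.1, by rw [← mul_inv_rev, ← mul_inv_rev, ha.2, inv_one]⟩ }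
  have : ⁅D, K⁆ ≤ Y := commutator_le.2 fun a ha k hk => by
    have h1 : k * a⁻¹ * k⁻¹ ∈ D := conj_mem_of_norm (m.norm (le_normalizer hk)) (inv_mem ha)
    have e : ⁅a, k⁆ = a * (k * a⁻¹ * k⁻¹) := by simp only [commutatorElement_def, mul_assoc]
    refine e ▸ ⟨mul_mem ha h1, ?_⟩
    rw [m.four_mul ha h1, ← conj_mul', conj_eq_of_comm (mem_cent.1 (m.sq_mem (inv_mem ha)) k hk)]
    group
  exact ((m.comm_eq.ge.trans this) hd).2

/-- The involutions of the centraliser of `K` in `D`. -/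
def om : Subgroup G where
  carrier := {c | (c ∈ D ∧ c ∈ 𝐂[K]) ∧ c * c = 1}
  one_mem' := ⟨⟨one_mem _, one_mem _⟩, one_mul _⟩
  mul_mem' := fun {a b} ha hb => ⟨⟨mul_mem ha.1.1 hb.1.1, mul_mem ha.1.2 hb.1.2⟩, by
    rw [sq_mul_of_comm (m.central hb.1.1 hb.1.2 ha.1.1), ha.2, hb.2, one_mul]⟩
  inv_mem' := fun {a} ha => ⟨⟨inv_mem ha.1.1, inv_mem ha.1.2⟩, by rw [← mul_inv_rev, ha.2, inv_one]⟩

theorem norm_om : 𝐍[K] ≤ 𝐍[m.om] := norm_of_forall_cj_le fun g hg => cj_le_iff.2 fun a ha =>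
  ⟨⟨conj_mem_of_norm (m.norm hg) ha.1.1, conj_mem_of_norm (norm_cent le_rfl hg) ha.1.2⟩, by
    rw [← conj_mul', ha.2, mul_one, mul_inv_cancel]⟩

theorem sq_mem_om {d : G} (hd : d ∈ D) : d * d ∈ m.om := ⟨⟨mul_mem hd hd, m.sq_mem hd⟩, m.four hd⟩

end Mn

end TwoB

open TwoB

theorem Hyp.exists_d0 (h : Hyp G) {K : Subgroup G} (hK : PK K) :
    ∃ (z : G) (D₀ : Subgroup G), DD z D₀ ∧ 𝐍[K] = centralizer {z} ∧ ⁅D₀, K⁆ = D₀ ∧ ¬ K ≤ 𝐂[D₀] := by
  obtain ⟨D, m⟩ := exists_mn hK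
  have hsq : ∀ e ∈ m.om, e * e = 1 := fun _ he => he.2
  have hT := hK.ti _ hsq m.norm_om
  have nc : ¬ K ≤ 𝐂[D] := fun k => m.nc (cent_comm k)
  haveI : Fact (Nat.Prime 2) := ⟨Nat.prime_two⟩
  obtain ⟨n, hn⟩ := (isPGroup_of_sq hsq).exists_card_eq
  have k8 := h.r3 _ hsq
  have k3 : n ≤ 3 := by
    by_contra k
    have := Nat.pow_le_pow_right two_pos (show 4 ≤ n by omega)
    omega
  have k1 : Nat.card m.om ≠ 1 := fun e => nc (hK.cen D (fun d hd =>
    mem_bot.1 (card_eq_one.1 e ▸ m.sq_mem_om hd)) (le_normalizer.trans m.norm))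
  have k4 : Nat.card m.om ≠ 4 := fun e => by
    have := h.four hT e (fun _ k => k.1.1) m.norm
      (fun d hd => mem_cent.2 fun c hc => (m.central hc.1.1 hc.1.2 hd).symm) fun d hd => m.sq_mem_om hd
    exact m.nc (m.comm_eq.ge.trans ((pf hK.perf (le_normalizer.trans m.norm)
      (le_normalizer.trans m.norm_om) (fun _ k => k.1.1) (by omega)).trans fun _ k => k.1.2))
  have k5 := h.eight hT
  have k2 : Nat.card m.om = 2 := by interval_cases n <;> omega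
  obtain ⟨⟨z, hz⟩, z1, zu⟩ := (Nat.card_eq_two_iff' (1 : m.om)).1 k2
  have z1' : z ≠ 1 := fun e => z1 (Subtype.ext e)
  have key : ∀ y ∈ m.om, y = 1 ∨ y = z := fun y hy => or_iff_not_imp_left.2 fun e =>
    congrArg Subtype.val (zu ⟨y, hy⟩ fun k => e (congrArg Subtype.val k))
  have e : 𝐍[K] = centralizer {z} := le_antisymm (fun g hg => Rec.mem_cen.2 (comm_of_conj_eq
    ((key _ (conj_mem_of_norm (m.norm_om hg) hz)).resolve_left (by simpa using z1'))))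
    fun g hg => hT.ti z hz z1' g (by rw [conj_eq_of_comm (Rec.mem_cen.1 hg)]; exact hz)
  exact ⟨z, D, ⟨hz.1.1, z1', hz.2, fun d hd => (m.central hz.1.1 hz.1.2 hd).symm,
    fun d hd => key _ (m.sq_mem_om hd), fun c hc d hd =>
      conj_mem_of_norm (m.norm (e.ge (Rec.mem_cen.2 hc.symm))) hd⟩, e, m.comm_eq, nc⟩

end Cfsg.Agent.Rk3
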