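import Mathlib
import Cfsg.Agent.Rk3.TwoA
import Cfsg.Agent.Rk3.TwoB
import Cfsg.Agent.Rk3.Max
import Cfsg.Agent.Rk3.Plus

set_option autoImplicit false
set_option linter.unusedSectionVars false

namespace Cfsg.Agent.Rk3

open Cfsg Subgroup Cfsg.Agent.GT Cfsg.Agent.Loc.Mss Cfsg.Agent.NE Cfsg.Agent.Spor
open scoped commutatorElement

variable {G : Type*} [Group G] [Finite G]

namespace TwoC

/-- A Sylow subgroup of `C(z)` above a self-centralising extraspecial group is a Sylow subgroup of `G`. -/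
theorem syl_top {D S : Subgroup G} {z : G} (h : ES2 D z) (hc : 𝐂[D] ≤ D) (hS : Syl 2 S (centralizer {z}))
    (hDS : D ≤ S) : Syl 2 S ⊤ := by
  have : Fact (Nat.Prime 2) := ⟨Nat.prime_two⟩
  refine Syl.of_norm hS.pg le_top fun P hP h1 _ h2 => hS.ge_of_le hP h1 (h2.trans fun g hg => ?_)
  have k : ∀ d ∈ D, g * z * g⁻¹ * d = d * (g * z * g⁻¹) := fun d hd => by
    have := conj_comm g (Rec.mem_cen.1 (hS.le (conj_mem_of_norm' hg (hDS hd))))
    simpa [mul_assoc] using this.symm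
  rcases h.center _ (hc (mem_cent.2 fun d hd => (k d hd).symm)) k with e | e
  · exact absurd (by simpa using e) h.z_ne
  · exact Rec.mem_cen.2 (comm_of_conj_eq e)

theorem e8_le {D E : Subgroup G} {z : G} (h : AES D z) (h' : ES2 D z) (hc : 𝐂[D] ≤ D) (hE : E8 E) (hz : z ∈ E)
    (h1 : E ≤ 𝐍[D]) (h2 : D ≤ 𝐍[E]) : E ≤ D := by
  intro e he
  by_contra k
  have mz : ∀ {x : G}, x ∈ zpowers z ↔ x = 1 ∨ x = z := mem_zpowers_iff_of_sq h.z_sq
  have a1 : ∀ d ∈ D, e * d * e⁻¹ * d⁻¹ ∈ D := fun d hd => mul_mem (conj_mem_of_norm (h1 he) hd) (inv_mem hd)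
  have a2 : ∀ d ∈ D, e * d * e⁻¹ * d⁻¹ ∈ E := fun d hd => by
    simpa [mul_assoc] using mul_mem he (conj_mem_of_norm (h2 hd) (inv_mem he))
  have a3 : ∀ d ∈ D, e * d * e⁻¹ * d⁻¹ ∈ zpowers z := by
    by_cases c : ∀ s ∈ E, s ∈ D → s ∈ zpowers z
    · exact fun d hd => c _ (a2 d hd) (a1 d hd)
    push Not at c
    obtain ⟨s, s1, s2, s3⟩ := c
    rw [mz, not_or] at s3
    have ss := hE.sq s s1
    obtain ⟨f, hf, hsf⟩ : ∃ f ∈ D, s * f ≠ f * s := by
      by_contra! c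
      exact (h'.center s s2 c).elim s3.1 s3.2
    have hi : Ind z s e := ⟨h.z_ne, s3.1, s3.2, fun c => k (c ▸ one_mem _), fun c => k (c ▸ h.z_mem),
      fun c => k (c ▸ s2), fun c => k (c ▸ mul_mem h.z_mem s2)⟩
    refine nst h le_rfl (zpowers_le.2 h.z_mem) (fun u hu => by rcases mz.1 hu with rfl | rfl; exacts [mul_one _, h.z_sq])
      (fun u hu a ha => by rcases mz.1 hu with rfl | rfl; exacts [by simp, h.z_comm a ha]) s2 ss hf hsf
      (hE.comm hz he) fun a ha => ?_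
    have b1 := a1 a ha
    rcases hE.cases hz s1 he hi (a2 a ha) with (c | c | c | c) | c | c | c | c <;> rw [c] at b1 ⊢
    · exact .inl (one_mem _)
    · exact .inl (mem_zpowers z)
    · exact .inr (ss ▸ one_mem _)
    · exact .inr (by rw [h.z_comm s s2, sq_cancel ss]; exact mem_zpowers z)
    · exact absurd b1 k
    · exact absurd ((mul_mem_cancel_left h.z_mem).1 b1) k
    · exact absurd ((mul_mem_cancel_left s2).1 b1) k
    · exact absurd ((mul_mem_cancel_left (mul_mem h.z_mem s2)).1 b1) k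
  exact k (h'.mem_of_triv hc fun d hd =>
    (mz.1 (a3 d hd)).imp (fun c => mul_inv_eq_one.1 c) fun c => mul_inv_eq_iff_eq_mul.1 c)

end TwoC

open TwoC

theorem Hyp.exists_full (h : Hyp G) {T : Subgroup G} (hT : IsPGroup 2 T) (h0 : T ≠ ⊥)
    (hs : ¬ Group.IsSolvable ↥𝐍[T]) : ∃ V : Subgroup G, E8 V ∧ Full V := by
  have : Fact (Nat.Prime 2) := ⟨Nat.prime_two⟩
  by_contra! hf
  obtain ⟨K, hK⟩ := h.exists_pk hT h0 hs hf
  obtain ⟨z, D₀, d0, hN, hD₀, hnc⟩ := h.exists_d0 hK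
  obtain ⟨D, hle, hD, hmax⟩ := h.exists_max d0
  have key : ∀ X ≤ 𝐂[K], ¬ ⁅D, K⁆ ≤ X := fun X hX e =>
    hnc (cent_comm ((hD₀.ge.trans (commutator_mono hle le_rfl)).trans (e.trans hX)))
  have nD : centralizer {z} ≤ 𝐍[D] := fun c hc =>
    mem_norm_of_cj_le (cj_le_iff.2 (hD.norm c (Rec.mem_cen.1 hc).symm))
  have Kz : K ≤ centralizer {z} := hN ▸ le_normalizer
  have Dz : D ≤ centralizer {z} := fun d hd => Rec.mem_cen.2 (hD.z_comm d hd).symm
  have kz : ¬ ⁅D, K⁆ ≤ zpowers z := key _ (zpowers_le.2 (mem_cent.2 fun k hk => Rec.mem_cen.1 (Kz hk)))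
  have mF : ∀ {x : G}, x ∈ ΩZ[2, D] ↔ x ∈ D ∧ x ∈ 𝐂[D] ∧ x * x = 1 := by simp only [mem_oz, pow_two, implies_true]
  have hF : ∀ e ∈ ΩZ[2, D], e * e = 1 := fun e he => (mF.1 he).2.2
  have zF : z ∈ ΩZ[2, D] := mF.2 ⟨hD.z_mem, mem_cent.2 fun d hd => (hD.z_comm d hd).symm, hD.z_sq⟩
  have nF : 𝐍[K] ≤ 𝐍[ΩZ[2, D]] := hN ▸ norm_oz nD
  have hti := hK.ti _ hF nF
  have aes : AES D z := hD.aes fun x hx x2 hq => by
    by_contra! c
    have xF : x ∈ ΩZ[2, D] := mF.2 ⟨hx, mem_cent.2 fun d hd => (hq d hd).symm, x2⟩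
    obtain ⟨-, -, a3⟩ := ext_elem (A := zpowers z) (fun u hu => hF u (zpowers_le.2 zF hu)) x2
      fun a ha => comm_zpowers (hq z hD.z_mem) ha
    have a4 := card_le_of_le (ext_le.2 ⟨zpowers_le.2 zF, xF⟩)
    rw [a3 (by rw [mem_zpowers_iff_of_sq hD.z_sq, not_or]; exact c), card_zpowers_of_sq hD.z_ne hD.z_sq] at a4
    have a5 : Nat.card ΩZ[2, D] = 4 := by
      have := h.eight hti
      have := TwoA.card_of_sq hF (h.r3 _ hF)
      omega
    have a6 := h.four hti a5 (oz_le D) (hN ▸ nD) (le_cent_oz D) fun d hd => by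
      rcases hD.sq d hd with e | e <;> rw [e]
      exacts [one_mem _, zF]
    exact key _ (cent_comm (hK.cen _ hF (le_normalizer.trans nF)))
      (pf hK.perf (Kz.trans nD) (le_normalizer.trans nF) (oz_le D) (by omega))
  obtain ⟨h32, hc⟩ := hmax aes
  obtain ⟨es, c32⟩ := aes_perfect aes h32 hK.perf (Kz.trans nD) Kz kz
  obtain ⟨S, hDS, hS⟩ := Syl.exists_ge aes.isPGroup Dz
  obtain ⟨T₁, E₀, t1, t2, t3, t4, t5⟩ := h.n8
  obtain ⟨g, -, rfl⟩ := t1.conj_eq (syl_top es (hc es) hS hDS)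
  have hE := (⟨t4, t5⟩ : E8 E₀).conj g
  have e1 : cj(g, E₀) ≤ centralizer {z} := (cj_mono g t2).trans hS.le
  have zE := h.mem_of_comm hE hD.z_sq fun v hv => (Rec.mem_cen.1 (e1 hv)).symm
  have e2 := e8_le aes es (hc es) hE zE (e1.trans nD) (hDS.trans ((cj_mono g t3).trans (cj_norm _ _).le))
  obtain ⟨u, hu, w, hw, hi⟩ := hE.exists_second hD.z_ne
  obtain ⟨a, b, a', b', q, -⟩ := exists_q2 es c32 hE e2 zE hu hw hi
  exact kz (q.perfect hK.perf (Kz.trans nD))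

end Cfsg.Agent.Rk3
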